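import Mathlib.RingTheory.TensorProduct.Quotient
import Mathlib.RingTheory.LocalRing.ResidueField.Instances
import Mathlib.RingTheory.Ideal.GoingUp
import Mathlib.RingTheory.LocalRing.ResidueField.Basic

/-!
Integral algebras over a local ring whose closed fibre is a field.
-/

set_option autoImplicit false

universe u v w

namespace K143.LocalField

open IsLocalRing TensorProduct

/-- The kernel of `S → κ ⊗_R S` is `m_R S`. -/
theorem includeRight_eq_zero_iff {R : Type u} {S : Type v} [CommRing R] [IsLocalRing R]
    [CommRing S] [Algebra R S] (s : S) :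
    ((1 : ResidueField R) ⊗ₜ[R] s = 0) ↔ s ∈ (maximalIdeal R).map (algebraMap R S) := by
  have h := Algebra.TensorProduct.quotIdealMapEquivQuotTensor_mk S (maximalIdeal R) s
  rw [← Ideal.Quotient.eq_zero_iff_mem]
  constructor
  · intro h0
    have h1 : Algebra.TensorProduct.quotIdealMapEquivQuotTensor S (maximalIdeal R) (Ideal.Quotient.mk _ s) = 0 :=
      h.trans h0
    exact (map_eq_zero_iff _ (AlgEquiv.injective _)).mp h1
  · intro h0
    have h2 : (1 : ResidueField R) ⊗ₜ[R] s =
        Algebra.TensorProduct.quotIdealMapEquivQuotTensor S (maximalIdeal R) (Ideal.Quotient.mk _ s) := h.symm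
    rw [h2, h0, map_zero]
    rfl

theorem includeRight_surjective {R : Type u} {S : Type v} [CommRing R] [IsLocalRing R]
    [CommRing S] [Algebra R S] :
    Function.Surjective (fun s : S => (1 : ResidueField R) ⊗ₜ[R] s) := by
  intro z
  induction z using TensorProduct.induction_on with
  | zero => exact ⟨0, by simp⟩
  | tmul a s =>
    obtain ⟨r, rfl⟩ := residue_surjective a
    refine ⟨r • s, ?_⟩
    change (1 : ResidueField R) ⊗ₜ[R] (r • s) = _
    rw [← TensorProduct.smul_tmul]
    congr 1
    rw [Algebra.smul_def, mul_one]
    rfl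
  | add x y hx hy =>
    obtain ⟨a, rfl⟩ := hx
    obtain ⟨b, rfl⟩ := hy
    exact ⟨a + b, by simp [TensorProduct.tmul_add]⟩

variable (R : Type u) (S : Type v) [CommRing R] [IsLocalRing R] [CommRing S] [Algebra R S]
  [Algebra.IsIntegral R S]

/-- Every maximal ideal of an integral algebra over a local ring contains `m_R S`. -/
theorem map_le_of_isMaximal (M : Ideal S) [M.IsMaximal] :
    (maximalIdeal R).map (algebraMap R S) ≤ M := by
  rw [Ideal.map_le_iff_le_comap]
  have h : (M.comap (algebraMap R S)).IsMaximal := Ideal.isMaximal_comap_of_isIntegral_of_isMaximal M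
  exact (IsLocalRing.eq_maximalIdeal h).ge

variable {L : Type w} [Field L] (g : S →+* L) (hg : Function.Surjective g)
  (hk : ∀ s : S, g s = 0 → s ∈ (maximalIdeal R).map (algebraMap R S))

include hg hk

theorem isLocalRing : IsLocalRing S := by
  have hM : (RingHom.ker g).IsMaximal := RingHom.ker_isMaximal_of_surjective g hg
  refine IsLocalRing.of_unique_max_ideal ⟨RingHom.ker g, hM, fun M hM' => ?_⟩
  have h1 : RingHom.ker g ≤ M := fun s hs => map_le_of_isMaximal R S M (hk s hs)
  exact (hM.eq_of_le hM'.ne_top h1).symm

theorem maximalIdeal_eq [IsLocalRing S] : maximalIdeal S = (maximalIdeal R).map (algebraMap R S) := by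
  have hM : (RingHom.ker g).IsMaximal := RingHom.ker_isMaximal_of_surjective g hg
  have h1 : RingHom.ker g = maximalIdeal S := IsLocalRing.eq_maximalIdeal hM
  refine le_antisymm (fun s hs => hk s ?_) (map_le_of_isMaximal R S _)
  rw [← h1] at hs
  exact hs

theorem ker_eq [IsLocalRing S] : RingHom.ker g = maximalIdeal S := by
  have hM : (RingHom.ker g).IsMaximal := RingHom.ker_isMaximal_of_surjective g hg
  exact IsLocalRing.eq_maximalIdeal hM

theorem isLocalHom [IsLocalRing S] : IsLocalHom (algebraMap R S) := by
  rw [((IsLocalRing.local_hom_TFAE (algebraMap R S)).out 0 2 :)]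
  exact map_le_of_isMaximal R S _

/-- The map from the residue field of `S` to `L`. -/
noncomputable def residueMap [IsLocalRing S] : ResidueField S →+* L :=
  Ideal.Quotient.lift (maximalIdeal S) g (fun s hs => by
    rw [← ker_eq R S g hg hk] at hs
    exact hs)

theorem residueMap_residue [IsLocalRing S] (s : S) :
    residueMap R S g hg hk (residue S s) = g s := Ideal.Quotient.lift_mk _ _ _

/-- The residue field of `S` is `L`. -/
noncomputable def residueEquiv [IsLocalRing S] : ResidueField S ≃+* L :=
  RingEquiv.ofBijective (residueMap R S g hg hk) ⟨RingHom.injective _, fun l => by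
      obtain ⟨s, rfl⟩ := hg l
      exact ⟨residue S s, residueMap_residue R S g hg hk s⟩⟩

theorem residueEquiv_residue [IsLocalRing S] (s : S) :
    residueEquiv R S g hg hk (residue S s) = g s := residueMap_residue R S g hg hk s

end K143.LocalField
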