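import Groth.Agent.UnramB.EssEtale
import Groth.Agent.Vancyc.H677.HensFin
import Groth.Agent.S0519
import Groth.Agent.Hensel.K143.LocalField
import Mathlib.RingTheory.Unramified.LocalRing
import Mathlib.RingTheory.Etale.Basic
import Mathlib.RingTheory.FinitePresentation

/-!
Essentially étale local algebras over henselian local rings are finite étale; finite étale algebras
over a henselian local ring are determined by their closed fibre.
-/

set_option autoImplicit false

universe u

namespace K143.EssEt

open IsLocalRing TensorProduct

section

variable (A E : Type u) [CommRing A] [HenselianLocalRing A] [CommRing E] [IsLocalRing E]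
  [Algebra A E] [IsLocalHom (algebraMap A E)]

/-- An essentially étale local algebra over a henselian local ring is finite. -/
theorem module_finite (h : EGA4loc.IsEssentiallyEtale A E) : Module.Finite A E := by
  have hE := h
  obtain ⟨C, _, _, q, _, hC, hq, ⟨e⟩⟩ := h
  have hlies : q.LiesOver (maximalIdeal A) := ⟨hq.symm⟩
  have : IsLocalHom (algebraMap A (Localization.AtPrime q)) := by
    have h1 : (algebraMap A (Localization.AtPrime q)) = (e : E →+* Localization.AtPrime q).comp (algebraMap A E) := by
      ext a
      exact (e.commutes a).symm
    rw [h1]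
    infer_instance
  have : Algebra.FormallyUnramified A (Localization.AtPrime q) := by
    have : Algebra.FormallyUnramified C (Localization.AtPrime q) :=
      Algebra.FormallyUnramified.of_isLocalization q.primeCompl
    exact Algebra.FormallyUnramified.comp A C _
  have : Algebra.EssFiniteType A (Localization.AtPrime q) := by
    have : Algebra.EssFiniteType C (Localization.AtPrime q) :=
      Algebra.EssFiniteType.of_isLocalization _ q.primeCompl
    exact Algebra.EssFiniteType.comp A C _
  have h2 : (maximalIdeal A).map (algebraMap A (Localization.AtPrime q)) = maximalIdeal _ :=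
    Algebra.FormallyUnramified.map_maximalIdeal
  have h3 : Module.Finite A (ResidueField (Localization.AtPrime q)) := by
    have : Module.Finite A (ResidueField A) := Module.Finite.of_surjective
      (Algebra.linearMap A (ResidueField A)) residue_surjective
    exact Module.Finite.trans (ResidueField A) _
  have h4 : Module.Finite A (Localization.AtPrime q) := by
    apply Groth.Agent.Vancyc.H677.HensFin.finite_atPrime q hlies
    rw [h2]
    exact h3
  exact Module.Finite.equiv e.symm.toLinearEquiv

/-- An essentially étale local algebra over a Noetherian henselian local ring is étale. -/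
theorem etale [IsNoetherianRing A] (h : EGA4loc.IsEssentiallyEtale A E) : Algebra.Etale A E := by
  have h1 := module_finite A E h
  have h2 := Groth.Agent.UnramB.EssEtale.formallyEtale_of h
  have h3 : Algebra.FinitePresentation A E :=
    Algebra.FinitePresentation.of_finiteType.mp inferInstance
  exact ⟨h2, h3⟩

end

/-- Finite étale algebras over a henselian local ring with isomorphic closed fibres are isomorphic. -/
theorem nonempty_algEquiv (R : Type u) [CommRing R] [HenselianLocalRing R] (S₁ S₂ : Type u)
    [CommRing S₁] [CommRing S₂] [Algebra R S₁] [Algebra R S₂] [Module.Finite R S₁]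
    [Algebra.Etale R S₁] [Module.Finite R S₂] [Algebra.Etale R S₂]
    (e : (ResidueField R ⊗[R] S₁) ≃ₐ[ResidueField R] (ResidueField R ⊗[R] S₂)) :
    Nonempty (S₁ ≃ₐ[R] S₂) := by
  obtain ⟨φ, hφ⟩ := (Groth.Agent.S0519.result R S₁ S₂).2 e.toAlgHom
  obtain ⟨ψ, hψ⟩ := (Groth.Agent.S0519.result R S₂ S₁).2 e.symm.toAlgHom
  refine ⟨AlgEquiv.ofAlgHom φ ψ ?_ ?_⟩
  · apply (Groth.Agent.S0519.result R S₂ S₂).1
    change Algebra.TensorProduct.map _ _ = Algebra.TensorProduct.map _ _
    have h1 : Algebra.TensorProduct.map (AlgHom.id (ResidueField R) (ResidueField R)) (φ.comp ψ) =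
        (Algebra.TensorProduct.map (AlgHom.id (ResidueField R) (ResidueField R)) φ).comp
          (Algebra.TensorProduct.map (AlgHom.id (ResidueField R) (ResidueField R)) ψ) := by
      ext x
      simp
    rw [h1]
    change Algebra.TensorProduct.map _ φ = e.toAlgHom at hφ
    change Algebra.TensorProduct.map _ ψ = e.symm.toAlgHom at hψ
    rw [hφ, hψ]
    ext x
    simp
  · apply (Groth.Agent.S0519.result R S₁ S₁).1
    change Algebra.TensorProduct.map _ _ = Algebra.TensorProduct.map _ _
    have h1 : Algebra.TensorProduct.map (AlgHom.id (ResidueField R) (ResidueField R)) (ψ.comp φ) =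
        (Algebra.TensorProduct.map (AlgHom.id (ResidueField R) (ResidueField R)) ψ).comp
          (Algebra.TensorProduct.map (AlgHom.id (ResidueField R) (ResidueField R)) φ) := by
      ext x
      simp
    rw [h1]
    change Algebra.TensorProduct.map _ φ = e.toAlgHom at hφ
    change Algebra.TensorProduct.map _ ψ = e.symm.toAlgHom at hψ
    rw [hφ, hψ]
    ext x
    simp

/-- The closed fibre of an unramified local algebra is its residue field. -/
noncomputable def fibreEquiv (A E : Type u) [CommRing A] [IsLocalRing A] [CommRing E] [IsLocalRing E]
    [Algebra A E] [IsLocalHom (algebraMap A E)]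
    (h : (maximalIdeal A).map (algebraMap A E) = maximalIdeal E) :
    (ResidueField A ⊗[A] E) ≃ₐ[ResidueField A] ResidueField E :=
  AlgEquiv.ofRingEquiv (f := (Algebra.TensorProduct.quotIdealMapEquivQuotTensor E
      (maximalIdeal A)).symm.toRingEquiv.trans (Ideal.quotEquivOfEq h)) (fun x => by
      obtain ⟨a, rfl⟩ := Ideal.Quotient.mk_surjective x
      have h1 := (Algebra.TensorProduct.quotIdealMapEquivQuotTensor E (maximalIdeal A)).symm.commutes
        (Ideal.Quotient.mk _ a)
      exact (congrArg (Ideal.quotEquivOfEq h) h1).trans rfl)

end K143.EssEt
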