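import Mathlib.Algebra.Category.Ring.FinitePresentation
import Mathlib.Algebra.Category.Ring.Colimits
import Mathlib.CategoryTheory.Limits.ConcreteCategory.Basic
import Mathlib.CategoryTheory.Limits.Types.Filtered
import Mathlib.RingTheory.FiniteStability

/-!
Every algebra is the filtered colimit (in `Under (CommRingCat.of A)`) of finitely presented algebras;
elements of functors preserving filtered colimits come from finitely presented algebras.
-/

set_option autoImplicit false

universe u w

noncomputable section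

namespace K143.FpColim

open scoped TensorProduct
open CategoryTheory CategoryTheory.Limits

variable (A : Type u) [CommRing A] (B : Type u) [CommRing B] [Algebra A B]

/-- The index type: finitely presented algebras over `B`. -/
structure Idx : Type u where
  /-- number of generators -/
  n : ℕ
  /-- relations -/
  I : Ideal (MvPolynomial (Fin n) A)
  fg : I.FG
  /-- the map to `B` -/
  σ : (MvPolynomial (Fin n) A ⧸ I) →ₐ[A] B

variable {A B}

/-- The algebra attached to an index. -/
abbrev Idx.Alg (i : Idx A B) : Type u := MvPolynomial (Fin i.n) A ⧸ i.I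

instance (i : Idx A B) : Algebra.FinitePresentation A i.Alg := .quotient i.fg

instance : Category.{u} (Idx A B) where
  Hom i j := { f : i.Alg →ₐ[A] j.Alg // j.σ.comp f = i.σ }
  id i := ⟨AlgHom.id A i.Alg, rfl⟩
  comp {i j k} f g := ⟨g.1.comp f.1, by rw [← AlgHom.comp_assoc, g.2, f.2]⟩

theorem exists_idx (P : Type u) [CommRing P] [Algebra A P] [Algebra.FinitePresentation A P]
    (σ : P →ₐ[A] B) : ∃ (i : Idx A B) (e : P ≃ₐ[A] i.Alg), i.σ.comp e.toAlgHom = σ := by
  obtain ⟨n, f, hf, hk⟩ := (inferInstance : Algebra.FinitePresentation A P)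
  let e : (MvPolynomial (Fin n) A ⧸ RingHom.ker f) ≃ₐ[A] P :=
    Ideal.quotientKerAlgEquivOfSurjective hf
  refine ⟨⟨n, RingHom.ker f, hk, σ.comp e.toAlgHom⟩, e.symm, ?_⟩
  ext a
  simp

instance : Nonempty (Idx A B) :=
  ⟨(exists_idx (A := A) (B := B) A (Algebra.ofId A B)).choose⟩

theorem exists_cocone_obj (i j : Idx A B) :
    ∃ (k : Idx A B) (_ : i ⟶ k) (_ : j ⟶ k), True := by
  let σ : i.Alg ⊗[A] j.Alg →ₐ[A] B :=
    Algebra.TensorProduct.lift i.σ j.σ (fun _ _ => Commute.all _ _)
  have : Algebra.FinitePresentation i.Alg (i.Alg ⊗[A] j.Alg) :=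
    inferInstance
  have : Algebra.FinitePresentation A (i.Alg ⊗[A] j.Alg) :=
    Algebra.FinitePresentation.trans A i.Alg (i.Alg ⊗[A] j.Alg)
  obtain ⟨k, e, he⟩ := exists_idx (i.Alg ⊗[A] j.Alg) σ
  refine ⟨k, ⟨e.toAlgHom.comp Algebra.TensorProduct.includeLeft, ?_⟩,
    ⟨e.toAlgHom.comp Algebra.TensorProduct.includeRight, ?_⟩, trivial⟩
  · rw [← AlgHom.comp_assoc, he]
    ext a
    simp [σ]
  · rw [← AlgHom.comp_assoc, he]
    ext a
    simp [σ]

/-- killing finitely many elements dying in `B`. -/
theorem exists_quot (i : Idx A B) (s : Set i.Alg) (hs : s.Finite) (h : ∀ x ∈ s, i.σ x = 0) :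
    ∃ (k : Idx A B) (h : i ⟶ k), ∀ x ∈ s, h.1 x = 0 := by
  have hI : (Ideal.span s).FG := ⟨hs.toFinset, by simp⟩
  have : Algebra.FinitePresentation A (i.Alg ⧸ Ideal.span s) := .quotient hI
  have hle : Ideal.span s ≤ RingHom.ker i.σ := Ideal.span_le.mpr h
  let σ' : (i.Alg ⧸ Ideal.span s) →ₐ[A] B := Ideal.Quotient.liftₐ _ i.σ (fun x hx => hle hx)
  obtain ⟨k, e, he⟩ := exists_idx (i.Alg ⧸ Ideal.span s) σ'
  refine ⟨k, ⟨e.toAlgHom.comp (Ideal.Quotient.mkₐ A _), ?_⟩, fun x hx => ?_⟩
  · rw [← AlgHom.comp_assoc, he]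
    ext a
    rfl
  · change e (Ideal.Quotient.mk _ x) = 0
    rw [Ideal.Quotient.eq_zero_iff_mem.mpr (Ideal.subset_span hx), map_zero]

theorem exists_cocone_map {i j : Idx A B} (f g : i ⟶ j) :
    ∃ (k : Idx A B) (h : j ⟶ k), f ≫ h = g ≫ h := by
  obtain ⟨k, h, hh⟩ := exists_quot j
    (Set.range fun t : Fin i.n => f.1 (Ideal.Quotient.mk _ (MvPolynomial.X t)) -
      g.1 (Ideal.Quotient.mk _ (MvPolynomial.X t))) (Set.finite_range _) (by
      rintro _ ⟨t, rfl⟩
      have hf : ∀ a, j.σ (f.1 a) = i.σ a := fun a => congr($(f.2) a)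
      have hg : ∀ a, j.σ (g.1 a) = i.σ a := fun a => congr($(g.2) a)
      simp only [map_sub, hf, hg, sub_self])
  refine ⟨k, h, Subtype.ext ?_⟩
  change h.1.comp f.1 = h.1.comp g.1
  refine Ideal.Quotient.algHom_ext _ (MvPolynomial.algHom_ext fun t => ?_)
  have := hh _ ⟨t, rfl⟩
  rw [map_sub, sub_eq_zero] at this
  exact this

instance : IsFiltered (Idx A B) where
  cocone_objs := exists_cocone_obj
  cocone_maps _ _ f g := exists_cocone_map f g
  nonempty := inferInstance

theorem exists_rep_elem (b : B) : ∃ (i : Idx A B) (x : i.Alg), i.σ x = b := by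
  obtain ⟨i, e, he⟩ := exists_idx (MvPolynomial (Fin 1) A) (MvPolynomial.aeval (fun _ => b))
  refine ⟨i, e (MvPolynomial.X 0), ?_⟩
  have := congr($he (MvPolynomial.X 0))
  simpa using this

variable (A B)

/-- The tautological functor. -/
def functor : Idx A B ⥤ Under (CommRingCat.of A) where
  obj i := Under.mk (CommRingCat.ofHom (algebraMap A i.Alg))
  map {i j} f := Under.homMk (CommRingCat.ofHom f.1.toRingHom) (by
    ext x
    exact f.1.commutes x)

/-- The cocone with point `B`. -/
def cocone : Cocone (functor A B) where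
  pt := Under.mk (CommRingCat.ofHom (algebraMap A B))
  ι :=
    { app := fun i => Under.homMk (CommRingCat.ofHom i.σ.toRingHom) (by
        ext x
        exact i.σ.commutes x)
      naturality := fun i j f => by
        ext x
        exact congr($(f.2) x) }

variable {A B}

/-- The components of a cocone. -/
def app (s : Cocone (functor A B)) (i : Idx A B) : i.Alg →+* s.pt.right := (s.ι.app i).right.hom

theorem ι_app_eq (s : Cocone (functor A B)) (i j : Idx A B) (x : i.Alg) (y : j.Alg)
    (h : i.σ x = j.σ y) : app s i x = app s j y := by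
  obtain ⟨k, f, g, -⟩ := exists_cocone_obj i j
  have hf : ∀ a, k.σ (f.1 a) = i.σ a := fun a => congr($(f.2) a)
  have hg : ∀ a, k.σ (g.1 a) = j.σ a := fun a => congr($(g.2) a)
  obtain ⟨l, t, ht⟩ := exists_quot k {f.1 x - g.1 y} (Set.finite_singleton _) (by
    rintro _ rfl
    rw [map_sub, hf, hg, h, sub_self])
  have ht' := ht _ rfl
  rw [map_sub, sub_eq_zero] at ht'
  have e1 : ∀ {a b : Idx A B} (φ : a ⟶ b) (z : a.Alg),
      app s b (φ.1 z) = app s a z := fun φ z => by
    have := s.w φ
    exact congr(($this).right.hom z)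
  rw [← e1 f, ← e1 g, ← e1 t, ← e1 t, ht']

/-- The function underlying the universal map. -/
def descFun (s : Cocone (functor A B)) (b : B) : s.pt.right :=
  app s (exists_rep_elem b).choose (exists_rep_elem b).choose_spec.choose

theorem descFun_σ (s : Cocone (functor A B)) (i : Idx A B) (x : i.Alg) :
    descFun s (i.σ x) = app s i x :=
  ι_app_eq s _ _ _ _ (exists_rep_elem (A := A) (i.σ x)).choose_spec.choose_spec

theorem exists_rep_elem₂ (b c : B) : ∃ (i : Idx A B) (x y : i.Alg), i.σ x = b ∧ i.σ y = c := by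
  obtain ⟨i, x, rfl⟩ := exists_rep_elem (A := A) b
  obtain ⟨j, y, rfl⟩ := exists_rep_elem (A := A) c
  obtain ⟨k, f, g, -⟩ := exists_cocone_obj i j
  exact ⟨k, f.1 x, g.1 y, congr($(f.2) x), congr($(g.2) y)⟩

/-- The universal ring map. -/
def descHom (s : Cocone (functor A B)) : B →+* s.pt.right where
  toFun := descFun s
  map_one' := by
    obtain ⟨i⟩ : Nonempty (Idx A B) := inferInstance
    rw [← map_one i.σ, descFun_σ, map_one]
  map_zero' := by
    obtain ⟨i⟩ : Nonempty (Idx A B) := inferInstance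
    rw [← map_zero i.σ, descFun_σ, map_zero]
  map_add' b c := by
    obtain ⟨i, x, y, rfl, rfl⟩ := exists_rep_elem₂ (A := A) b c
    rw [← map_add i.σ, descFun_σ, descFun_σ, descFun_σ, map_add]
  map_mul' b c := by
    obtain ⟨i, x, y, rfl, rfl⟩ := exists_rep_elem₂ (A := A) b c
    rw [← map_mul i.σ, descFun_σ, descFun_σ, descFun_σ, map_mul]

/-- `B` is the colimit of the finitely presented algebras over it. -/
def isColimit : IsColimit (cocone A B) where
  desc s := Under.homMk (CommRingCat.ofHom (descHom s)) (by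
    obtain ⟨i⟩ : Nonempty (Idx A B) := inferInstance
    ext a
    change descFun s (algebraMap A B a) = _
    rw [← i.σ.commutes a, descFun_σ]
    have := Under.w (s.ι.app i)
    exact congr(($this).hom a))
  fac s i := by
    ext x
    exact descFun_σ s i x
  uniq s m hm := by
    ext b
    obtain ⟨i, x, rfl⟩ := exists_rep_elem (A := A) (B := B) b
    refine Eq.trans ?_ (descFun_σ s i x).symm
    exact congr(($(hm i)).right.hom x)

/-- Elements of functors preserving filtered colimits come from finitely presented algebras. -/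
theorem exists_rep (F : Under (CommRingCat.of A) ⥤ Type w)
    [PreservesColimitsOfShape (Idx A B) F]
    (ξ : F.obj (Under.mk (CommRingCat.ofHom (algebraMap A B)))) :
    ∃ (i : Idx A B) (x : F.obj (Under.mk (CommRingCat.ofHom (algebraMap A i.Alg)))),
      F.map ((cocone A B).ι.app i) x = ξ := by
  have hc := isColimitOfPreserves F (isColimit (A := A) (B := B))
  obtain ⟨i, x, hx⟩ := Types.jointly_surjective_of_isColimit hc ξ
  exact ⟨i, x, hx⟩

end K143.FpColim
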