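import Groth.Prelude.Def_Hensel
import Groth.Agent.S0506
import Groth.Agent.S0507
import Groth.Agent.S0511
import Groth.Agent.S0526
import Groth.Agent.Hensel.ResEtale
import Groth.Agent.Hensel.Lazard
import Groth.Agent.Hensel.LocalSplit
import Mathlib.RingTheory.EssentialFiniteness

/-!
Henselizations of local rings essentially of finite type.
-/

set_option autoImplicit false

universe u

namespace K143.HensEss

open IsLocalRing

/-- `S` is the henselization of a local ring essentially of finite type over `A`. -/
def IsHensEss (A S : Type u) [CommRing A] [CommRing S] [IsLocalRing S] [Algebra A S] : Prop :=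
  ∃ (L : Type u) (_ : CommRing L) (_ : IsLocalRing L) (_ : Algebra A L) (_ : Algebra.EssFiniteType A L)
    (_ : Algebra L S) (_ : IsScalarTower A L S) (_ : IsLocalHom (algebraMap L S)), Hensel.IsHenselization L S

/-- `S` is the henselization of a localization of a finite type algebra at a prime. -/
def IsHensFt (A S : Type u) [CommRing A] [CommRing S] [IsLocalRing S] [Algebra A S] : Prop :=
  ∃ (B : Type u) (_ : CommRing B) (_ : Algebra A B) (_ : Algebra.FiniteType A B) (p : Ideal B) (_ : p.IsPrime)
    (_ : Algebra (Localization.AtPrime p) S) (_ : IsScalarTower A (Localization.AtPrime p) S)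
    (_ : IsLocalHom (algebraMap (Localization.AtPrime p) S)), Hensel.IsHenselization (Localization.AtPrime p) S

/-- Transport of a henselization along an isomorphism of the source. -/
theorem isHenselization_of_ringEquiv {L L' S : Type u} [CommRing L] [IsLocalRing L] [CommRing L'] [IsLocalRing L']
    [CommRing S] [IsLocalRing S] [Algebra L S] [IsLocalHom (algebraMap L S)] [h : Hensel.IsHenselization L S]
    [Algebra L' S] [IsLocalHom (algebraMap L' S)] (e : L' ≃+* L)
    (he : ∀ x, algebraMap L S (e x) = algebraMap L' S x) : Hensel.IsHenselization L' S := by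
  refine ⟨h.henselian, ?_⟩
  intro T _ _ f hf
  have hf' : IsLocalHom (f.comp (e.symm : L →+* L')) := by
    constructor
    intro x hx
    have h1 := isUnit_of_map_unit f _ hx
    have h2 := h1.map (e : L' →+* L)
    simpa using h2
  obtain ⟨g, hg, hu⟩ := h.universal T (f.comp (e.symm : L →+* L')) hf'
  refine ⟨g, ?_, ?_⟩
  · ext x
    have h1 := congrArg (fun φ : L →+* T => φ (e x)) hg
    simp only [RingHom.comp_apply, RingHom.coe_coe, RingEquiv.symm_apply_apply] at h1
    rw [RingHom.comp_apply, ← he, h1]
  · intro g' hg'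
    refine hu g' ?_
    ext x
    have h1 := congrArg (fun φ : L' →+* T => φ (e.symm x)) hg'
    simp only [RingHom.comp_apply, ← he, RingEquiv.apply_symm_apply] at h1
    exact h1

theorem IsHensFt.of_ess {A S : Type u} [CommRing A] [CommRing S] [IsLocalRing S] [Algebra A S]
    (h : IsHensEss A S) : IsHensFt A S := by
  obtain ⟨L, _, _, _, hess, _, _, _, hL⟩ := h
  let B := Algebra.EssFiniteType.subalgebra A L
  let p : Ideal B := (maximalIdeal L).comap (algebraMap B L)
  have hp : p.IsPrime := inferInstance
  have hM : Algebra.EssFiniteType.submonoid A L = p.primeCompl := by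
    ext x
    change IsUnit (algebraMap B L x) ↔ ¬ (algebraMap B L x ∈ maximalIdeal L)
    rw [notMem_maximalIdeal]
  have hloc : IsLocalization.AtPrime L p := by
    have := Algebra.EssFiniteType.isLocalization (R := A) (S := L)
    rw [hM] at this
    exact this
  let e : Localization.AtPrime p ≃ₐ[B] L := IsLocalization.algEquiv p.primeCompl _ _
  let _ : Algebra (Localization.AtPrime p) S :=
    ((algebraMap L S).comp (e : Localization.AtPrime p →+* L)).toAlgebra
  have halg : ∀ x, algebraMap (Localization.AtPrime p) S x = algebraMap L S (e x) := fun x => rfl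
  have htower : IsScalarTower A (Localization.AtPrime p) S := by
    refine IsScalarTower.of_algebraMap_eq fun a => ?_
    have h1 : e (algebraMap A (Localization.AtPrime p) a) = algebraMap A L a := by
      rw [IsScalarTower.algebraMap_apply A B (Localization.AtPrime p), e.commutes,
        ← IsScalarTower.algebraMap_apply]
    rw [halg, h1, ← IsScalarTower.algebraMap_apply]
  have hlocal : IsLocalHom (algebraMap (Localization.AtPrime p) S) := by
    constructor
    intro x hx
    rw [halg] at hx
    have h1 := isUnit_of_map_unit (algebraMap L S) _ hx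
    have h2 := h1.map (e.symm : L →+* Localization.AtPrime p)
    simpa using h2
  refine ⟨B, inferInstance, inferInstance, inferInstance, p, hp, inferInstance, htower, hlocal, ?_⟩
  exact isHenselization_of_ringEquiv (L := L) (e : Localization.AtPrime p ≃+* L) (fun x => (halg x).symm)

theorem IsHensEss.of_ft {A S : Type u} [CommRing A] [CommRing S] [IsLocalRing S] [Algebra A S]
    (h : IsHensFt A S) : IsHensEss A S := by
  obtain ⟨B, _, _, hft, p, hp, _, _, _, h⟩ := h
  have h1 : Algebra.EssFiniteType B (Localization.AtPrime p) :=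
    Algebra.EssFiniteType.of_isLocalization _ p.primeCompl
  have h2 : Algebra.EssFiniteType A (Localization.AtPrime p) := Algebra.EssFiniteType.comp A B _
  exact ⟨Localization.AtPrime p, inferInstance, inferInstance, inferInstance, h2, inferInstance, inferInstance,
    inferInstance, h⟩

/-- A pushout of a henselization along a localization of an étale algebra is a henselization. -/
theorem isHenselization_of_pushout {R Rh E C S : Type u} [CommRing R] [IsLocalRing R] [CommRing Rh]
    [IsLocalRing Rh] [CommRing E] [CommRing C] [CommRing S] [HenselianLocalRing S] [Algebra R Rh]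
    [IsLocalHom (algebraMap R Rh)] [hR : Hensel.IsHenselization R Rh] [Algebra R E] [Algebra.Etale R E]
    (χ : E →ₐ[R] Rh) (ε : E →+* C) (γ : C →+* S) (α : Rh →+* S) [IsLocalHom α]
    (hcomm : γ.comp ε = α.comp (χ : E →+* Rh))
    (hpush : ∀ (T : Type u) [CommRing T] (f : C →+* T) (g : Rh →+* T), f.comp ε = g.comp (χ : E →+* Rh) →
      ∃ g' : S →+* T, (g'.comp γ = f ∧ g'.comp α = g) ∧ ∀ g'' : S →+* T, g''.comp γ = f ∧ g''.comp α = g → g'' = g')
    (q : Ideal C) [q.IsPrime] (hq : q = (maximalIdeal S).comap γ)
    [Algebra (Localization.AtPrime q) S] [IsLocalHom (algebraMap (Localization.AtPrime q) S)]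
    (halg : (algebraMap (Localization.AtPrime q) S).comp (algebraMap C (Localization.AtPrime q)) = γ) :
    Hensel.IsHenselization (Localization.AtPrime q) S := by
  refine ⟨inferInstance, ?_⟩
  intro T _ _ f hf
  -- the map from `C`
  let fC : C →+* T := f.comp (algebraMap C (Localization.AtPrime q))
  have hfC : ∀ c, c ∈ q → fC c ∈ maximalIdeal T := by
    intro c hc
    have h1 : algebraMap C (Localization.AtPrime q) c ∈ maximalIdeal (Localization.AtPrime q) := by
      rw [← Localization.AtPrime.map_eq_maximalIdeal]
      exact Ideal.mem_map_of_mem _ hc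
    exact map_nonunit f _ h1
  -- the map from `R`
  let fR : R →+* T := (fC.comp ε).comp (algebraMap R E)
  have hcommR : ∀ r : R, γ (ε (algebraMap R E r)) = α (algebraMap R Rh r) := by
    intro r
    have h1 : γ (ε (algebraMap R E r)) = α (χ (algebraMap R E r)) :=
      congrArg (fun φ : E →+* S => φ (algebraMap R E r)) hcomm
    rw [h1, χ.commutes]
  have hfR : IsLocalHom fR := by
    constructor
    intro r hr
    by_contra hn
    have h1 : algebraMap R Rh r ∈ maximalIdeal Rh := map_nonunit _ _ ((mem_maximalIdeal _).mpr hn)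
    have h2 : ε (algebraMap R E r) ∈ q := by
      rw [hq, Ideal.mem_comap, hcommR]
      exact map_nonunit α _ h1
    exact (notMem_maximalIdeal.mpr hr) (hfC _ h2)
  obtain ⟨g₁, hg₁, hg₁u⟩ := hR.universal T fR hfR
  have hg₁m : ∀ x ∈ maximalIdeal Rh, g₁ x ∈ maximalIdeal T := by
    intro x hx
    rw [← Groth.Agent.S0507.result R Rh] at hx
    have h1 : (maximalIdeal R).map (algebraMap R Rh) ≤ (maximalIdeal T).comap g₁ := by
      rw [Ideal.map_le_iff_le_comap]
      intro r hr
      change g₁ (algebraMap R Rh r) ∈ maximalIdeal T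
      have h2 : g₁ (algebraMap R Rh r) = fR r := congrArg (fun φ : R →+* T => φ r) hg₁
      rw [h2]
      exact map_nonunit fR _ hr
    exact h1 hx
  -- compatibility on `E`
  have hE : fC.comp ε = g₁.comp (χ : E →+* Rh) := by
    let _ : Algebra R T := fR.toAlgebra
    let F₁ : E →ₐ[R] T := { fC.comp ε with commutes' := fun r => rfl }
    let F₂ : E →ₐ[R] T := { g₁.comp (χ : E →+* Rh) with
      commutes' := fun r => by
        change g₁ (χ (algebraMap R E r)) = fR r
        rw [χ.commutes]
        exact congrArg (fun φ : R →+* T => φ r) hg₁ }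
    have hsurj : Function.Bijective (ResidueField.map (algebraMap R Rh)) :=
      Groth.Agent.Hensel.Exist.residueField_bijective_of_isHenselization R Rh
    have hres : ∀ e, residue T (F₂ e) = residue T (F₁ e) := by
      intro e
      obtain ⟨y, hy⟩ := hsurj.2 (residue Rh (χ e))
      obtain ⟨r, rfl⟩ := residue_surjective y
      have h1 : χ e - algebraMap R Rh r ∈ maximalIdeal Rh := by
        rw [← residue_eq_zero_iff, map_sub, ← hy]
        exact sub_self _
      have h2 : ε (e - algebraMap R E r) ∈ q := by
        rw [hq, Ideal.mem_comap]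
        have h3 : γ (ε (e - algebraMap R E r)) = α (χ e - algebraMap R Rh r) := by
          rw [map_sub, map_sub, map_sub, hcommR]
          have h4 : γ (ε e) = α (χ e) := congrArg (fun φ : E →+* S => φ e) hcomm
          rw [h4]
        rw [h3]
        exact map_nonunit α _ h1
      have h3 : residue T (F₁ e) = residue T (fR r) := by
        rw [← sub_eq_zero, ← map_sub, residue_eq_zero_iff]
        have h4 := hfC _ h2
        rw [map_sub, map_sub] at h4
        exact h4
      have h4 : residue T (F₂ e) = residue T (fR r) := by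
        rw [← sub_eq_zero, ← map_sub, residue_eq_zero_iff]
        have h5 := hg₁m _ h1
        rw [map_sub] at h5
        have h6 : g₁ (algebraMap R Rh r) = fR r := congrArg (fun φ : R →+* T => φ r) hg₁
        rw [h6] at h5
        exact h5
      rw [h3, h4]
    obtain ⟨F, hF, hu⟩ := Groth.Agent.Hensel.ResEtale.existsUnique_lift_residue R T E
      ((IsScalarTower.toAlgHom R T (ResidueField T)).comp F₁)
    have h1 : F₁ = F := hu F₁ (fun e => rfl)
    have h2 : F₂ = F := hu F₂ hres
    have h3 : F₁ = F₂ := h1.trans h2.symm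
    ext e
    exact congrArg (fun φ : E →ₐ[R] T => φ e) h3
  obtain ⟨g', ⟨hg'1, hg'2⟩, hg'u⟩ := hpush T fC g₁ hE
  refine ⟨g', ?_, ?_⟩
  · refine IsLocalization.ringHom_ext q.primeCompl ?_
    rw [RingHom.comp_assoc, halg, hg'1]
  · intro g'' hg''
    have h1 : g''.comp γ = fC := by
      rw [← halg, ← RingHom.comp_assoc, hg'']
    refine hg'u g'' ⟨h1, hg₁u _ ?_⟩
    ext r
    change g'' (α (algebraMap R Rh r)) = fC (ε (algebraMap R E r))
    rw [← hcommR, ← h1]
    rfl

/-- A henselian local ring finite over the henselization of a local ring essentially of finite type is of the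
same type. -/
theorem IsHensEss.of_finite {A Rh S : Type u} [CommRing A] [CommRing Rh] [IsLocalRing Rh]
    [IsNoetherianRing Rh] [Algebra A Rh] [CommRing S] [HenselianLocalRing S] [Algebra A S] (α : Rh →ₐ[A] S)
    (hα : IsLocalHom (α : Rh →+* S)) (hfin : (α : Rh →+* S).Finite) (h : IsHensEss A Rh) : IsHensEss A S := by
  classical
  obtain ⟨R, _, _, _, hess, _, _, _, hR⟩ := h
  let _ : Algebra Rh S := (α : Rh →+* S).toAlgebra
  have halgRh : ∀ x, algebraMap Rh S x = α x := fun x => rfl
  have : Module.Finite Rh S := hfin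
  obtain ⟨n, π, hπ⟩ := Algebra.FiniteType.iff_quotient_mvPolynomial''.mp
    (inferInstance : Algebra.FiniteType Rh S)
  obtain ⟨G, hG⟩ := (isNoetherianRing_iff_ideal_fg _).mp (inferInstance : IsNoetherianRing
    (MvPolynomial (Fin n) Rh)) (RingHom.ker (π : MvPolynomial (Fin n) Rh →+* S))
  obtain ⟨E, _, _, hE, χ, hχ⟩ := Groth.Agent.Hensel.Lazard.exists_etale_of_isHenselization R Rh
    (G.biUnion fun F => F.coeffs)
  have hlift : ∀ F ∈ G, ∃ F' : MvPolynomial (Fin n) E, MvPolynomial.map (χ : E →+* Rh) F' = F := by
    intro F hF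
    have h1 : F ∈ Set.range (MvPolynomial.map (χ : E →+* Rh)) := by
      rw [MvPolynomial.mem_range_map_iff_coeffs_subset]
      intro c hc
      exact hχ (Finset.mem_coe.mpr (Finset.mem_biUnion.mpr ⟨F, hF, hc⟩))
    exact h1
  choose! L hL using hlift
  let J : Ideal (MvPolynomial (Fin n) E) := Ideal.span (L '' (G : Set _))
  let C := MvPolynomial (Fin n) E ⧸ J
  let _ : Algebra A E := ((algebraMap R E).comp (algebraMap A R)).toAlgebra
  have hARE : IsScalarTower A R E := IsScalarTower.of_algebraMap_eq fun a => rfl
  -- the map `γ`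
  let γ₀ : MvPolynomial (Fin n) E →+* S :=
    (π : MvPolynomial (Fin n) Rh →+* S).comp (MvPolynomial.map (χ : E →+* Rh))
  have hγ₀ : ∀ x ∈ J, γ₀ x = 0 := by
    have h1 : J ≤ RingHom.ker γ₀ := by
      rw [Ideal.span_le]
      rintro _ ⟨F, hF, rfl⟩
      change π (MvPolynomial.map (χ : E →+* Rh) (L F)) = 0
      rw [hL F hF]
      have h2 : F ∈ RingHom.ker (π : MvPolynomial (Fin n) Rh →+* S) := by
        rw [← hG]; exact Ideal.subset_span hF
      exact h2
    exact fun x hx => h1 hx
  let γ : C →+* S := Ideal.Quotient.lift J γ₀ hγ₀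
  let ε : E →+* C := (Ideal.Quotient.mk J).comp MvPolynomial.C
  have hγε : ∀ e, γ (ε e) = α (χ e) := by
    intro e
    change π (MvPolynomial.map (χ : E →+* Rh) (MvPolynomial.C e)) = _
    rw [MvPolynomial.map_C]
    exact π.commutes _
  let q : Ideal C := (maximalIdeal S).comap γ
  have hunit : ∀ y : q.primeCompl, IsUnit (γ y) := by
    intro y
    exact notMem_maximalIdeal.mp y.2
  let _ : Algebra (Localization.AtPrime q) S :=
    (IsLocalization.lift (M := q.primeCompl) (S := Localization.AtPrime q) hunit).toAlgebra
  have halg : (algebraMap (Localization.AtPrime q) S).comp (algebraMap C (Localization.AtPrime q)) = γ :=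
    IsLocalization.lift_comp _
  have halg' : ∀ c, algebraMap (Localization.AtPrime q) S (algebraMap C (Localization.AtPrime q) c) = γ c :=
    fun c => congrArg (fun φ : C →+* S => φ c) halg
  have hloc : IsLocalHom (algebraMap (Localization.AtPrime q) S) := by
    constructor
    intro x hx
    obtain ⟨c, t, rfl⟩ := IsLocalization.exists_mk'_eq q.primeCompl x
    have h1 : algebraMap (Localization.AtPrime q) S (IsLocalization.mk' _ c t) * γ t = γ c := by
      rw [← halg', ← map_mul, IsLocalization.mk'_spec, halg']
    have h2 : IsUnit (γ c) := by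
      rw [← h1]
      exact hx.mul (hunit t)
    have h3 : c ∈ q.primeCompl := notMem_maximalIdeal.mpr h2
    exact (IsLocalization.AtPrime.isUnit_mk'_iff _ q c t).mpr h3
  have htower : IsScalarTower A (Localization.AtPrime q) S := by
    refine IsScalarTower.of_algebraMap_eq fun a => ?_
    rw [IsScalarTower.algebraMap_apply A C (Localization.AtPrime q), halg']
    have h1 : algebraMap A C a = ε (algebraMap R E (algebraMap A R a)) := rfl
    rw [h1, hγε, χ.commutes, ← IsScalarTower.algebraMap_apply, α.commutes]
  have hess1 : Algebra.EssFiniteType A E := Algebra.EssFiniteType.comp A R E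
  have hess2 : Algebra.EssFiniteType A C := Algebra.EssFiniteType.comp A E C
  have hess3 : Algebra.EssFiniteType C (Localization.AtPrime q) :=
    Algebra.EssFiniteType.of_isLocalization _ q.primeCompl
  have hess4 : Algebra.EssFiniteType A (Localization.AtPrime q) := Algebra.EssFiniteType.comp A C _
  refine ⟨Localization.AtPrime q, inferInstance, inferInstance, inferInstance, hess4, inferInstance, htower, hloc,
    ?_⟩
  refine isHenselization_of_pushout (R := R) (Rh := Rh) χ ε γ (α : Rh →+* S) (RingHom.ext hγε) ?_ q rfl halg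
  intro T _ f g hfg
  -- the map `S → T`
  let X : Fin n → T := fun i => f (Ideal.Quotient.mk J (MvPolynomial.X i))
  have hker : ∀ F : MvPolynomial (Fin n) Rh, π F = 0 → MvPolynomial.eval₂Hom g X F = 0 := by
    intro F hF
    have h1 : RingHom.ker (π : MvPolynomial (Fin n) Rh →+* S) ≤ RingHom.ker (MvPolynomial.eval₂Hom g X) := by
      rw [← hG, Ideal.span_le]
      intro F hF
      change MvPolynomial.eval₂Hom g X F = 0
      rw [← hL F hF, MvPolynomial.coe_eval₂Hom, MvPolynomial.eval₂_map]
      have h2 : MvPolynomial.eval₂Hom (g.comp (χ : E →+* Rh)) X = f.comp (Ideal.Quotient.mk J) := by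
        refine MvPolynomial.ringHom_ext (fun e => ?_) (fun i => ?_)
        · rw [MvPolynomial.coe_eval₂Hom, MvPolynomial.eval₂_C, ← hfg]
          rfl
        · rw [MvPolynomial.coe_eval₂Hom, MvPolynomial.eval₂_X]
          rfl
      have h3 : MvPolynomial.eval₂ (g.comp (χ : E →+* Rh)) X (L F) = f (Ideal.Quotient.mk J (L F)) :=
        congrArg (fun φ : MvPolynomial (Fin n) E →+* T => φ (L F)) h2
      have h4 : L F ∈ J := Ideal.subset_span ⟨F, hF, rfl⟩
      rw [h3, Ideal.Quotient.eq_zero_iff_mem.mpr h4, map_zero]
    exact h1 hF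
  let g' : S →+* T := RingHom.liftOfSurjective (π : MvPolynomial (Fin n) Rh →+* S) hπ
    ⟨MvPolynomial.eval₂Hom g X, fun F hF => hker F hF⟩
  have hg' : ∀ F, g' (π F) = MvPolynomial.eval₂Hom g X F := fun F =>
    RingHom.liftOfRightInverse_comp_apply _ _ _ _ _
  refine ⟨g', ⟨?_, ?_⟩, ?_⟩
  · refine Ideal.Quotient.ringHom_ext ?_
    refine MvPolynomial.ringHom_ext (fun e => ?_) (fun i => ?_)
    · change g' (π (MvPolynomial.map (χ : E →+* Rh) (MvPolynomial.C e))) = f (ε e)
      rw [hg', MvPolynomial.map_C, MvPolynomial.coe_eval₂Hom, MvPolynomial.eval₂_C]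
      exact (congrArg (fun φ : E →+* T => φ e) hfg).symm
    · change g' (π (MvPolynomial.map (χ : E →+* Rh) (MvPolynomial.X i))) = X i
      rw [hg', MvPolynomial.map_X, MvPolynomial.coe_eval₂Hom, MvPolynomial.eval₂_X]
  · ext x
    change g' (α x) = g x
    have h1 : α x = π (MvPolynomial.C x) := (π.commutes x).symm
    rw [h1, hg', MvPolynomial.coe_eval₂Hom, MvPolynomial.eval₂_C]
  · rintro g'' ⟨h1, h2⟩
    have h3 : g''.comp (π : MvPolynomial (Fin n) Rh →+* S) = g'.comp (π : MvPolynomial (Fin n) Rh →+* S) := by
      refine MvPolynomial.ringHom_ext (fun x => ?_) (fun i => ?_)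
      · have h4 : π (MvPolynomial.C x) = α x := π.commutes x
        change g'' (π (MvPolynomial.C x)) = g' (π (MvPolynomial.C x))
        rw [hg', MvPolynomial.coe_eval₂Hom, MvPolynomial.eval₂_C, h4]
        exact congrArg (fun φ : Rh →+* T => φ x) h2
      · change g'' (π (MvPolynomial.X i)) = g' (π (MvPolynomial.X i))
        rw [hg', MvPolynomial.coe_eval₂Hom, MvPolynomial.eval₂_X]
        have h4 : π (MvPolynomial.X i) = γ (Ideal.Quotient.mk J (MvPolynomial.X i)) := by
          change _ = π (MvPolynomial.map (χ : E →+* Rh) (MvPolynomial.X i))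
          rw [MvPolynomial.map_X]
        rw [h4]
        exact congrArg (fun φ : C →+* T => φ (Ideal.Quotient.mk J (MvPolynomial.X i))) h1
    ext y
    obtain ⟨F, rfl⟩ := hπ y
    exact congrArg (fun φ : MvPolynomial (Fin n) Rh →+* T => φ F) h3

end K143.HensEss
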