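import Groth.Agent.S0524
import Groth.Agent.S0528
import Mathlib.RingTheory.LocalRing.RingHom.Basic
import Mathlib.RingTheory.Polynomial.Basic

/-!
Henselian pairs and henselian local rings; henselian pairs only depend on the ideal as a
non-unital ring (Gabber's criterion) in the form needed for localizations.
-/

set_option autoImplicit false

universe u v

namespace K143.PairLocal

open Polynomial IsLocalRing

theorem henselianLocalRing_of_henselianRing (R : Type u) [CommRing R] [IsLocalRing R]
    (h : HenselianRing R (maximalIdeal R)) : HenselianLocalRing R where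
  is_henselian f hf a₀ h₁ h₂ := h.is_henselian f hf a₀ h₁ (h₂.map _)

/-- The quotient of a henselian local ring by a proper ideal is henselian. -/
theorem henselianLocalRing_quotient (R : Type u) [CommRing R] [HenselianLocalRing R]
    (I : Ideal R) (hI : I ≠ ⊤) : HenselianLocalRing (R ⧸ I) := by
  have : Nontrivial (R ⧸ I) := Ideal.Quotient.nontrivial_iff.mpr hI
  have : IsLocalRing (R ⧸ I) :=
    IsLocalRing.of_surjective' (Ideal.Quotient.mk I) Ideal.Quotient.mk_surjective
  have h1 := (Groth.Agent.S0528.result R I (maximalIdeal R) (le_maximalIdeal hI)).mp inferInstance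
  have h2 : Ideal.map (Ideal.Quotient.mk I) (maximalIdeal R) = maximalIdeal (R ⧸ I) :=
    map_mk_eq_maximalIdeal_of_surjective' I
  exact henselianLocalRing_of_henselianRing _ (h2 ▸ h1.2)
where
  map_mk_eq_maximalIdeal_of_surjective' {R : Type u} [CommRing R] [HenselianLocalRing R]
    (I : Ideal R) [IsLocalRing (R ⧸ I)] :
    Ideal.map (Ideal.Quotient.mk I) (maximalIdeal R) = maximalIdeal (R ⧸ I) := by
    have hmax : (maximalIdeal R).IsMaximal := inferInstance
    have h : (Ideal.map (Ideal.Quotient.mk I) (maximalIdeal R)) = ⊤ ∨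
        (Ideal.map (Ideal.Quotient.mk I) (maximalIdeal R)).IsMaximal :=
      Ideal.map_eq_top_or_isMaximal_of_surjective _ Ideal.Quotient.mk_surjective hmax
    rcases h with h | h
    · exfalso
      have h1 := congrArg (Ideal.comap (Ideal.Quotient.mk I)) h
      rw [Ideal.comap_map_of_surjective _ Ideal.Quotient.mk_surjective, Ideal.comap_top] at h1
      have h2 : Ideal.comap (Ideal.Quotient.mk I) ⊥ = I := Ideal.mk_ker
      have h3 : I ≠ ⊤ := Ideal.Quotient.nontrivial_iff.mp inferInstance
      rw [h2, sup_eq_left.mpr (le_maximalIdeal h3)] at h1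
      exact hmax.ne_top h1
    · exact IsLocalRing.eq_maximalIdeal h

/-- If `R → S` is injective and maps the ideal `I` bijectively onto an ideal `J` contained in the
Jacobson radical, and `(R, I)` is a henselian pair then so is `(S, J)`. -/
theorem henselianRing_of_ideal_eq {R : Type u} {S : Type u} [CommRing R] [CommRing S]
    (φ : R →+* S) (hφ : Function.Injective φ) (I : Ideal R) (J : Ideal S)
    (hIJ : ∀ s ∈ J, ∃ r ∈ I, φ r = s) (hI : ∀ r ∈ I, φ r ∈ J) (hJ : J ≤ Ideal.jacobson ⊥)
    (h : HenselianRing R I) : HenselianRing S J := by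
  rw [Groth.Agent.S0524.result] at h ⊢
  refine ⟨hJ, fun n hn p hp hpc => ?_⟩
  -- lift p
  have hlift : ∃ q : R[X], q.natDegree ≤ n ∧ (∀ i, q.coeff i ∈ I) ∧ q.map φ = p := by
    choose c hc hc' using fun i => hIJ (p.coeff i) (hpc i)
    refine ⟨∑ i ∈ Finset.range (n + 1), C (c i) * X ^ i, ?_, ?_, ?_⟩
    · refine Polynomial.natDegree_sum_le_of_forall_le _ _ fun i hi => ?_
      exact (Polynomial.natDegree_C_mul_X_pow_le _ _).trans (Nat.lt_succ_iff.mp (Finset.mem_range.mp hi))
    · intro i
      rw [Polynomial.finsetSum_coeff]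
      refine I.sum_mem fun j _ => ?_
      rw [Polynomial.coeff_C_mul_X_pow]
      split_ifs
      · exact hc _
      · exact I.zero_mem
    · rw [Polynomial.map_sum]
      conv_rhs => rw [Polynomial.as_sum_range' p (n + 1) (Nat.lt_succ_iff.mpr hp)]
      refine Finset.sum_congr rfl fun i _ => ?_
      rw [Polynomial.map_mul, Polynomial.map_pow, Polynomial.map_X, Polynomial.map_C, hc',
        Polynomial.C_mul_X_pow_eq_monomial]
  obtain ⟨q, hq, hqc, rfl⟩ := hlift
  obtain ⟨α, ⟨hα1, hα2⟩, huniq⟩ := h.2 n hn q hq hqc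
  have hmap : X ^ n * (X - 1) + q.map φ = (X ^ n * (X - 1) + q).map φ := by simp
  refine ⟨φ α, ⟨?_, ?_⟩, ?_⟩
  · have := hI _ hα1
    rwa [map_sub, map_one] at this
  · change Polynomial.IsRoot _ _
    rw [hmap]
    exact hα2.map
  · rintro β ⟨hβ1, hβ2⟩
    obtain ⟨r, hr, hr'⟩ := hIJ _ hβ1
    have hβ : β = φ (r + 1) := by rw [map_add, map_one, hr']; ring
    subst hβ
    congr 1
    refine huniq (r + 1) ⟨by simpa using hr, ?_⟩
    rw [hmap, Polynomial.IsRoot.def, Polynomial.eval_map, Polynomial.eval₂_hom] at hβ2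
    exact (map_eq_zero_iff φ hφ).mp hβ2

end K143.PairLocal
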