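import Groth.Agent.Hensel.K143.HensEss
import Groth.Agent.Hensel.K143.PairLocal
import Groth.Agent.S0525

/-!
Henselizations of local rings essentially of finite type: descent along injective finite maps.
-/

set_option autoImplicit false

universe u

namespace K143.HensEss

open IsLocalRing Polynomial

theorem henselianLocalRing_of_integral (A D : Type u) [CommRing A] [HenselianLocalRing A] [CommRing D]
    [IsLocalRing D] [Algebra A D] [Algebra.IsIntegral A D] : HenselianLocalRing D := by
  have h1 : HenselianRing A (maximalIdeal A) := inferInstance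
  have h2 : HenselianRing D ((maximalIdeal A).map (algebraMap A D)) := Groth.Agent.S0526.result A _ D
  have hne : (maximalIdeal A).map (algebraMap A D) ≠ ⊤ := by
    intro htop
    have := h2.jac
    rw [htop, top_le_iff, Ideal.jacobson_eq_top_iff] at this
    exact bot_ne_top this
  have hrad : ((maximalIdeal A).map (algebraMap A D)).radical = (maximalIdeal D).radical := by
    rw [(maximalIdeal.isMaximal D).isPrime.radical]
    refine le_antisymm ?_ ?_
    · rw [(maximalIdeal.isMaximal D).isPrime.radical_le_iff]
      exact le_maximalIdeal hne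
    · rw [Ideal.radical_eq_sInf]
      refine le_sInf ?_
      rintro P ⟨hP, hPp⟩
      have h3 : P.comap (algebraMap A D) = maximalIdeal A := by
        have h4 : maximalIdeal A ≤ P.comap (algebraMap A D) := Ideal.map_le_iff_le_comap.mp hP
        exact ((maximalIdeal.isMaximal A).eq_of_le (Ideal.IsPrime.ne_top inferInstance) h4).symm
      have h5 : P.IsMaximal := Ideal.isMaximal_of_isIntegral_of_isMaximal_comap P
        (by rw [h3]; exact maximalIdeal.isMaximal A)
      exact (eq_maximalIdeal h5).ge
  have h3 : HenselianRing D (maximalIdeal D) := (Groth.Agent.S0525.result D _ _ hrad).mp h2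
  exact K143.PairLocal.henselianLocalRing_of_henselianRing D h3

/-- Finite subalgebras of a local ring over a henselian local ring are local. -/
theorem isLocalRing_of_finite_subalgebra {H S : Type u} [CommRing H] [HenselianLocalRing H] [CommRing S]
    [IsLocalRing S] [Algebra H S] (D : Subalgebra H S) [Module.Finite H D] : IsLocalRing D := by
  obtain ⟨𝔫, h𝔫⟩ := Ideal.exists_maximal D
  obtain ⟨e, he, hen, heu⟩ := Groth.Agent.Hensel.LocalSplit.exists_isIdempotentElem_of_isMaximal H 𝔫
  have h0 : e ≠ 0 := fun h0 => hen (by rw [h0]; exact 𝔫.zero_mem)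
  have h1 : e = 1 := by
    have h2 : (e : S) * (1 - (e : S)) = 0 := by
      have h3 : (e : S) * (e : S) = e := congrArg Subtype.val he
      rw [mul_sub, mul_one, h3, sub_self]
    rcases IsLocalRing.isUnit_or_isUnit_one_sub_self (e : S) with h3 | h3
    · have h4 := (h3.mul_right_eq_zero).mp h2
      exact Subtype.ext (sub_eq_zero.mp h4).symm
    · have h4 := (h3.mul_left_eq_zero).mp h2
      exact absurd (Subtype.ext h4) h0
  refine IsLocalRing.of_unique_max_ideal ⟨𝔫, h𝔫, fun q' hq' => ?_⟩
  by_contra hne
  have h2 := heu q' hq' hne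
  rw [h1] at h2
  exact hq'.ne_top ((Ideal.eq_top_iff_one _).mpr h2)

/-- Local homomorphisms from finite subalgebras. -/
theorem isLocalHom_val {H S : Type u} [CommRing H] [IsLocalRing H] [CommRing S]
    [IsLocalRing S] [Algebra H S] [IsLocalHom (algebraMap H S)] (D : Subalgebra H S) [Algebra.IsIntegral H D]
    [IsLocalRing D] : IsLocalHom (algebraMap D S) := by
  constructor
  intro x hx
  by_contra hn
  have h1 : x ∈ maximalIdeal D := (mem_maximalIdeal _).mpr hn
  have h2 : ((maximalIdeal S).comap (algebraMap D S)).IsMaximal := by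
    refine Ideal.isMaximal_of_isIntegral_of_isMaximal_comap (R := H) _ ?_
    have h3 : ((maximalIdeal S).comap (algebraMap D S)).comap (algebraMap H D) = maximalIdeal H := by
      rw [Ideal.comap_comap, ← IsScalarTower.algebraMap_eq]
      exact ((local_hom_TFAE (algebraMap H S)).out 0 4 rfl rfl).mp inferInstance
    rw [h3]
    exact maximalIdeal.isMaximal H
  rw [← eq_maximalIdeal h2] at h1
  exact (notMem_maximalIdeal.mpr hx) h1

/-- Local maps out of a henselization extending a local map are local. -/
theorem isLocalHom_of_henselization {R H T : Type u} [CommRing R] [IsLocalRing R] [CommRing H] [IsLocalRing H]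
    [CommRing T] [IsLocalRing T] [Algebra R H] [IsLocalHom (algebraMap R H)] [Hensel.IsHenselization R H]
    (f : R →+* T) [IsLocalHom f] (g : H →+* T) (hg : g.comp (algebraMap R H) = f) : IsLocalHom g := by
  constructor
  intro x hx
  by_contra hn
  have h0 : x ∈ maximalIdeal H := (mem_maximalIdeal _).mpr hn
  rw [← Groth.Agent.S0507.result R H] at h0
  have h1 : (maximalIdeal R).map (algebraMap R H) ≤ (maximalIdeal T).comap g := by
    rw [Ideal.map_le_iff_le_comap]
    intro r hr
    change g (algebraMap R H r) ∈ maximalIdeal T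
    have h2 : g (algebraMap R H r) = f r := congrArg (fun φ : R →+* T => φ r) hg
    rw [h2]
    exact map_nonunit f _ hr
  exact (notMem_maximalIdeal.mpr hx) (h1 h0)

/-- Descent along injective finite maps. -/
theorem IsHensEss.of_injective {A A' S : Type u} [CommRing A] [IsNoetherianRing A] [CommRing A']
    [HenselianLocalRing A'] [Algebra A A'] [CommRing S] [HenselianLocalRing S] [Algebra A S] (φ : A' →ₐ[A] S)
    (hφ : IsLocalHom (φ : A' →+* S)) (hfin : (φ : A' →+* S).Finite) (hinj : Function.Injective φ)
    (h : IsHensFt A S) : IsHensEss A A' := by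
  classical
  obtain ⟨B, _, _, hft, p, hp, _, _, _, hS⟩ := h
  obtain ⟨s, hs⟩ := hft
  let γ : B →ₐ[A] S := (IsScalarTower.toAlgHom A (Localization.AtPrime p) S).comp
    (IsScalarTower.toAlgHom A B (Localization.AtPrime p))
  have hγ : ∀ b, γ b = algebraMap (Localization.AtPrime p) S (algebraMap B _ b) := fun b => rfl
  let _ : Algebra A' S := (φ : A' →+* S).toAlgebra
  have hfin' : Module.Finite A' S := hfin
  have hint : ∀ b : B, ∃ P : A'[X], P.Monic ∧ P.eval₂ (algebraMap A' S) (γ b) = 0 := fun b =>
    Algebra.IsIntegral.isIntegral (R := A') (γ b)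
  choose P hPm hP using hint
  let A₀ : Subalgebra A A' := Algebra.adjoin A ((s.biUnion fun b => (P b).coeffs : Finset A') : Set A')
  have hA₀ft : Algebra.FiniteType A A₀ := by
    rw [← Subalgebra.fg_iff_finiteType]
    exact ⟨_, rfl⟩
  have hA₀N : IsNoetherianRing A₀ := Algebra.FiniteType.isNoetherianRing A A₀
  let p₀ : Ideal A₀ := (maximalIdeal A').comap (algebraMap A₀ A')
  have hp₀ : p₀.IsPrime := inferInstance
  have hunit : ∀ y : p₀.primeCompl, IsUnit (algebraMap A₀ A' y) := by
    intro y
    exact notMem_maximalIdeal.mp y.2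
  let ρ : Localization.AtPrime p₀ →+* A' :=
    IsLocalization.lift (M := p₀.primeCompl) (S := Localization.AtPrime p₀) hunit
  have hρ : ∀ x, ρ (algebraMap A₀ _ x) = x := fun x => IsLocalization.lift_eq _ _
  have hρl : IsLocalHom ρ := by
    constructor
    intro x hx
    obtain ⟨c, t, rfl⟩ := IsLocalization.exists_mk'_eq p₀.primeCompl x
    have h1 : ρ (IsLocalization.mk' _ c t) * (t : A₀) = (c : A') := by
      rw [← hρ, ← map_mul, IsLocalization.mk'_spec, hρ]
    have h2 : IsUnit (c : A') := by
      rw [← h1]
      exact hx.mul (hunit t)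
    have h3 : c ∈ p₀.primeCompl := notMem_maximalIdeal.mpr h2
    exact (IsLocalization.AtPrime.isUnit_mk'_iff _ p₀ c t).mpr h3
  have hR₀N : IsNoetherianRing (Localization.AtPrime p₀) :=
    IsLocalization.isNoetherianRing p₀.primeCompl _ hA₀N
  obtain ⟨H, _, _, _, _, hH⟩ := Groth.Agent.S0506.result (Localization.AtPrime p₀)
  have hHh : HenselianLocalRing H := hH.henselian
  have hHN : IsNoetherianRing H := (Groth.Agent.S0511.result (Localization.AtPrime p₀) H).mp hR₀N
  obtain ⟨β, hβ, -⟩ := hH.universal A' ρ hρl
  have hβl : IsLocalHom β := isLocalHom_of_henselization ρ β hβ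
  have hβρ : ∀ x, β (algebraMap _ H x) = ρ x := fun x => congrArg (fun f : _ →+* A' => f x) hβ
  let _ : Algebra H A' := β.toAlgebra
  let _ : Algebra H S := ((φ : A' →+* S).comp β).toAlgebra
  have hHA'S : IsScalarTower H A' S := IsScalarTower.of_algebraMap_eq fun x => rfl
  let _ : Algebra A H := ((algebraMap (Localization.AtPrime p₀) H).comp (algebraMap A _)).toAlgebra
  have hAR₀H : IsScalarTower A (Localization.AtPrime p₀) H := IsScalarTower.of_algebraMap_eq fun x => rfl
  have hβA : ∀ a : A, β (algebraMap A H a) = algebraMap A A' a := by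
    intro a
    rw [IsScalarTower.algebraMap_apply A (Localization.AtPrime p₀) H, hβρ,
      IsScalarTower.algebraMap_apply A A₀ (Localization.AtPrime p₀), hρ]
    rfl
  have hHloc : IsLocalHom (algebraMap H S) := by
    change IsLocalHom ((φ : A' →+* S).comp β)
    infer_instance
  -- the structure map `A₀ → H`
  let δ : A₀ →+* H := (algebraMap (Localization.AtPrime p₀) H).comp (algebraMap A₀ _)
  have hδ : ∀ x : A₀, β (δ x) = x := by
    intro x
    change β (algebraMap _ H (algebraMap A₀ _ x)) = x
    rw [hβρ, hρ]
  have hintH : ∀ b ∈ s, IsIntegral H (γ b) := by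
    intro b hb
    have h1 : P b ∈ Polynomial.lifts (algebraMap A₀ A') := by
      rw [Polynomial.lifts_iff_coeffs_subset_range]
      intro c hc
      exact ⟨⟨c, Algebra.subset_adjoin (Finset.mem_coe.mpr (Finset.mem_biUnion.mpr ⟨b, hb, hc⟩))⟩, rfl⟩
    obtain ⟨Q, hQ1, -, hQ3⟩ := Polynomial.lifts_and_degree_eq_and_monic h1 (hPm b)
    refine ⟨Q.map δ, hQ3.map _, ?_⟩
    rw [Polynomial.eval₂_map]
    have h2 : (algebraMap H S).comp δ = (algebraMap A' S).comp (algebraMap A₀ A') := by
      ext x
      change φ (β (δ x)) = φ x
      rw [hδ]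
    rw [h2, ← Polynomial.eval₂_map, hQ1]
    exact hP b
  let D : Subalgebra H S := Algebra.adjoin H (γ '' (s : Set B))
  have hDfin : Module.Finite H D := by
    have h1 := fg_adjoin_of_finite (R := H) (s.finite_toSet.image γ) (by
      rintro _ ⟨b, hb, rfl⟩
      exact hintH b hb)
    exact Module.Finite.iff_fg.mpr h1
  have hDloc : IsLocalRing D := isLocalRing_of_finite_subalgebra D
  have hDh : HenselianLocalRing D := henselianLocalRing_of_integral H D
  have hDl : IsLocalHom (algebraMap D S) := isLocalHom_val D
  have hγD : ∀ b, γ b ∈ D := by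
    intro b
    have hb : b ∈ Algebra.adjoin A (s : Set B) := by rw [hs]; trivial
    induction hb using Algebra.adjoin_induction with
    | mem x hx => exact Algebra.subset_adjoin ⟨x, hx, rfl⟩
    | algebraMap a =>
      have h1 : γ (algebraMap A B a) = algebraMap H S (algebraMap A H a) := by
        rw [γ.commutes]
        change _ = φ (β (algebraMap A H a))
        rw [hβA, φ.commutes]
      rw [h1]
      exact D.algebraMap_mem _
    | add x y _ _ hx hy => rw [map_add]; exact D.add_mem hx hy
    | mul x y _ _ hx hy => rw [map_mul]; exact D.mul_mem hx hy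
  let γD : B →+* D := (γ : B →+* S).codRestrict D hγD
  have hγD' : ∀ b, (γD b : S) = γ b := fun b => rfl
  have hunitD : ∀ y : p.primeCompl, IsUnit (γD y) := by
    intro y
    have h1 : IsUnit (algebraMap B (Localization.AtPrime p) y) := IsLocalization.map_units _ y
    have h2 : IsUnit (algebraMap D S (γD y)) := h1.map (algebraMap (Localization.AtPrime p) S)
    exact isUnit_of_map_unit _ _ h2
  let f : Localization.AtPrime p →+* D :=
    IsLocalization.lift (M := p.primeCompl) (S := Localization.AtPrime p) hunitD
  have hf : (algebraMap D S).comp f = algebraMap (Localization.AtPrime p) S := by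
    refine IsLocalization.ringHom_ext p.primeCompl ?_
    ext b
    change algebraMap D S (f (algebraMap B _ b)) = _
    rw [IsLocalization.lift_eq]
    rfl
  have hfl : IsLocalHom f := by
    have h1 : IsLocalHom ((algebraMap D S).comp f) := by rw [hf]; infer_instance
    exact isLocalHom_of_comp f (algebraMap D S)
  obtain ⟨g, hg, -⟩ := hS.universal D f hfl
  have hid : (algebraMap D S).comp g = RingHom.id S := by
    obtain ⟨e, -, he⟩ := hS.universal S (algebraMap (Localization.AtPrime p) S) inferInstance
    have h1 : ((algebraMap D S).comp g).comp (algebraMap (Localization.AtPrime p) S) =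
        algebraMap (Localization.AtPrime p) S := by rw [RingHom.comp_assoc, hg, hf]
    exact (he _ h1).trans (he (RingHom.id S) (RingHom.id_comp _)).symm
  have hDtop : ∀ x : S, x ∈ D := by
    intro x
    have h1 : algebraMap D S (g x) = x := congrArg (fun f : S →+* S => f x) hid
    rw [← h1]
    exact (g x).2
  have hSfin : Module.Finite H S :=
    Module.Finite.of_surjective D.val.toLinearMap (fun x => ⟨⟨x, hDtop x⟩, rfl⟩)
  have hA'fin : Module.Finite H A' :=
    Module.Finite.of_injective (IsScalarTower.toAlgHom H A' S).toLinearMap hinj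
  have hessH : IsHensEss A H := by
    have h1 : Algebra.EssFiniteType A₀ (Localization.AtPrime p₀) :=
      Algebra.EssFiniteType.of_isLocalization _ p₀.primeCompl
    have h2 : Algebra.EssFiniteType A (Localization.AtPrime p₀) := Algebra.EssFiniteType.comp A A₀ _
    exact ⟨Localization.AtPrime p₀, inferInstance, inferInstance, inferInstance, h2, inferInstance, inferInstance,
      inferInstance, hH⟩
  let βA : H →ₐ[A] A' := { β with commutes' := hβA }
  exact IsHensEss.of_finite βA hβl hA'fin hessH

end K143.HensEss
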