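import Groth.Agent.Hensel.K143.SHFin

/-!
Change of the base of a strict henselization: the fixed ring `E` of the automorphisms acting trivially on the
residues of a subring `D`.
-/

set_option autoImplicit false

universe u

namespace K143.SH

open IsLocalRing Polynomial

section Main

variable (A D : Type u) {S : Type u} [CommRing A] [HenselianLocalRing A] [CommRing D] [CommRing S] [IsLocalRing S]
  [Algebra A S] [IsLocalHom (algebraMap A S)] [h : Hensel.IsStrictHenselization A S] [Algebra A D] [Algebra D S]
  [IsScalarTower A D S]

include h in
/-- `S` is a strict henselization of every subring `E` generated by stages. -/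
theorem isStrictHenselization_of_stages (E : Type u) [CommRing E] [HenselianLocalRing E] [Algebra A E]
    [Algebra E S] [IsScalarTower A E S] [IsLocalHom (algebraMap E S)]
    (hst : ∀ x : E, ∃ (θ : E) (f : A[X]) (p : A[X]), IsStage A (algebraMap E S θ) f ∧ aeval θ f = 0 ∧
      aeval θ p = x) :
    Hensel.IsStrictHenselization E S := by
  have hSc : IsSepClosure (ResidueField A) (ResidueField S) := h.isSepClosure
  have hSs : Algebra.IsSeparable (ResidueField A) (ResidueField S) := hSc.separable
  have hAE : IsLocalHom (algebraMap A E) := by
    have h1 : IsLocalHom ((algebraMap E S).comp (algebraMap A E)) := by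
      rw [← IsScalarTower.algebraMap_eq]; infer_instance
    exact isLocalHom_of_comp (algebraMap A E) (algebraMap E S)
  refine ⟨h.henselian, ⟨hSc.sep_closed, ?_⟩, ?_⟩
  · have hst : IsScalarTower (ResidueField A) (ResidueField E) (ResidueField S) := by
      refine IsScalarTower.of_algebraMap_eq fun x => ?_
      obtain ⟨a, rfl⟩ := residue_surjective x
      change residue S (algebraMap A S a) = residue S (algebraMap E S (algebraMap A E a))
      rw [← IsScalarTower.algebraMap_apply]
    exact Algebra.isSeparable_tower_top_of_isSeparable (ResidueField A) (ResidueField E) (ResidueField S)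
  · intro T _ _ f _ τ hτ
    have hfA : IsLocalHom (f.comp (algebraMap A E)) := inferInstance
    have hres : ∀ x : E, τ (residue S (algebraMap E S x)) = residue T (f x) := by
      intro x
      exact congrArg (fun φ : ResidueField E →+* ResidueField T => φ (residue E x)) hτ
    obtain ⟨g, ⟨hg1, hg2⟩, hg3⟩ := h.universal T (f.comp (algebraMap A E)) τ (by
      refine RingHom.ext fun x => ?_
      obtain ⟨x, rfl⟩ := residue_surjective x
      change τ (residue S (algebraMap A S x)) = residue T (f (algebraMap A E x))
      rw [IsScalarTower.algebraMap_apply A E S, hres])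
    refine ⟨g, ⟨?_, hg2⟩, ?_⟩
    · ext x
      obtain ⟨θ, F, p, hθ, hθF, rfl⟩ := hst x
      -- the two images of `θ` agree
      have hmapf : ∀ P : A[X], (P.map (f.comp (algebraMap A E))).eval (f θ) = f (aeval θ P) := by
        intro P
        rw [← eval_map_comp, Polynomial.aeval_def, Polynomial.eval_map]
      have hmapg : ∀ P : A[X], (P.map (f.comp (algebraMap A E))).eval (g (algebraMap E S θ)) =
          g (aeval (algebraMap E S θ) P) := by
        intro P
        rw [← hg1, ← eval_map_comp, Polynomial.aeval_def, Polynomial.eval_map]
      have hroot : g (algebraMap E S θ) = f θ := by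
        refine root_unique (F.map (f.comp (algebraMap A E))) _ _ ?_ ?_ ?_ ?_
        · rw [hmapg, hθ.root, map_zero]
        · rw [hmapf, hθF, map_zero]
        · rw [Polynomial.derivative_map, hmapg]
          exact hθ.isUnit_derivative.map g
        · rw [hg2, hres]
      change g (algebraMap E S (aeval θ p)) = f (aeval θ p)
      rw [← hmapf, ← hroot, hmapg, Polynomial.aeval_algebraMap_apply]
    · rintro g' ⟨hg'1, hg'2⟩
      refine hg3 g' ⟨?_, hg'2⟩
      rw [← hg'1, RingHom.comp_assoc, ← IsScalarTower.algebraMap_eq]

end Main

end K143.SH
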