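import Groth.Agent.Hensel.K143.SHStab
import Mathlib.FieldTheory.PrimitiveElement

/-!
Correspondence between open subgroups of the stabilizer of a minimal prime `Q` of the strict henselization `S`
and fraction fields inside `Frac (S/Q)`.
-/

set_option autoImplicit false

universe u

namespace K143.SH

open IsLocalRing Polynomial

section Interp

variable {R : Type*} [CommRing R] [DecidableEq R]

/-- Lagrange type interpolation polynomial. -/
noncomputable def interp (O : Finset R) (w : R → R) : R[X] :=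
  ∑ i ∈ O, C (w i) * ∏ j ∈ O.erase i, (X - C j)

theorem interp_eval (O : Finset R) (w : R → R) (y : R) (hy : y ∈ O) :
    (interp O w).eval y = w y * ∏ j ∈ O.erase y, (y - j) := by
  rw [interp, Polynomial.eval_finsetSum, Finset.sum_eq_single y]
  · simp [Polynomial.eval_prod]
  · intro i hi hne
    rw [Polynomial.eval_mul, Polynomial.eval_prod,
      Finset.prod_eq_zero (i := y) (Finset.mem_erase.mpr ⟨hne.symm, hy⟩) (by simp), mul_zero]
  · intro h
    exact absurd hy h

theorem interp_map (O : Finset R) (w : R → R) (φ : R →+* R) (hφ : Function.Injective φ)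
    (hO : ∀ i ∈ O, φ i ∈ O) (hw : ∀ i ∈ O, φ (w i) = w (φ i)) : (interp O w).map φ = interp O w := by
  have himg : O.image φ = O := by
    refine Finset.eq_of_subset_of_card_le ?_ ?_
    · intro x hx
      obtain ⟨i, hi, rfl⟩ := Finset.mem_image.mp hx
      exact hO i hi
    · rw [Finset.card_image_of_injective _ hφ]
  conv_rhs => rw [← himg]
  rw [interp, interp, Finset.sum_image (fun _ _ _ _ h => hφ h), Polynomial.map_sum]
  refine Finset.sum_congr rfl fun i hi => ?_
  rw [Polynomial.map_mul, Polynomial.map_prod, Polynomial.map_C, hw i hi,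
    ← Finset.image_erase hφ, Finset.prod_image (fun _ _ _ _ h => hφ h)]
  congr 1
  refine Finset.prod_congr rfl fun j _ => ?_
  simp

end Interp

section Main

variable (A : Type u) {S : Type u} [CommRing A] [HenselianLocalRing A] [CommRing S] [IsLocalRing S] [Algebra A S]
  [IsLocalHom (algebraMap A S)] [h : Hensel.IsStrictHenselization A S]

variable {A} in
/-- the action of the stabilizer on the quotient -/
def act {Q : Ideal S} (g : S ≃ₐ[A] S) (hg : g ∈ stab Q) : S ⧸ Q →+* S ⧸ Q :=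
  Ideal.quotientMap Q (g : S →+* S) (fun x hx => (hg x).mpr hx)

variable {A} in
omit [HenselianLocalRing A] [IsLocalRing S] [IsLocalHom (algebraMap A S)] h in
theorem act_mk {Q : Ideal S} (g : S ≃ₐ[A] S) (hg : g ∈ stab Q) (x : S) :
    act g hg (Ideal.Quotient.mk Q x) = Ideal.Quotient.mk Q (g x) := rfl

variable {A} in
omit [HenselianLocalRing A] [IsLocalRing S] [IsLocalHom (algebraMap A S)] h in
theorem act_injective {Q : Ideal S} (g : S ≃ₐ[A] S) (hg : g ∈ stab Q) : Function.Injective (act g hg) := by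
  rw [injective_iff_map_eq_zero]
  intro x hx
  obtain ⟨x, rfl⟩ := Ideal.Quotient.mk_surjective x
  rw [act_mk, Ideal.Quotient.eq_zero_iff_mem] at hx
  exact Ideal.Quotient.eq_zero_iff_mem.mpr ((hg x).mp hx)

/-- Common denominators for polynomials with fixed coefficients. -/
theorem exists_common [IsNoetherianRing A] (Q : Ideal S) (hQ : Q ∈ minimalPrimes S) (P : (S ⧸ Q)[X])
    (hP : ∀ g (hg : g ∈ stab (A := A) Q), P.map (act g hg) = P) :
    ∃ (b : A) (G : A[X]), algebraMap A S b ∉ Q ∧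
      G.map ((Ideal.Quotient.mk Q).comp (algebraMap A S)) =
        C (Ideal.Quotient.mk Q (algebraMap A S b)) * P := by
  classical
  have hQp : Q.IsPrime := hQ.1.1
  have h1 : ∀ i : ℕ, ∃ a b : A, algebraMap A S b ∉ Q ∧
      Ideal.Quotient.mk Q (algebraMap A S b) * P.coeff i = Ideal.Quotient.mk Q (algebraMap A S a) := by
    intro i
    obtain ⟨x, hx⟩ := Ideal.Quotient.mk_surjective (P.coeff i)
    obtain ⟨a, b, hb, hab⟩ := exists_frac_of_fixed A Q hQ x (fun g hg => by
      have h2 := congrArg (fun p => p.coeff i) (hP g hg)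
      simp only [Polynomial.coeff_map] at h2
      rw [← hx, act_mk] at h2
      exact Ideal.Quotient.eq.mp h2)
    refine ⟨a, b, hb, ?_⟩
    rw [← hx, ← map_mul]
    exact Ideal.Quotient.eq.mpr hab
  choose a b hb hab using h1
  refine ⟨∏ j ∈ P.support, b j, ∑ i ∈ P.support, C (a i * ∏ j ∈ P.support.erase i, b j) * X ^ i, ?_, ?_⟩
  · rw [map_prod]
    intro hmem
    obtain ⟨j, -, hj⟩ := (hQp.prod_mem_iff).mp hmem
    exact hb j hj
  · refine Eq.trans ?_ (congrArg (fun t => C (Ideal.Quotient.mk Q (algebraMap A S (∏ j ∈ P.support, b j))) * t)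
      P.as_sum_support_C_mul_X_pow.symm)
    rw [Polynomial.map_sum, Finset.mul_sum]
    refine Finset.sum_congr rfl fun i hi => ?_
    rw [Polynomial.map_mul, Polynomial.map_pow, Polynomial.map_X, Polynomial.map_C, ← mul_assoc, ← C_mul]
    congr 2
    rw [RingHom.comp_apply, map_mul, map_mul, ← hab, ← Finset.mul_prod_erase _ _ hi, map_mul, map_mul]
    ring

/-- Lemma I: if `x` is fixed (mod `Q`) by all elements of the stabilizer fixing `y` (mod `Q`), then
`x` is a fraction of polynomials in `y`. -/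
theorem exists_frac_of_fixed_of_fixed [IsNoetherianRing A] (Q : Ideal S) (hQ : Q ∈ minimalPrimes S) (x y : S)
    (hx : ∀ g ∈ stab (A := A) Q, g y - y ∈ Q → g x - x ∈ Q) :
    ∃ D G : A[X], aeval y D ∉ Q ∧ aeval y D * x - aeval y G ∈ Q := by
  classical
  have hQp : Q.IsPrime := hQ.1.1
  let mk := Ideal.Quotient.mk Q
  have hO : (Set.range fun g : stab (A := A) Q => mk ((g : S ≃ₐ[A] S) y)).Finite := by
    refine ((finite_orbit A y).image mk).subset ?_
    rintro _ ⟨n, rfl⟩
    exact ⟨_, ⟨n, rfl⟩, rfl⟩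
  let O : Finset (S ⧸ Q) := hO.toFinset
  have hOmem : ∀ i, i ∈ O ↔ ∃ g : stab (A := A) Q, mk ((g : S ≃ₐ[A] S) y) = i := by
    intro i
    exact hO.mem_toFinset
  let W : S ⧸ Q → S ⧸ Q := fun i =>
    if hi : ∃ g : stab (A := A) Q, mk ((g : S ≃ₐ[A] S) y) = i then mk ((hi.choose : S ≃ₐ[A] S) x) else 0
  have hW : ∀ g ∈ stab (A := A) Q, W (mk (g y)) = mk (g x) := by
    intro g hg
    have hi : ∃ g' : stab (A := A) Q, mk ((g' : S ≃ₐ[A] S) y) = mk (g y) := ⟨⟨g, hg⟩, rfl⟩
    have h1 : W (mk (g y)) = mk ((hi.choose : S ≃ₐ[A] S) x) := dif_pos hi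
    rw [h1]
    have h2 := hi.choose_spec
    set g' := hi.choose
    have h3 : ∀ z : S, mk ((g' : S ≃ₐ[A] S) z) = mk (g z) ↔ ((g⁻¹ * g' : S ≃ₐ[A] S)) z - z ∈ Q := by
      intro z
      rw [Ideal.Quotient.eq, ← (inv_mem hg) ((g' : S ≃ₐ[A] S) z - g z), map_sub]
      rw [← AlgEquiv.mul_apply, ← AlgEquiv.mul_apply, inv_mul_cancel, AlgEquiv.one_apply]
    rw [h3] at h2 ⊢
    exact hx _ (mul_mem (inv_mem hg) g'.2) h2
  have hact1 : ∀ g (hg : g ∈ stab (A := A) Q), ∀ i ∈ O, act g hg i ∈ O := by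
    intro g hg i hi
    obtain ⟨g', rfl⟩ := (hOmem i).mp hi
    rw [hOmem]
    exact ⟨⟨g, hg⟩ * g', rfl⟩
  have hact2 : ∀ g (hg : g ∈ stab (A := A) Q), ∀ i ∈ O, act g hg (W i) = W (act g hg i) := by
    intro g hg i hi
    obtain ⟨g', rfl⟩ := (hOmem i).mp hi
    rw [hW _ g'.2, act_mk, act_mk]
    exact (hW _ (mul_mem hg g'.2)).symm
  have hy : mk y ∈ O := (hOmem _).mpr ⟨1, rfl⟩
  obtain ⟨b, G, hb, hG⟩ := exists_common A Q hQ (interp O W) (fun g hg =>
    interp_map O W (act g hg) (act_injective g hg) (hact1 g hg) (hact2 g hg))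
  obtain ⟨c, D, hc, hD⟩ := exists_common A Q hQ (interp O (fun _ => 1)) (fun g hg =>
    interp_map O (fun _ => 1) (act g hg) (act_injective g hg) (hact1 g hg) (fun i hi => map_one _))
  have heval : ∀ P : A[X], mk (aeval y P) = (P.map (mk.comp (algebraMap A S))).eval (mk y) := by
    intro P
    rw [Polynomial.eval_map, ← Polynomial.hom_eval₂]
    rfl
  have hprod : ∏ j ∈ O.erase (mk y), (mk y - j) ≠ 0 := by
    rw [Finset.prod_ne_zero_iff]
    intro j hj
    exact sub_ne_zero.mpr (Finset.mem_erase.mp hj).1.symm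
  have hG1 : mk (aeval y G) = mk (algebraMap A S b) * (mk x * ∏ j ∈ O.erase (mk y), (mk y - j)) := by
    rw [heval, hG, Polynomial.eval_mul, Polynomial.eval_C, interp_eval _ _ _ hy]
    have := hW 1 (one_mem _)
    rw [AlgEquiv.one_apply, AlgEquiv.one_apply] at this
    rw [this]
  have hD1 : mk (aeval y D) = mk (algebraMap A S c) * (∏ j ∈ O.erase (mk y), (mk y - j)) := by
    rw [heval, hD, Polynomial.eval_mul, Polynomial.eval_C, interp_eval _ _ _ hy, one_mul]
  have hb0 : mk (algebraMap A S b) ≠ 0 := fun h0 => hb (Ideal.Quotient.eq_zero_iff_mem.mp h0)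
  have hc0 : mk (algebraMap A S c) ≠ 0 := fun h0 => hc (Ideal.Quotient.eq_zero_iff_mem.mp h0)
  refine ⟨C b * D, C c * G, ?_, ?_⟩
  · intro h0
    rw [← Ideal.Quotient.eq_zero_iff_mem, map_mul, aeval_C] at h0
    change mk (algebraMap A S b * aeval y D) = 0 at h0
    rw [map_mul, hD1] at h0
    exact mul_ne_zero hb0 (mul_ne_zero hc0 hprod) h0
  · rw [← Ideal.Quotient.eq]
    change mk (aeval y (C b * D) * x) = mk (aeval y (C c * G))
    rw [map_mul (aeval y), map_mul (aeval y), aeval_C, aeval_C, map_mul, map_mul, map_mul, hD1, hG1]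
    ring

end Main

end K143.SH
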