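import Groth.Agent.Hensel.K143.SHGalois
import Groth.Agent.Hensel.K143.PairLocal
import Groth.Agent.S0525
import Groth.Agent.S0526

/-!
* integral local algebras over henselian local rings are henselian;
* descent of ideals stable under a subgroup of the Galois group;
* the subgroup `resStab A D` of automorphisms acting trivially on the residues of `D` and its fixed ring.
-/

set_option autoImplicit false

universe u

namespace K143.SH

open IsLocalRing Polynomial

/-- A local ring integral over a henselian local ring is henselian. -/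
theorem henselianLocalRing_of_integral (A D : Type u) [CommRing A] [HenselianLocalRing A] [CommRing D]
    [IsLocalRing D] [Algebra A D] [Algebra.IsIntegral A D] : HenselianLocalRing D := by
  have h1 : HenselianRing A (maximalIdeal A) := inferInstance
  have h2 : HenselianRing D ((maximalIdeal A).map (algebraMap A D)) := Groth.Agent.S0526.result A _ D
  have hne : (maximalIdeal A).map (algebraMap A D) ≠ ⊤ := by
    intro htop
    have := h2.jac
    rw [htop, top_le_iff, Ideal.jacobson_eq_top_iff] at this
    exact bot_ne_top this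
  have hrad : ((maximalIdeal A).map (algebraMap A D)).radical = (maximalIdeal D).radical := by
    rw [(maximalIdeal.isMaximal D).isPrime.radical]
    refine le_antisymm ?_ ?_
    · rw [(maximalIdeal.isMaximal D).isPrime.radical_le_iff]
      exact le_maximalIdeal hne
    · rw [Ideal.radical_eq_sInf]
      refine le_sInf ?_
      rintro P ⟨hP, hPp⟩
      have h3 : P.comap (algebraMap A D) = maximalIdeal A := by
        have h4 : maximalIdeal A ≤ P.comap (algebraMap A D) := Ideal.map_le_iff_le_comap.mp hP
        exact ((maximalIdeal.isMaximal A).eq_of_le (Ideal.IsPrime.ne_top inferInstance) h4).symm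
      have h5 : P.IsMaximal := Ideal.isMaximal_of_isIntegral_of_isMaximal_comap P
        (by rw [h3]; exact maximalIdeal.isMaximal A)
      exact (eq_maximalIdeal h5).ge
  have h3 : HenselianRing D (maximalIdeal D) := (Groth.Agent.S0525.result D _ _ hrad).mp h2
  exact K143.PairLocal.henselianLocalRing_of_henselianRing D h3

theorem eval_map_comp {A R T : Type*} [CommRing A] [CommRing R] [CommRing T] (α : A →+* R) (φ : R →+* T)
    (p : A[X]) (r : R) : φ ((p.map α).eval r) = (p.map (φ.comp α)).eval (φ r) := by
  rw [← Polynomial.map_map, Polynomial.eval_map_apply]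

section Lift

variable {A : Type u} {S : Type u} [CommRing A] [IsLocalRing A] [CommRing S] [IsLocalRing S] [Algebra A S]
  [IsLocalHom (algebraMap A S)]

/-- Stages lift to henselian subrings containing their residue. -/
theorem IsStage.exists_lift {θ : S} {f : A[X]} (h : IsStage A θ f) {R T : Type*} [CommRing R]
    [HenselianLocalRing R] [Algebra A R] [CommRing T] [IsLocalRing T] (ι : R →+* T) [IsLocalHom ι]
    (j : S →+* T) (hj : ι.comp (algebraMap A R) = j.comp (algebraMap A S)) (r : R)
    (hr : residue T (ι r) = residue T (j θ)) : ∃ r' : R, aeval r' f = 0 ∧ ι r' = j θ := by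
  have hjθ : ∀ p : A[X], (p.map (ι.comp (algebraMap A R))).eval (j θ) = j (aeval θ p) := by
    intro p
    rw [hj, ← eval_map_comp, Polynomial.aeval_def, Polynomial.eval_map]
  have hev2 : ∀ (p : A[X]) (t : T), residue T t = residue T (j θ) →
      residue T ((p.map (ι.comp (algebraMap A R))).eval t) = residue T (j (aeval θ p)) := by
    intro p t ht
    rw [eval_map_comp, ht, ← eval_map_comp, hjθ]
  have hu : IsUnit (j (aeval θ (derivative f))) := h.isUnit_derivative.map j
  have h0 : (f.map (algebraMap A R)).eval r ∈ maximalIdeal R := by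
    rw [mem_maximalIdeal, mem_nonunits_iff]
    intro hun
    have h1 := (hun.map ι).map (residue T)
    rw [eval_map_comp, hev2 f _ hr, h.root, map_zero, map_zero] at h1
    exact not_isUnit_zero h1
  have h1 : IsUnit ((f.map (algebraMap A R)).derivative.eval r) := by
    refine IsUnit.of_map ι _ ?_
    rw [Polynomial.derivative_map, eval_map_comp]
    refine IsUnit.of_map (residue T) _ ?_
    rw [hev2 _ _ hr]
    exact hu.map _
  obtain ⟨r', hr'1, hr'2⟩ := HenselianLocalRing.is_henselian (f.map (algebraMap A R)) (h.monic.map _) r h0 h1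
  refine ⟨r', ?_, ?_⟩
  · rw [Polynomial.aeval_def, ← Polynomial.eval_map]
    exact hr'1
  have h2 : residue T (ι r') = residue T (j θ) := by
    rw [← hr, ← sub_eq_zero, ← map_sub, ← map_sub, residue_eq_zero_iff]
    exact map_nonunit ι _ hr'2
  refine root_unique (f.map (ι.comp (algebraMap A R))) _ _ ?_ ?_ ?_ h2
  · rw [← eval_map_comp, hr'1, map_zero]
  · rw [hjθ, h.root, map_zero]
  · rw [Polynomial.derivative_map]
    refine IsUnit.of_map (residue T) _ ?_
    rw [hev2 _ _ h2]
    exact hu.map _

end Lift

section Desc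

variable {A : Type u} {S : Type u} [CommRing A] [IsLocalRing A] [CommRing S] [IsLocalRing S] [Algebra A S]
  [IsLocalHom (algebraMap A S)]

/-- Galois descent for one element of an ideal. -/
theorem IsStage.mem_span_fixed {θ : S} {f : A[X]} (h : IsStage A θ f) (N : Subgroup (S ≃ₐ[A] S)) (Q : Ideal S)
    (hN : N ≤ stab Q) (q : A[X]) (hq : aeval θ q ∈ Q) :
    aeval θ q ∈ Ideal.span {z | z ∈ Q ∧ ∀ g ∈ N, g z = z} := by
  classical
  let Oset : Set S := Set.range fun n : N => (n : S ≃ₐ[A] S) θ
  have hO : Oset.Finite := h.finite_orbit.subset (by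
    rintro _ ⟨n, rfl⟩
    exact ⟨n, rfl⟩)
  let O : Finset S := hO.toFinset
  have hmem : ∀ i, i ∈ O ↔ ∃ g : N, (g : S ≃ₐ[A] S) θ = i := fun i => hO.mem_toFinset
  have hθ : θ ∈ O := (hmem _).mpr ⟨1, rfl⟩
  let P : S[X] := ∏ i ∈ O.erase θ, (X - C i)
  have hu : IsUnit (P.eval θ) := by
    refine IsUnit.of_map (residue S) _ ?_
    rw [Polynomial.eval_prod, map_prod, isUnit_iff_ne_zero, Finset.prod_ne_zero_iff]
    intro i hi
    obtain ⟨hne, hi⟩ := Finset.mem_erase.mp hi
    obtain ⟨g, rfl⟩ := (hmem i).mp hi
    rw [Polynomial.eval_sub, Polynomial.eval_X, Polynomial.eval_C, map_sub, sub_ne_zero]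
    intro h1
    exact hne (h.algEquiv_eq_of_residue g 1 h1.symm)
  have h0 : ∀ i ∈ O, i ≠ θ → P.eval i = 0 := by
    intro i hi hne
    rw [Polynomial.eval_prod]
    exact Finset.prod_eq_zero (i := i) (Finset.mem_erase.mpr ⟨hne, hi⟩) (by simp)
  have hT : ∀ r : A[X], ∀ g ∈ N, g (∑ i ∈ O, aeval i r) = ∑ i ∈ O, aeval i r := by
    intro r g hg
    have himg : O.image g = O := by
      refine Finset.eq_of_subset_of_card_le ?_ ?_
      · intro y hy
        obtain ⟨i, hi, rfl⟩ := Finset.mem_image.mp hy
        obtain ⟨g', rfl⟩ := (hmem i).mp hi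
        rw [hmem]
        exact ⟨⟨g, hg⟩ * g', rfl⟩
      · rw [Finset.card_image_of_injective _ g.injective]
    conv_rhs => rw [← himg]
    rw [Finset.sum_image (fun _ _ _ _ h => g.injective h), map_sum]
    exact Finset.sum_congr rfl fun i _ => algEquiv_aeval g i r
  have hTQ : ∀ j : ℕ, ∑ i ∈ O, aeval i (X ^ j * q) ∈ Q := by
    intro j
    refine Q.sum_mem fun i hi => ?_
    obtain ⟨g, rfl⟩ := (hmem i).mp hi
    rw [← algEquiv_aeval]
    refine (hN g.2 _).mpr ?_
    rw [map_mul]
    exact Q.mul_mem_left _ hq
  have key : P.eval θ * aeval θ q = ∑ j ∈ Finset.range (P.natDegree + 1),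
      P.coeff j * ∑ i ∈ O, aeval i (X ^ j * q) := by
    have h1 : P.eval θ * aeval θ q = ∑ i ∈ O, P.eval i * aeval i q := by
      rw [Finset.sum_eq_single θ]
      · intro i hi hne
        rw [h0 i hi hne, zero_mul]
      · intro hn
        exact absurd hθ hn
    rw [h1]
    simp only [Polynomial.eval_eq_sum_range, Finset.sum_mul, Finset.mul_sum]
    rw [Finset.sum_comm]
    refine Finset.sum_congr rfl fun j _ => Finset.sum_congr rfl fun i _ => ?_
    rw [map_mul, map_pow, aeval_X, mul_assoc]
  obtain ⟨u, hu'⟩ := hu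
  have h2 : aeval θ q = ↑u⁻¹ * (P.eval θ * aeval θ q) := by
    rw [← hu', ← mul_assoc, Units.inv_mul, one_mul]
  rw [h2, key]
  refine Ideal.mul_mem_left _ _ (Ideal.sum_mem _ fun j _ => Ideal.mul_mem_left _ _ (Ideal.subset_span ⟨hTQ j, ?_⟩))
  exact hT _

end Desc

section Desc2

variable (A : Type u) {S : Type u} [CommRing A] [HenselianLocalRing A] [CommRing S] [IsLocalRing S] [Algebra A S]
  [IsLocalHom (algebraMap A S)] [h : Hensel.IsStrictHenselization A S]

include h in
/-- Galois descent for ideals. -/
theorem le_span_fixed (N : Subgroup (S ≃ₐ[A] S)) (Q : Ideal S) (hN : N ≤ stab Q) :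
    Q ≤ Ideal.span {z | z ∈ Q ∧ ∀ g ∈ N, g z = z} := by
  intro x hx
  obtain ⟨θ, f, hθ, hs⟩ := exists_stage_finset A {x}
  obtain ⟨p, rfl⟩ := hs x (Finset.mem_singleton_self _)
  exact hθ.mem_span_fixed N Q hN p hx

end Desc2

end K143.SH
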