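import Groth.Agent.Hensel.K143.SHRes
import Mathlib.RingTheory.Unramified.LocalRing

/-!
* finite étale local algebras `E` over a henselian local ring inject into the strict henselization;
* automorphisms acting trivially on the residues of an unramified algebra act trivially on it;
* `extended_iff`: a minimal prime `Q` of `S` is extended from `E` iff the residue field of `S^{stab Q}` is
  contained in the one of `E`.
-/

set_option autoImplicit false

universe u

namespace K143.SH

open IsLocalRing Polynomial

section Main

variable (A E : Type u) {S : Type u} [CommRing A] [HenselianLocalRing A] [CommRing E] [CommRing S] [IsLocalRing S]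
  [Algebra A S] [IsLocalHom (algebraMap A S)] [h : Hensel.IsStrictHenselization A S] [Algebra A E] [Algebra E S]
  [IsScalarTower A E S]

omit [HenselianLocalRing A] h in
theorem isLocalHom_of_unramified [IsLocalRing A] [IsLocalRing E] [IsLocalHom (algebraMap A E)] [Module.Finite A E]
    [Algebra.FormallyUnramified A E] : IsLocalHom (algebraMap E S) := by
  constructor
  intro y hy
  by_contra hn
  have h1 : y ∈ maximalIdeal E := (mem_maximalIdeal _).mpr hn
  rw [← Algebra.FormallyUnramified.map_maximalIdeal (R := A) (S := E)] at h1
  have h2 := Ideal.mem_map_of_mem (algebraMap E S) h1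
  rw [Ideal.map_map, ← IsScalarTower.algebraMap_eq] at h2
  have h3 : (maximalIdeal A).map (algebraMap A S) ≤ maximalIdeal S :=
    ((local_hom_TFAE (algebraMap A S)).out 0 2 rfl rfl).mp inferInstance
  exact (notMem_maximalIdeal.mpr hy) (h3 h2)

include h in
theorem injective_of_etale [IsLocalRing E] [IsLocalHom (algebraMap A E)] [Module.Finite A E]
    [Algebra.FormallyUnramified A E] : Function.Injective (algebraMap E S) := by
  have hloc : IsLocalHom (algebraMap E S) := isLocalHom_of_unramified A E
  have hff : Module.FaithfullyFlat A S := Groth.Agent.S0539.result A S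
  have hEh : HenselianLocalRing E := henselianLocalRing_of_integral A E
  obtain ⟨y, hy⟩ := Field.exists_primitive_element (ResidueField A) (ResidueField E)
  let j : ResidueField E →+* ResidueField S := ResidueField.map (algebraMap E S)
  obtain ⟨θ, f, hθ, hθy⟩ := exists_stage A (j y)
  obtain ⟨x, rfl⟩ := residue_surjective y
  obtain ⟨θE, hfE, hθE⟩ := hθ.exists_lift (R := E) (algebraMap E S) (RingHom.id S)
    (by rw [RingHom.id_comp, ← IsScalarTower.algebraMap_eq]) x (by
      rw [RingHom.id_apply, hθy]
      rfl)
  rw [RingHom.id_apply] at hθE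
  have hres : residue E θE = residue E x := by
    refine j.injective ?_
    rw [← hθy, ← hθE]
    rfl
  -- `E = A[θE]`
  have hgen : ∀ e : E, ∃ p : A[X], aeval θE p = e := by
    let N : Submodule A E := LinearMap.range (aeval θE : A[X] →ₐ[A] E).toLinearMap
    have h1 : (⊤ : Submodule A E) ≤ N ⊔ (maximalIdeal A) • ⊤ := by
      intro e _
      have h2 : residue E e ∈ IntermediateField.adjoin (ResidueField A) {residue E x} := by
        rw [hy]; trivial
      rw [← IntermediateField.mem_toSubalgebra, IntermediateField.adjoin_simple_toSubalgebra_of_isAlgebraic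
        (Algebra.IsAlgebraic.isAlgebraic _), Algebra.adjoin_singleton_eq_range_aeval] at h2
      obtain ⟨p, hp⟩ := h2
      obtain ⟨q, rfl⟩ := Polynomial.map_surjective (residue A) residue_surjective p
      have h3 : residue E (aeval θE q) = residue E e := by
        rw [residue_aeval, hres]
        exact hp
      have h4 : e - aeval θE q ∈ (maximalIdeal A) • (⊤ : Submodule A E) := by
        rw [Ideal.smul_top_eq_map, Algebra.FormallyUnramified.map_maximalIdeal, Submodule.restrictScalars_mem,
          ← residue_eq_zero_iff, map_sub, h3, sub_self]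
      have h5 : e = aeval θE q + (e - aeval θE q) := by ring
      rw [h5]
      exact Submodule.add_mem_sup ⟨q, rfl⟩ h4
    have h2 := Submodule.le_of_le_smul_of_le_jacobson_bot (Module.Finite.fg_top (R := A) (M := E))
      ((jacobson_eq_maximalIdeal (⊥ : Ideal A) bot_ne_top).ge) h1
    intro e
    exact h2 (Submodule.mem_top (x := e))
  rw [injective_iff_map_eq_zero]
  intro e he
  obtain ⟨p, rfl⟩ := hgen e
  rw [← Polynomial.aeval_algebraMap_apply, hθE] at he
  have h1 : AdjoinRoot.mk f p = 0 := by
    refine hθ.injective ?_
    rw [hθ.hom_mk, he, map_zero]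
  obtain ⟨q, rfl⟩ := AdjoinRoot.mk_eq_zero.mp h1
  rw [map_mul, hfE, zero_mul]

variable {E}

omit [HenselianLocalRing A] [IsLocalHom (algebraMap A S)] h in
/-- Automorphisms trivial on residues of an unramified algebra are trivial on it. -/
theorem algEquiv_algebraMap_eq [IsNoetherianRing S] [Algebra.FormallyUnramified A E] (g : S ≃ₐ[A] S)
    (hg : g ∈ resStab A E S) (y : E) : g (algebraMap E S y) = algebraMap E S y := by
  have h1 : ⨅ i : ℕ, (maximalIdeal S) ^ i = ⊥ :=
    Ideal.iInf_pow_eq_bot_of_isLocalRing _ (maximalIdeal.isMaximal S).ne_top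
  have h2 : (g : S →ₐ[A] S).comp (IsScalarTower.toAlgHom A E S) = IsScalarTower.toAlgHom A E S :=
    Algebra.FormallyUnramified.ext_of_iInf _ h1 (fun y => hg y)
  exact congrArg (fun φ : E →ₐ[A] S => φ y) h2

variable (E)

/-- A minimal prime of the strict henselization is extended from `E` iff the residues of the elements fixed by
its stabilizer come from `E`. -/
theorem extended_iff [IsNoetherianRing A] [Algebra.FormallyUnramified A E]
    (hinj : Function.Injective (algebraMap E S)) (Q : Ideal S) (hQ : Q ∈ minimalPrimes S) :
    Q = Ideal.map (algebraMap E S) (Q.comap (algebraMap E S)) ↔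
      ∀ x : S, (∀ g ∈ stab (A := A) Q, g x = x) → ∃ e : E, residue S (algebraMap E S e) = residue S x := by
  have hSN : IsNoetherianRing S := (Groth.Agent.S0540.result A S).mp inferInstance
  constructor
  · intro hext x hx
    refine exists_residue_of_fixed A E hinj x fun g hg => hx g ?_
    have h1 : ∀ g ∈ resStab A E S, ∀ z ∈ Q, g z ∈ Q := by
      intro g hg z hz
      have h2 : Q ≤ Q.comap (g : S →+* S) := by
        conv_lhs => rw [hext]
        rw [Ideal.map_le_iff_le_comap]
        intro y hy
        change g (algebraMap E S y) ∈ Q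
        rw [algEquiv_algebraMap_eq A g hg y]
        exact hy
      exact h2 hz
    intro z
    refine ⟨fun hz => ?_, h1 g hg z⟩
    have h3 := h1 g⁻¹ (inv_mem hg) _ hz
    rwa [← AlgEquiv.mul_apply, inv_mul_cancel, AlgEquiv.one_apply] at h3
  · intro hres
    have hN : resStab A E S ≤ stab (A := A) Q := by
      obtain ⟨t, ht, htfix, htsep⟩ := exists_separating_fixed A Q hQ
      obtain ⟨θ, f, p, hθ, hθfix, rfl⟩ := exists_stage_aeval_of_fixed A (stab (A := A) Q) t htfix
      obtain ⟨e, he⟩ := hres θ hθfix
      intro g hg
      by_contra hgs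
      have h1 := htsep g hgs
      rw [algEquiv_aeval, hθ.fixed_of_residue A E e he.symm g hg] at h1
      exact ht h1
    refine le_antisymm ?_ Ideal.map_comap_le
    refine (le_span_fixed A (resStab A E S) Q hN).trans (Ideal.span_le.mpr ?_)
    rintro z ⟨hzQ, hz⟩
    obtain ⟨d, rfl⟩ := exists_algebraMap_eq_of_fixed A E hinj z hz
    exact Ideal.mem_map_of_mem _ hzQ

end Main

end K143.SH
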