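import Groth.Agent.Hensel.K143.SHNorm
import Groth.Agent.Hensel.K143.SHExt

/-!
For a henselian local domain `A` with normalization `A'`: the separable closure of `κ(A)` in `κ(A')` is
identified with the residue field of the elements of `S` fixed by the stabilizer of a minimal prime.
-/

set_option autoImplicit false

universe u

namespace K143.SH

open IsLocalRing Polynomial

section Main

variable (A : Type u) {S : Type u} [CommRing A] [HenselianLocalRing A] [CommRing S] [IsLocalRing S]
  [Algebra A S] [IsLocalHom (algebraMap A S)] [h : Hensel.IsStrictHenselization A S]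
  [IsLocalRing (integralClosure A (FractionRing A))]
  [IsLocalHom (algebraMap A (integralClosure A (FractionRing A)))]

variable (Q : Ideal S) [Q.IsPrime]

omit [IsLocalHom (algebraMap A (integralClosure A (FractionRing A)))] in
theorem maxOf_eq (hinj : Function.Injective (algebraMap A S)) (hQ : Q ∈ minimalPrimes S) :
    maxOf A A Q hinj hQ = maximalIdeal (integralClosure A (FractionRing A)) :=
  eq_maximalIdeal (maxOf_isMaximal A A Q hinj hQ)

/-- The embedding of the separable closure in the residue field of `S`. -/
theorem exists_embedding [IsNoetherianRing A] [IsReduced S] (hinj : Function.Injective (algebraMap A S))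
    (hQ : Q ∈ minimalPrimes S) :
    ∃ ε : separableClosure (ResidueField A) (ResidueField (integralClosure A (FractionRing A))) →ₐ[ResidueField A]
        ResidueField S,
      (∀ y, ∃ x : S, (∀ g ∈ stab (A := A) Q, g x = x) ∧ residue S x = ε y) ∧
      (∀ x : S, (∀ g ∈ stab (A := A) Q, g x = x) → ∃ y, ε y = residue S x) := by
  let M := maximalIdeal (integralClosure A (FractionRing A))
  have hM : maxOf A A Q hinj hQ = M := maxOf_eq A Q hinj hQ
  have hMm : M.IsMaximal := maximalIdeal.isMaximal _
  let e : ResidueField (integralClosure A (FractionRing A)) →+* M.ResidueField :=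
    Ideal.Quotient.lift M (algebraMap _ M.ResidueField) (fun x hx => Ideal.algebraMap_residueField_eq_zero.mpr hx)
  have he : ∀ x, e (residue _ x) = algebraMap _ M.ResidueField x := fun x => rfl
  have hesurj : Function.Surjective e := by
    intro x
    obtain ⟨y, rfl⟩ := Ideal.algebraMap_residueField_surjective M x
    exact ⟨residue _ y, rfl⟩
  let r : ResidueField (integralClosure A (FractionRing A)) →+* ResidueField (intV A Q) :=
    (resMap A A Q hinj hQ M hM).comp e
  let j : ResidueField S →+* ResidueField (intV A Q) := ResidueField.map (toInt A Q)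
  have hj : ∀ z, j (residue S z) = residue _ (toInt A Q z) := fun z => rfl
  have hjinj : Function.Injective j := j.injective
  let α : ResidueField A →+* subK A M := Ideal.Quotient.lift (maximalIdeal A)
    ((subRes A M).codRestrict (subK A M) (fun a => Subfield.subset_closure ⟨_, rfl⟩)) (fun a ha => by
      refine Subtype.ext (Ideal.algebraMap_residueField_eq_zero.mpr ?_)
      exact map_nonunit _ _ ha)
  have hα : ∀ a, ((α a : subK A M) : M.ResidueField) = e (algebraMap (ResidueField A) _ a) := by
    intro a
    obtain ⟨a, rfl⟩ := residue_surjective a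
    rfl
  have hr : ∀ a : ResidueField A, r (algebraMap (ResidueField A) _ a) =
      j (algebraMap (ResidueField A) (ResidueField S) a) := by
    intro a
    obtain ⟨a, rfl⟩ := residue_surjective a
    exact resMap_sub A A Q hinj hQ M hM a
  -- separability over the two base fields
  have hsep : ∀ x : ResidueField (integralClosure A (FractionRing A)),
      IsSeparable (ResidueField A) x → IsSeparable (subK A M) (e x) := by
    intro x hx
    have h1 : aeval (e x) ((minpoly (ResidueField A) x).map α) = 0 := by
      rw [Polynomial.aeval_def, Polynomial.eval₂_map]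
      have h2 : (algebraMap (subK A M) M.ResidueField).comp α = e.comp (algebraMap (ResidueField A) _) :=
        RingHom.ext hα
      rw [h2, ← Polynomial.hom_eval₂, ← Polynomial.aeval_def, minpoly.aeval, map_zero]
    exact (Separable.map (f := α) hx).of_dvd (minpoly.dvd _ _ h1)
  have hsep' : ∀ (x : ResidueField (integralClosure A (FractionRing A))) (c : ResidueField S),
      r x = j c → IsSeparable (ResidueField A) x := by
    intro x c hxc
    have hSc : IsSepClosure (ResidueField A) (ResidueField S) := h.isSepClosure
    have hSs : Algebra.IsSeparable (ResidueField A) (ResidueField S) := hSc.separable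
    have h1 : aeval x (minpoly (ResidueField A) c) = 0 := by
      refine r.injective ?_
      have h2 : r.comp (algebraMap (ResidueField A) _) = j.comp (algebraMap (ResidueField A) (ResidueField S)) :=
        RingHom.ext hr
      rw [map_zero, Polynomial.aeval_def, Polynomial.hom_eval₂, h2, hxc, ← Polynomial.hom_eval₂,
        ← Polynomial.aeval_def, minpoly.aeval, map_zero]
    exact (Algebra.IsSeparable.isSeparable (ResidueField A) c).of_dvd (minpoly.dvd _ _ h1)
  -- the embedding
  have hfix : ∀ y : separableClosure (ResidueField A) (ResidueField (integralClosure A (FractionRing A))),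
      ∃ θ : S, (∀ g ∈ stab (A := A) Q, g θ = θ) ∧ r y = j (residue S θ) := by
    intro y
    obtain ⟨θ, f, hθ, hr1, hr2⟩ := exists_fixed_stage_of_isSeparable A A Q hinj hQ M hM hMm (e y)
      (hsep _ (mem_separableClosure_iff.mp y.2))
    refine ⟨θ, fun g hg => hr2 g hg (fun d => ?_), hr1⟩
    rw [g.commutes, sub_self]
    exact Q.zero_mem
  let e' : ResidueField S ≃+* j.range := RingEquiv.ofBijective j.rangeRestrict
    ⟨fun a b hab => hjinj (congrArg Subtype.val hab), j.rangeRestrict_surjective⟩
  have he' : ∀ c, (e' c : ResidueField (intV A Q)) = j c := fun c => rfl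
  have hrj : ∀ y : separableClosure (ResidueField A) (ResidueField (integralClosure A (FractionRing A))),
      r y ∈ j.range := by
    intro y
    obtain ⟨θ, -, hθ⟩ := hfix y
    exact ⟨_, hθ.symm⟩
  let l : separableClosure (ResidueField A) (ResidueField (integralClosure A (FractionRing A))) →+*
      ResidueField S :=
    (e'.symm : j.range →+* ResidueField S).comp
      ((r.comp (algebraMap (separableClosure (ResidueField A) (ResidueField (integralClosure A (FractionRing A))))
        (ResidueField (integralClosure A (FractionRing A))))).codRestrict j.range hrj)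
  have hl : ∀ y, j (l y) = r y := by
    intro c
    rw [← he']
    change ((e' (e'.symm _) : j.range) : ResidueField (intV A Q)) = _
    rw [e'.apply_symm_apply]
    rfl
  refine ⟨{ l with commutes' := fun a => hjinj ?_ }, ?_, ?_⟩
  · change j (l (algebraMap _ _ a)) = _
    rw [hl, ← hr]
    rfl
  · intro y
    obtain ⟨θ, hθ1, hθ2⟩ := hfix y
    refine ⟨θ, hθ1, hjinj ?_⟩
    change _ = j (l y)
    rw [hl, hθ2]
  · intro x hx
    obtain ⟨x', -, hx'⟩ := exists_isSeparable_of_fixed A A Q hinj hQ M hM x (fun g hg _ => by
      rw [hx g hg, sub_self]
      exact Q.zero_mem)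
    obtain ⟨x', rfl⟩ := hesurj x'
    refine ⟨⟨x', mem_separableClosure_iff.mpr (hsep' x' (residue S x) hx')⟩, hjinj ?_⟩
    change j (l _) = _
    rw [hl]
    exact hx'

end Main

end K143.SH
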