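import Groth.Agent.Hensel.K143.SHSep

/-!
Finiteness of subrings `D` of the strict henselization `S` of a henselian Noetherian local ring `A`, when `D` and
`A` have the same residue field.
-/

set_option autoImplicit false

universe u

namespace K143.SH

open IsLocalRing Polynomial

section Krull

variable (A : Type u) {S : Type u} [CommRing A] [HenselianLocalRing A] [CommRing S] [IsLocalRing S]
  [Algebra A S] [IsLocalHom (algebraMap A S)] [h : Hensel.IsStrictHenselization A S]

include h in
/-- A Krull intersection theorem for finitely generated submodules of the strict henselization. -/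
theorem mem_of_forall_pow [IsNoetherianRing A] (M₀ : Submodule A S) (hM₀ : M₀.FG) (x : S)
    (hx : ∀ k : ℕ, ∃ m ∈ M₀, x - m ∈ (maximalIdeal A ^ k).map (algebraMap A S)) : x ∈ M₀ := by
  classical
  have hff : Module.FaithfullyFlat A S := Groth.Agent.S0539.result A S
  obtain ⟨s, rfl⟩ := hM₀
  obtain ⟨θ₂, f₂, hθ₂, hs⟩ := exists_stage_finset A (insert x s)
  obtain ⟨r, hr⟩ := hs x (Finset.mem_insert_self _ _)
  have hfin := hθ₂.finite
  let M := AdjoinRoot f₂
  let N : Submodule A M := (Submodule.span A (s : Set S)).comap hθ₂.hom.toLinearMap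
  let z : M := AdjoinRoot.mk f₂ r
  have hz : hθ₂.hom z = x := hr
  -- elements of the span lift
  have hlift : ∀ m ∈ Submodule.span A (s : Set S), ∃ p : A[X], aeval θ₂ p = m := by
    intro m hm
    induction hm using Submodule.span_induction with
    | mem y hy => exact hs y (Finset.mem_insert_of_mem hy)
    | zero => exact ⟨0, map_zero _⟩
    | add a b _ _ ha hb =>
      obtain ⟨p, rfl⟩ := ha
      obtain ⟨q, rfl⟩ := hb
      exact ⟨p + q, map_add _ _ _⟩
    | smul a b _ hb =>
      obtain ⟨p, rfl⟩ := hb
      exact ⟨a • p, map_smul _ _ _⟩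
  have key : ∀ k : ℕ, z ∈ N ⊔ (maximalIdeal A ^ k) • (⊤ : Submodule A M) := by
    intro k
    obtain ⟨m, hm, hxm⟩ := hx k
    obtain ⟨p, hp⟩ := hlift m hm
    have h4 := hθ₂.mem_map_of_aeval_mem (maximalIdeal A ^ k) (r - p) (by
      rw [map_sub, hr, hp]; exact hxm)
    have h5 : z = AdjoinRoot.mk f₂ p + AdjoinRoot.mk f₂ (r - p) := by
      rw [map_sub]; ring
    rw [h5]
    refine Submodule.add_mem_sup ?_ ?_
    · change hθ₂.hom (AdjoinRoot.mk f₂ p) ∈ Submodule.span A (s : Set S)
      rw [IsStage.hom_mk, hp]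
      exact hm
    · rw [Ideal.smul_top_eq_map]; exact h4
  have h6 : N.mkQ z ∈ (⨅ k : ℕ, maximalIdeal A ^ k • (⊤ : Submodule A (M ⧸ N))) := by
    rw [Submodule.mem_iInf]
    intro k
    have h7 := Submodule.mem_map_of_mem (f := N.mkQ) (key k)
    rw [Submodule.map_sup, Submodule.map_smul'', Submodule.mkQ_map_self, bot_sup_eq, Submodule.map_top,
      Submodule.range_mkQ] at h7
    exact h7
  rw [Ideal.iInf_pow_smul_eq_bot_of_isLocalRing _ (maximalIdeal.isMaximal A).ne_top, Submodule.mem_bot,
    Submodule.mkQ_apply, Submodule.Quotient.mk_eq_zero] at h6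
  have h7 : hθ₂.hom z ∈ Submodule.span A (s : Set S) := h6
  rwa [hz] at h7

end Krull

section Fin

variable (A D : Type u) {S : Type u} [CommRing A] [HenselianLocalRing A] [CommRing D] [CommRing S] [IsLocalRing S]
  [Algebra A S] [IsLocalHom (algebraMap A S)] [h : Hensel.IsStrictHenselization A S] [Algebra A D] [Algebra D S]
  [IsScalarTower A D S]

include h in
variable (S) in
/-- A Noetherian subring of the strict henselization with the same residue field as `A` is finite. -/
theorem module_finite_of_noetherian [IsNoetherianRing A] [IsNoetherianRing D]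
    (hinj : Function.Injective (algebraMap D S))
    (hres : ∀ d : D, ∃ a : A, residue S (algebraMap D S d) = residue S (algebraMap A S a)) :
    Module.Finite A D := by
  classical
  have hDloc : IsLocalRing D := isLocalRing_sub A D hinj
  have hDl : IsLocalHom (algebraMap D S) := isLocalHom_sub A D hinj
  have hint : Algebra.IsIntegral A D := isIntegral_sub A D S hinj
  -- `D = A + m_D`
  have h0 : ∀ d : D, ∃ a : A, d - algebraMap A D a ∈ maximalIdeal D := by
    intro d
    obtain ⟨a, ha⟩ := hres d
    refine ⟨a, ?_⟩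
    rw [mem_maximalIdeal, mem_nonunits_iff]
    intro hu
    have h1 := hu.map (algebraMap D S)
    rw [map_sub, ← IsScalarTower.algebraMap_apply, ← notMem_maximalIdeal, ← residue_eq_zero_iff, map_sub, ha,
      sub_self] at h1
    exact h1 rfl
  -- `D = M_k + m_D^k`
  have h1 : ∀ k : ℕ, ∃ M₀ : Submodule A D, M₀.FG ∧
      (⊤ : Submodule A D) ≤ M₀ ⊔ ((maximalIdeal D) ^ k).restrictScalars A := by
    intro k
    induction k with
    | zero =>
      refine ⟨⊥, Submodule.fg_bot, ?_⟩
      rw [pow_zero, Ideal.one_eq_top, Submodule.restrictScalars_top, bot_sup_eq]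
    | succ k ih =>
      obtain ⟨M₀, hM₀, hle⟩ := ih
      obtain ⟨s, hs⟩ := (isNoetherianRing_iff_ideal_fg D).mp inferInstance ((maximalIdeal D) ^ k)
      refine ⟨M₀ ⊔ Submodule.span A (s : Set D), hM₀.sup (Submodule.fg_span s.finite_toSet), ?_⟩
      refine hle.trans (sup_le (le_sup_left.trans le_sup_left) ?_)
      intro y hy
      rw [Submodule.restrictScalars_mem, ← hs] at hy
      induction hy using Submodule.span_induction with
      | mem z hz => exact Submodule.mem_sup_left (Submodule.mem_sup_right (Submodule.subset_span hz))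
      | zero => exact Submodule.zero_mem _
      | add a b _ _ ha hb => exact Submodule.add_mem _ ha hb
      | smul d z hzm hz =>
        obtain ⟨a, ha⟩ := h0 d
        have h2 : d • z = a • z + (d - algebraMap A D a) * z := by
          rw [smul_eq_mul, Algebra.smul_def]; ring
        rw [h2]
        refine Submodule.add_mem _ (Submodule.smul_mem _ _ hz) (Submodule.mem_sup_right ?_)
        rw [Submodule.restrictScalars_mem, pow_succ']
        refine Ideal.mul_mem_mul ha ?_
        rw [← hs]
        exact hzm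
  -- a power of the maximal ideal is contained in `m_A D`
  have hrad : maximalIdeal D ≤ ((maximalIdeal A).map (algebraMap A D)).radical := by
    rw [Ideal.radical_eq_sInf]
    refine le_sInf ?_
    rintro P ⟨hP, hPp⟩
    have h3 : P.comap (algebraMap A D) = maximalIdeal A := by
      have h4 : maximalIdeal A ≤ P.comap (algebraMap A D) := Ideal.map_le_iff_le_comap.mp hP
      exact ((maximalIdeal.isMaximal A).eq_of_le (Ideal.IsPrime.ne_top inferInstance) h4).symm
    have h5 : P.IsMaximal := Ideal.isMaximal_of_isIntegral_of_isMaximal_comap P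
      (by rw [h3]; exact maximalIdeal.isMaximal A)
    exact (eq_maximalIdeal h5).ge
  obtain ⟨n, hn⟩ := Ideal.exists_pow_le_of_le_radical_of_fg hrad (IsNoetherian.noetherian _)
  obtain ⟨M₀, hM₀, hle⟩ := h1 n
  have h2 : (⊤ : Submodule A D) ≤ M₀ ⊔ (maximalIdeal A) • ⊤ := by
    refine hle.trans (sup_le_sup_left ?_ _)
    rw [Ideal.smul_top_eq_map]
    exact hn
  have h3 : ∀ k : ℕ, (⊤ : Submodule A D) ≤ M₀ ⊔ (maximalIdeal A ^ k) • ⊤ := by
    intro k
    induction k with
    | zero => rw [pow_zero, Ideal.one_eq_top, Submodule.top_smul]; exact le_sup_right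
    | succ k ih =>
      calc (⊤ : Submodule A D) ≤ M₀ ⊔ (maximalIdeal A ^ k) • ⊤ := ih
        _ ≤ M₀ ⊔ (maximalIdeal A ^ k) • (M₀ ⊔ (maximalIdeal A) • ⊤) :=
          sup_le_sup_left (smul_mono_right _ h2) _
        _ ≤ M₀ ⊔ (maximalIdeal A ^ (k + 1)) • ⊤ := by
          rw [Submodule.smul_sup, ← mul_smul, ← pow_succ, ← sup_assoc]
          refine sup_le_sup_right ?_ _
          exact sup_le le_rfl Submodule.smul_le_right
  let ι : D →ₗ[A] S := (IsScalarTower.toAlgHom A D S).toLinearMap
  have hι : ∀ d, ι d = algebraMap D S d := fun d => rfl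
  have h4 : (⊤ : Submodule A D) = M₀ := by
    refine le_antisymm ?_ le_top
    intro d _
    have h5 : ι d ∈ M₀.map ι := by
      refine mem_of_forall_pow A _ (hM₀.map ι) _ fun k => ?_
      obtain ⟨m, hm, y, hy, hmy⟩ := Submodule.mem_sup.mp (h3 k (Submodule.mem_top (x := d)))
      refine ⟨ι m, Submodule.mem_map_of_mem hm, ?_⟩
      rw [← hmy, map_add, add_sub_cancel_left]
      rw [Ideal.smul_top_eq_map, Submodule.restrictScalars_mem] at hy
      have h6 := Ideal.mem_map_of_mem (algebraMap D S) hy
      rw [Ideal.map_map, ← IsScalarTower.algebraMap_eq] at h6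
      exact h6
    obtain ⟨m, hm, hmd⟩ := h5
    have h6 : m = d := hinj hmd
    rw [← h6]
    exact hm
  exact ⟨by rw [h4]; exact hM₀⟩

/-- The residue field of the fixed ring is generated by one stage if it is finite. -/
theorem exists_stage_fixed_of_finite [IsNoetherianRing A] (N : Subgroup (S ≃ₐ[A] S))
    (hfin2 : FiniteDimensional (ResidueField A) (fixedField A N)) :
    ∃ (θ : S) (f : A[X]), IsStage A θ f ∧ (∀ g ∈ N, g θ = θ) ∧
      ∀ x : S, (∀ g ∈ N, g x = x) → ∃ p : A[X], aeval θ p = x := by
  classical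
  have hSc : IsSepClosure (ResidueField A) (ResidueField S) := h.isSepClosure
  have hSs : Algebra.IsSeparable (ResidueField A) (ResidueField S) := hSc.separable
  have hsep : Algebra.IsSeparable (ResidueField A) (fixedField A N) :=
    Algebra.isSeparable_tower_bot_of_isSeparable (ResidueField A) (fixedField A N) (ResidueField S)
  obtain ⟨⟨_, ⟨x₀, hx₀, rfl⟩⟩, hα⟩ := Field.exists_primitive_element (ResidueField A) (fixedField A N)
  obtain ⟨θ, f, hθ, hθr⟩ := exists_stage A (residue S x₀)
  have hθfix : ∀ g ∈ N, g θ = θ := by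
    intro g hg
    have h1 : residue S (g θ) = residue S ((1 : S ≃ₐ[A] S) θ) := by
      rw [AlgEquiv.one_apply, hθr]
      conv_rhs => rw [← hx₀ g hg]
      rw [residue_algEquiv_eq_iff, hθr]
    exact hθ.algEquiv_eq_of_residue g 1 h1
  refine ⟨θ, f, hθ, hθfix, fun x hx => ?_⟩
  refine exists_aeval_of_fixed A N θ (fun x hx => ?_) hθfix x hx
  let y : fixedField A N := ⟨residue S x, ⟨x, hx, rfl⟩⟩
  have hy : y ∈ IntermediateField.adjoin (ResidueField A)
      ({(⟨residue S x₀, ⟨x₀, hx₀, rfl⟩⟩ : fixedField A N)} : Set (fixedField A N)) := by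
    rw [hα]; trivial
  rw [← IntermediateField.mem_toSubalgebra, IntermediateField.adjoin_simple_toSubalgebra_of_isAlgebraic
    (Algebra.IsAlgebraic.isAlgebraic _), Algebra.adjoin_singleton_eq_range_aeval] at hy
  obtain ⟨p, hp⟩ := hy
  obtain ⟨q, rfl⟩ := Polynomial.map_surjective (residue A) residue_surjective p
  refine ⟨q, ?_⟩
  have h1 := congrArg (algebraMap (fixedField A N) (ResidueField S)) hp
  change algebraMap (fixedField A N) (ResidueField S) (aeval _ _) = _ at h1
  rw [← Polynomial.aeval_algebraMap_apply] at h1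
  rw [residue_aeval, hθr]
  exact h1.symm

variable (S) in
/-- If for every minimal prime the fixed ring of `quotStab A D Q` is `A[θ]`, then `D` is finite. -/
theorem module_finite_of_stages [IsNoetherianRing A] [IsReduced S]
    (hinj : Function.Injective (algebraMap D S))
    (hst : ∀ Q ∈ minimalPrimes S, ∃ (θ : S) (f : A[X]), IsStage A θ f ∧
      ∀ x : S, (∀ g ∈ quotStab A D Q, g x = x) → ∃ p : A[X], aeval θ p = x) : Module.Finite A D := by
  classical
  have hSN : IsNoetherianRing S := (Groth.Agent.S0540.result A S).mp inferInstance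
  have hfS : Finite (minimalPrimes S) := (minimalPrimes.finite_of_isNoetherianRing S).to_subtype
  choose θ f hθ hall using hst
  let W : ∀ q : minimalPrimes S, Submodule A (S ⧸ q.1) := fun q =>
    LinearMap.range ((Ideal.Quotient.mkₐ A q.1).comp (hθ q.1 q.2).hom).toLinearMap
  have hW : ∀ q, Module.Finite A (W q) := by
    intro q
    have := (hθ q.1 q.2).finite
    exact Module.Finite.range _
  let φ : D →ₗ[A] (∀ q : minimalPrimes S, S ⧸ q.1) :=
    LinearMap.pi fun q => ((Ideal.Quotient.mkₐ A q.1).comp (IsScalarTower.toAlgHom A D S)).toLinearMap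
  have hφ : ∀ (d : D) (q : minimalPrimes S), φ d q = Ideal.Quotient.mk q.1 (algebraMap D S d) := fun d q => rfl
  have hmem : ∀ (d : D) (q : minimalPrimes S), φ d q ∈ W q := by
    intro d q
    obtain ⟨y, hy, hyd⟩ := exists_fixed_sub_mem A (quotStab A D q.1) q.1 (algebraMap D S d) (fun g hg => hg.2 d)
    obtain ⟨p, rfl⟩ := hall q.1 q.2 y hy
    exact ⟨AdjoinRoot.mk _ p, Ideal.Quotient.eq.mpr hyd⟩
  let ψ : D →ₗ[A] (∀ q : minimalPrimes S, W q) :=
    LinearMap.pi fun q => ((LinearMap.proj q).comp φ).codRestrict (W q) (fun d => hmem d q)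
  have hψ : Function.Injective ψ := by
    rw [injective_iff_map_eq_zero]
    intro d hd
    have h2 : algebraMap D S d ∈ nilradical S := by
      rw [nilradical, ← Ideal.sInf_minimalPrimes, Ideal.mem_sInf]
      intro Q hQ
      have h3 := congrArg (fun v : ∀ q : minimalPrimes S, W q => ((v ⟨Q, hQ⟩ : W ⟨Q, hQ⟩) : S ⧸ Q)) hd
      exact Ideal.Quotient.eq_zero_iff_mem.mp h3
    rw [nilradical_eq_zero, Ideal.zero_eq_bot, Ideal.mem_bot] at h2
    exact hinj (by rw [h2, map_zero])
  exact Module.Finite.of_injective ψ hψ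

end Fin

end K143.SH
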