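import Groth.Agent.Hensel.K143.SHGal
import Mathlib.RingTheory.Filtration
import Mathlib.FieldTheory.Galois.Infinite

/-!
Fixed rings of subgroups of the Galois group of a strict henselization of a henselian local ring.

* `exists_fixed_sub_mem`: elements of `S` fixed modulo `Q` lift to fixed elements;
* `exists_aeval_of_fixed`: if `θ` is a stage fixed by `N` generating the fixed residue field, then `S^N = A[θ]`;
* `mem_range_of_fixed`: `S^G = A`.
-/

set_option autoImplicit false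

universe u

namespace K143.SH

open IsLocalRing Polynomial

variable (A : Type u) {S : Type u} [CommRing A] [HenselianLocalRing A] [CommRing S] [IsLocalRing S] [Algebra A S]
  [IsLocalHom (algebraMap A S)] [h : Hensel.IsStrictHenselization A S]

/-- Trace elements for a subgroup and a finite set of elements. -/
theorem exists_trace (N : Subgroup (S ≃ₐ[A] S)) (s : Finset S) :
    ∃ (ι : Type u) (_ : Fintype ι) (n : ι → S ≃ₐ[A] S) (c : S), (∀ i, n i ∈ N) ∧
      (∑ i, n i c = 1) ∧ ∀ x ∈ s, ∀ g ∈ N, g (∑ i, n i (c * x)) = ∑ i, n i (c * x) := by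
  obtain ⟨θ, f, hθ, hs⟩ := exists_stage_finset A s
  obtain ⟨ι, hι, n, c, h1, h2, h3⟩ := hθ.exists_trace N
  refine ⟨ι, hι, n, c, h1, h2, fun x hx g hg => ?_⟩
  obtain ⟨p, rfl⟩ := hs x hx
  exact h3 p g hg

/-- Elements fixed modulo `Q` lift to fixed elements. -/
theorem exists_fixed_sub_mem (N : Subgroup (S ≃ₐ[A] S)) (Q : Ideal S) (x : S)
    (hx : ∀ g ∈ N, g x - x ∈ Q) : ∃ y : S, (∀ g ∈ N, g y = y) ∧ y - x ∈ Q := by
  obtain ⟨ι, hι, n, c, h1, h2, h3⟩ := exists_trace A N {x}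
  refine ⟨∑ i, n i (c * x), fun g hg => h3 x (Finset.mem_singleton_self x) g hg, ?_⟩
  have h4 : ∑ i, n i (c * x) - x = ∑ i, n i c * (n i x - x) := by
    simp only [mul_sub, Finset.sum_sub_distrib, ← Finset.sum_mul, h2, one_mul, map_mul]
  rw [h4]
  exact Q.sum_mem fun i _ => Q.mul_mem_left _ (hx _ (h1 i))

/-- The `A`-submodule of elements fixed by a subgroup. -/
def fixedSub (N : Subgroup (S ≃ₐ[A] S)) : Submodule A S where
  carrier := {x | ∀ g ∈ N, g x = x}
  zero_mem' g _ := map_zero g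
  add_mem' {x y} hx hy g hg := by rw [map_add, hx g hg, hy g hg]
  smul_mem' a x hx g hg := by rw [map_smul, hx g hg]

omit [HenselianLocalRing A] [IsLocalRing S] [IsLocalHom (algebraMap A S)] h in
theorem mem_fixedSub {N : Subgroup (S ≃ₐ[A] S)} {x : S} : x ∈ fixedSub A N ↔ ∀ g ∈ N, g x = x := Iff.rfl

/-- The submodule `A[θ]`. -/
noncomputable def adj (θ : S) : Submodule A S := LinearMap.range (aeval θ : A[X] →ₐ[A] S).toLinearMap

omit [HenselianLocalRing A] [IsLocalRing S] [IsLocalHom (algebraMap A S)] h in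
theorem mem_adj {θ x : S} : x ∈ adj A θ ↔ ∃ p : A[X], aeval θ p = x := Iff.rfl

theorem fixedSub_le_sup (N : Subgroup (S ≃ₐ[A] S)) (θ : S)
    (hres : ∀ x : S, (∀ g ∈ N, g x = x) → ∃ q : A[X], residue S x = residue S (aeval θ q))
    (hθ : ∀ g ∈ N, g θ = θ) :
    fixedSub A N ≤ adj A θ ⊔ (maximalIdeal A) • fixedSub A N := by
  classical
  intro x hx
  have hff : Module.FaithfullyFlat A S := Groth.Agent.S0539.result A S
  obtain ⟨p, hp⟩ := hres x hx
  have hy : x - aeval θ p ∈ maximalIdeal S := by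
    rw [← residue_eq_zero_iff, map_sub, hp, sub_self]
  have hyN : ∀ g ∈ N, g (x - aeval θ p) = x - aeval θ p := by
    intro g hg
    rw [map_sub, hx g hg, algEquiv_aeval, hθ g hg]
  rw [← Groth.Agent.Hensel.Exist.map_maximalIdeal_of_isStrictHenselization A S] at hy
  obtain ⟨θ₂, f₂, hθ₂, hs⟩ := exists_stage_finset A {x - aeval θ p}
  obtain ⟨r, hr⟩ := hs _ (Finset.mem_singleton_self _)
  obtain ⟨ι, hι, n, c, h1, h2, h3⟩ := hθ₂.exists_trace N
  rw [← hr] at hy
  have hmk := hθ₂.mem_map_of_aeval_mem _ r hy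
  -- the trace map
  let T : S →ₗ[A] S := ∑ i, ((n i : S →ₐ[A] S).toLinearMap ∘ₗ LinearMap.mulLeft A c)
  have hT : ∀ z, T z = ∑ i, n i (c * z) := fun z => by
    simp [T, LinearMap.sum_apply]
  have hTfix : ∀ z : S, (∀ g ∈ N, g z = z) → T z = z := by
    intro z hz
    rw [hT]
    have : ∑ i, n i (c * z) = ∑ i, n i c * z :=
      Finset.sum_congr rfl fun i _ => by rw [map_mul, hz _ (h1 i)]
    rw [this, ← Finset.sum_mul, h2, one_mul]
  have hTmem : ∀ z : AdjoinRoot f₂, T (hθ₂.hom z) ∈ fixedSub A N := by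
    intro z
    obtain ⟨q, rfl⟩ := AdjoinRoot.mk_surjective z
    rw [IsStage.hom_mk, hT]
    exact fun g hg => h3 q g hg
  have h5 : T (hθ₂.hom (AdjoinRoot.mk f₂ r)) ∈ (maximalIdeal A) • fixedSub A N := by
    have h6 : AdjoinRoot.mk f₂ r ∈ (maximalIdeal A) • (⊤ : Submodule A (AdjoinRoot f₂)) := by
      rw [Ideal.smul_top_eq_map]
      exact hmk
    have h7 := Submodule.mem_map_of_mem (f := T ∘ₗ hθ₂.hom.toLinearMap) h6
    rw [Submodule.map_smul''] at h7
    have h8 : Submodule.map (T ∘ₗ hθ₂.hom.toLinearMap) ⊤ ≤ fixedSub A N := by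
      rintro _ ⟨z, -, rfl⟩
      exact hTmem z
    have h9 : (maximalIdeal A) • Submodule.map (T ∘ₗ hθ₂.hom.toLinearMap) ⊤ ≤
        (maximalIdeal A) • fixedSub A N := smul_mono_right _ h8
    exact h9 h7
  rw [IsStage.hom_mk, hTfix _ (by rw [hr]; exact hyN), hr] at h5
  have h8 : x = aeval θ p + (x - aeval θ p) := by ring
  rw [h8]
  exact Submodule.add_mem_sup ⟨p, rfl⟩ h5

theorem fixedSub_le_sup_pow (N : Subgroup (S ≃ₐ[A] S)) (θ : S)
    (hres : ∀ x : S, (∀ g ∈ N, g x = x) → ∃ q : A[X], residue S x = residue S (aeval θ q))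
    (hθ : ∀ g ∈ N, g θ = θ) (k : ℕ) :
    fixedSub A N ≤ adj A θ ⊔ (maximalIdeal A ^ k) • fixedSub A N := by
  induction k with
  | zero => rw [pow_zero, Ideal.one_eq_top, Submodule.top_smul]; exact le_sup_right
  | succ k ih =>
    calc fixedSub A N ≤ adj A θ ⊔ (maximalIdeal A ^ k) • fixedSub A N := ih
      _ ≤ adj A θ ⊔ (maximalIdeal A ^ k) • (adj A θ ⊔ (maximalIdeal A) • fixedSub A N) :=
        sup_le_sup_left (smul_mono_right _ (fixedSub_le_sup A N θ hres hθ)) _
      _ ≤ adj A θ ⊔ (maximalIdeal A ^ (k + 1)) • fixedSub A N := by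
        rw [Submodule.smul_sup, ← mul_smul, ← pow_succ, ← sup_assoc]
        refine sup_le_sup_right ?_ _
        exact sup_le le_rfl Submodule.smul_le_right

/-- Lemma K: the fixed ring of `N` is `A[θ]` if `θ` is fixed by `N` and generates the fixed residue field. -/
theorem exists_aeval_of_fixed [IsNoetherianRing A] (N : Subgroup (S ≃ₐ[A] S)) (θ : S)
    (hres : ∀ x : S, (∀ g ∈ N, g x = x) → ∃ q : A[X], residue S x = residue S (aeval θ q))
    (hθ : ∀ g ∈ N, g θ = θ) (x : S) (hx : ∀ g ∈ N, g x = x) : ∃ p : A[X], aeval θ p = x := by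
  classical
  have hff : Module.FaithfullyFlat A S := Groth.Agent.S0539.result A S
  obtain ⟨θ₂, f₂, hθ₂, hs⟩ := exists_stage_finset A {x, θ}
  obtain ⟨r, hr⟩ := hs x (by simp)
  obtain ⟨t, ht⟩ := hs θ (by simp)
  have hfin := hθ₂.finite
  let M := AdjoinRoot f₂
  let M₀ : Submodule A M := (adj A θ).comap hθ₂.hom.toLinearMap
  let z : M := AdjoinRoot.mk f₂ r
  have hz : hθ₂.hom z = x := hr
  have key : ∀ k : ℕ, z ∈ M₀ ⊔ (maximalIdeal A ^ k) • (⊤ : Submodule A M) := by
    intro k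
    have h1 := fixedSub_le_sup_pow A N θ hres hθ k hx
    obtain ⟨a, ⟨p, hp⟩, y, hy, hay⟩ := Submodule.mem_sup.mp h1
    -- `a = p(θ) = p(t(θ₂))`
    have ha : hθ₂.hom (AdjoinRoot.mk f₂ (p.comp t)) = a := by
      rw [IsStage.hom_mk, Polynomial.aeval_comp, ht]; exact hp
    have h2 : hθ₂.hom (AdjoinRoot.mk f₂ (r - p.comp t)) = y := by
      rw [map_sub, map_sub, ha]
      change hθ₂.hom z - a = y
      rw [hz, ← hay]; ring
    have h3 : y ∈ (maximalIdeal A ^ k).map (algebraMap A S) := by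
      have h4' : (maximalIdeal A ^ k) • fixedSub A N ≤ (maximalIdeal A ^ k) • (⊤ : Submodule A S) :=
        smul_mono_right _ le_top
      have h4 := h4' hy
      rw [Ideal.smul_top_eq_map] at h4
      exact h4
    have h4 := hθ₂.mem_map_of_aeval_mem (maximalIdeal A ^ k) (r - p.comp t) (by
      rw [← IsStage.hom_mk hθ₂, h2]; exact h3)
    have h5 : z = AdjoinRoot.mk f₂ (p.comp t) + AdjoinRoot.mk f₂ (r - p.comp t) := by
      rw [map_sub]; ring
    rw [h5]
    refine Submodule.add_mem_sup ?_ ?_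
    · change hθ₂.hom (AdjoinRoot.mk f₂ (p.comp t)) ∈ adj A θ
      rw [ha]; exact ⟨p, hp⟩
    · rw [Ideal.smul_top_eq_map]; exact h4
  have h6 : M₀.mkQ z ∈ (⨅ k : ℕ, maximalIdeal A ^ k • (⊤ : Submodule A (M ⧸ M₀))) := by
    rw [Submodule.mem_iInf]
    intro k
    have h7 := Submodule.mem_map_of_mem (f := M₀.mkQ) (key k)
    rw [Submodule.map_sup, Submodule.map_smul'', Submodule.mkQ_map_self, bot_sup_eq, Submodule.map_top,
      Submodule.range_mkQ] at h7
    exact h7
  rw [Ideal.iInf_pow_smul_eq_bot_of_isLocalRing _ (maximalIdeal.isMaximal A).ne_top, Submodule.mem_bot,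
    Submodule.mkQ_apply, Submodule.Quotient.mk_eq_zero] at h6
  have h7 : hθ₂.hom z ∈ adj A θ := h6
  rw [hz] at h7
  exact h7

/-- Fixed residues come from the residue field of `A`. -/
theorem residue_fixed (x : ResidueField S)
    (hx : ∀ σ : ResidueField S ≃ₐ[ResidueField A] ResidueField S, σ x = x) :
    x ∈ Set.range (algebraMap (ResidueField A) (ResidueField S)) := by
  have := h.isSepClosure
  exact (InfiniteGalois.mem_range_algebraMap_iff_fixed (k := ResidueField A) x).mpr hx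

/-- The fixed ring of the whole Galois group is `A`. -/
theorem mem_range_of_fixed [IsNoetherianRing A] (x : S) (hx : ∀ g : S ≃ₐ[A] S, g x = x) :
    x ∈ Set.range (algebraMap A S) := by
  obtain ⟨p, hp⟩ := exists_aeval_of_fixed A (⊤ : Subgroup (S ≃ₐ[A] S)) (0 : S) (fun x hx => by
    obtain ⟨a, ha⟩ := residue_fixed A (residue S x) (fun σ => by
      obtain ⟨g, hg⟩ := exists_algEquiv A σ
      rw [← hg, hx g trivial])
    obtain ⟨a, rfl⟩ := residue_surjective a
    refine ⟨C a, ?_⟩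
    rw [aeval_C, ← ha]
    rfl) (fun g _ => map_zero g) x (fun g _ => hx g)
  refine ⟨p.coeff 0, ?_⟩
  rw [← hp, ← Polynomial.coeff_zero_eq_aeval_zero']

end K143.SH
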