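import Groth.Agent.Hensel.K143.SHOpen

/-!
The fraction field `K` of `S/Q`, `Q` a minimal prime of the strict henselization `S` of a henselian Noetherian
local ring `A`: it is separable algebraic over the subfield generated by `A`; finitely generated subfields are
generated by one element of `S/Q`, and their elements are described by the action of the stabilizer of `Q`.
-/

set_option autoImplicit false

universe u

namespace K143.SH

open IsLocalRing Polynomial

section Main

variable (A : Type u) {S : Type u} [CommRing A] [HenselianLocalRing A] [CommRing S] [IsLocalRing S] [Algebra A S]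
  [IsLocalHom (algebraMap A S)] [h : Hensel.IsStrictHenselization A S]

include h in
variable (S) in
theorem isIntegral_strict : Algebra.IsIntegral A S := by
  refine ⟨fun x => ?_⟩
  obtain ⟨θ, f, hθ, hs⟩ := exists_stage_finset A {x}
  obtain ⟨p, rfl⟩ := hs x (Finset.mem_singleton_self _)
  have h1 : IsIntegral A θ := ⟨f, hθ.monic, hθ.root⟩
  exact adjoin_le_integralClosure h1 (aeval_mem_adjoin_singleton A θ)

include h in
/-- Elements of `S` outside `Q` divide, modulo `Q`, elements of `A` outside `Q`. -/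
theorem exists_mul_sub_mem (Q : Ideal S) [Q.IsPrime] (s : S) (hs : s ∉ Q) :
    ∃ (s' : S) (a : A), algebraMap A S a ∉ Q ∧ s * s' - algebraMap A S a ∈ Q := by
  have := isIntegral_strict A S
  have h1 : Algebra.IsIntegral (A ⧸ Q.under A) (S ⧸ Q) := inferInstance
  have hne : Ideal.Quotient.mk Q s ≠ 0 := fun h0 => hs (Ideal.Quotient.eq_zero_iff_mem.mp h0)
  obtain ⟨r, hr, ⟨c, hc⟩⟩ := (Algebra.IsAlgebraic.isAlgebraic (R := A ⧸ Q.under A)
    (Ideal.Quotient.mk Q s)).exists_nonzero_dvd (mem_nonZeroDivisors_of_ne_zero hne)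
  obtain ⟨a, rfl⟩ := Ideal.Quotient.mk_surjective r
  obtain ⟨s', rfl⟩ := Ideal.Quotient.mk_surjective c
  refine ⟨s', a, fun h0 => hr (Ideal.Quotient.eq_zero_iff_mem.mpr h0), ?_⟩
  rw [← Ideal.Quotient.eq, map_mul, ← hc]
  rfl

variable (Q : Ideal S) [Q.IsPrime]

local notation "K" => FractionRing (S ⧸ Q)

/-- the subfield generated by `A` -/
noncomputable def baseField : Subfield (FractionRing (S ⧸ Q)) :=
  Subfield.closure (Set.range (algebraMap A (FractionRing (S ⧸ Q))))

/-- the canonical map to the fraction field -/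
noncomputable def toFrac : S →ₐ[A] FractionRing (S ⧸ Q) :=
  (IsScalarTower.toAlgHom A (S ⧸ Q) (FractionRing (S ⧸ Q))).comp (Ideal.Quotient.mkₐ A Q)

variable {A Q} in
omit [HenselianLocalRing A] [IsLocalRing S] [IsLocalHom (algebraMap A S)] h in
theorem toFrac_eq_zero_iff (x : S) : toFrac A Q x = 0 ↔ x ∈ Q := by
  change algebraMap (S ⧸ Q) (FractionRing (S ⧸ Q)) (Ideal.Quotient.mk Q x) = 0 ↔ _
  rw [FaithfulSMul.algebraMap_eq_zero_iff, Ideal.Quotient.eq_zero_iff_mem]

variable {A Q} in
omit [HenselianLocalRing A] [IsLocalRing S] [IsLocalHom (algebraMap A S)] h in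
theorem toFrac_eq_iff (x y : S) : toFrac A Q x = toFrac A Q y ↔ x - y ∈ Q := by
  rw [← sub_eq_zero, ← map_sub, toFrac_eq_zero_iff]

omit [HenselianLocalRing A] [IsLocalRing S] [IsLocalHom (algebraMap A S)] h [Q.IsPrime] in
theorem toFrac_algebraMap (a : A) : toFrac A Q (algebraMap A S a) = algebraMap A (FractionRing (S ⧸ Q)) a :=
  (toFrac A Q).commutes a

omit [HenselianLocalRing A] [IsLocalRing S] [IsLocalHom (algebraMap A S)] h in
theorem exists_toFrac_div (z : FractionRing (S ⧸ Q)) : ∃ x y : S, y ∉ Q ∧ z = toFrac A Q x / toFrac A Q y := by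
  obtain ⟨x, y, hy, rfl⟩ := IsFractionRing.div_surjective (A := S ⧸ Q) z
  obtain ⟨x, rfl⟩ := Ideal.Quotient.mk_surjective x
  obtain ⟨y, rfl⟩ := Ideal.Quotient.mk_surjective y
  refine ⟨x, y, fun h0 => ?_, rfl⟩
  rw [Ideal.Quotient.eq_zero_iff_mem.mpr h0] at hy
  exact zero_notMem_nonZeroDivisors hy

include h in
theorem exists_toFrac_div_algebraMap (z : FractionRing (S ⧸ Q)) :
    ∃ (x : S) (a : A), algebraMap A S a ∉ Q ∧ z = toFrac A Q x / algebraMap A (FractionRing (S ⧸ Q)) a := by
  obtain ⟨x, y, hy, rfl⟩ := exists_toFrac_div A Q z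
  obtain ⟨s', a, ha, hs⟩ := exists_mul_sub_mem A Q y hy
  refine ⟨x * s', a, ha, ?_⟩
  rw [← toFrac_eq_iff (A := A), map_mul, toFrac_algebraMap] at hs
  have h1 : toFrac A Q y ≠ 0 := fun h0 => hy ((toFrac_eq_zero_iff y).mp h0)
  have h2 : algebraMap A (FractionRing (S ⧸ Q)) a ≠ 0 := fun h0 => by
    rw [← toFrac_algebraMap] at h0
    exact ha ((toFrac_eq_zero_iff _).mp h0)
  rw [div_eq_div_iff h1 h2, ← hs, map_mul]
  ring

omit [HenselianLocalRing A] [IsLocalRing S] [IsLocalHom (algebraMap A S)] h in
theorem algebraMap_mem_baseField (a : A) : algebraMap A (FractionRing (S ⧸ Q)) a ∈ baseField A Q :=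
  Subfield.subset_closure ⟨a, rfl⟩

/-- `A → F₀`. -/
noncomputable def toBase : A →+* baseField A Q :=
  (algebraMap A (FractionRing (S ⧸ Q))).codRestrict (baseField A Q) (algebraMap_mem_baseField A Q)

include h in
theorem isSeparable_frac : Algebra.IsSeparable (baseField A Q) (FractionRing (S ⧸ Q)) := by
  have h1 : ∀ (θ : S) (f : A[X]), IsStage A θ f → IsSeparable (baseField A Q) (toFrac A Q θ) := by
    intro θ f hθ
    let F : (baseField A Q)[X] := f.map (toBase A Q)
    have hF : aeval (toFrac A Q θ) F = 0 := by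
      rw [Polynomial.aeval_def, Polynomial.eval₂_map]
      have := congrArg (toFrac A Q) hθ.root
      rw [map_zero, ← Polynomial.aeval_algHom_apply] at this
      exact this
    have hF' : aeval (toFrac A Q θ) (derivative F) ≠ 0 := by
      rw [Polynomial.derivative_map, Polynomial.aeval_def, Polynomial.eval₂_map]
      have h2 := hθ.isUnit_derivative.map (toFrac A Q)
      rw [← Polynomial.aeval_algHom_apply] at h2
      exact h2.ne_zero
    have hint : IsIntegral (baseField A Q) (toFrac A Q θ) := ⟨F, hθ.monic.map _, hF⟩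
    obtain ⟨q, hq⟩ := minpoly.dvd _ _ hF
    rw [IsSeparable, Polynomial.separable_iff_derivative_ne_zero (minpoly.irreducible hint)]
    intro h0
    apply hF'
    rw [hq, Polynomial.derivative_mul, h0, zero_mul, zero_add, map_mul, minpoly.aeval, zero_mul]
  have h2 : ∀ x : S, toFrac A Q x ∈ separableClosure (baseField A Q) (FractionRing (S ⧸ Q)) := by
    intro x
    obtain ⟨θ, f, hθ, hs⟩ := exists_stage_finset A {x}
    obtain ⟨p, rfl⟩ := hs x (Finset.mem_singleton_self _)
    rw [← Polynomial.aeval_algHom_apply]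
    have h3 : aeval (toFrac A Q θ) p = aeval (toFrac A Q θ) (p.map (toBase A Q)) := by
      rw [Polynomial.aeval_def, Polynomial.aeval_def, Polynomial.eval₂_map]
      rfl
    rw [h3]
    have h4 : toFrac A Q θ ∈ (separableClosure (baseField A Q) (FractionRing (S ⧸ Q))).toSubalgebra :=
      h1 θ f hθ
    have h5 := Polynomial.coe_aeval_mk_apply (p := p.map (toBase A Q)) (h := h4)
    rw [← h5]
    exact SetLike.coe_mem (aeval (⟨_, h4⟩ : (separableClosure (baseField A Q)
      (FractionRing (S ⧸ Q))).toSubalgebra) (p.map (toBase A Q)))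
  refine ⟨fun z => ?_⟩
  obtain ⟨x, y, -, rfl⟩ := exists_toFrac_div A Q z
  exact div_mem (h2 x) (h2 y)

/-- Finitely generated subfields are generated by one element of `S/Q`. -/
theorem exists_generator (t : Finset (FractionRing (S ⧸ Q))) :
    ∃ y : S, Subfield.closure (Set.range (algebraMap A (FractionRing (S ⧸ Q))) ∪ (t : Set (FractionRing (S ⧸ Q)))) =
      Subfield.closure (Set.range (algebraMap A (FractionRing (S ⧸ Q))) ∪ {toFrac A Q y}) := by
  classical
  have hsep := isSeparable_frac A Q
  let F₀ := baseField A Q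
  let L := IntermediateField.adjoin F₀ (t : Set (FractionRing (S ⧸ Q)))
  have hfin : FiniteDimensional F₀ L :=
    IntermediateField.finiteDimensional_adjoin fun x _ => (Algebra.IsSeparable.isIntegral F₀ x)
  have hsepL : Algebra.IsSeparable F₀ L :=
    Algebra.isSeparable_tower_bot_of_isSeparable F₀ L (FractionRing (S ⧸ Q))
  obtain ⟨α, hα⟩ := Field.exists_primitive_element F₀ L
  have hα' : IntermediateField.adjoin F₀ {(α : FractionRing (S ⧸ Q))} = L := by
    have h1 := congrArg IntermediateField.lift hα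
    rw [IntermediateField.lift_adjoin_simple, IntermediateField.lift_top] at h1
    exact h1
  obtain ⟨y, a, ha, hya⟩ := exists_toFrac_div_algebraMap A Q (α : FractionRing (S ⧸ Q))
  have hcl : ∀ T : Set (FractionRing (S ⧸ Q)),
      Subfield.closure (Set.range (algebraMap A (FractionRing (S ⧸ Q))) ∪ T) =
        (IntermediateField.adjoin F₀ T).toSubfield := by
    intro T
    refine le_antisymm ?_ ?_
    · rw [Subfield.closure_le]
      rintro x (⟨a, rfl⟩ | hx)
      · exact (IntermediateField.adjoin F₀ T).algebraMap_mem ⟨_, algebraMap_mem_baseField A Q a⟩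
      · exact IntermediateField.subset_adjoin _ _ hx
    · change Subfield.closure (Set.range (algebraMap F₀ (FractionRing (S ⧸ Q))) ∪ T) ≤ _
      rw [Subfield.closure_le]
      rintro x (⟨a, rfl⟩ | hx)
      · have h1 : (a : FractionRing (S ⧸ Q)) ∈ baseField A Q := a.2
        exact Subfield.closure_mono Set.subset_union_left h1
      · exact Subfield.subset_closure (Or.inr hx)
  refine ⟨y, ?_⟩
  rw [hcl, hcl]
  change L.toSubfield = _
  rw [← hα']
  congr 1
  have ha0 : algebraMap A (FractionRing (S ⧸ Q)) a ≠ 0 := fun h0 => by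
    rw [← toFrac_algebraMap] at h0
    exact ha ((toFrac_eq_zero_iff _).mp h0)
  have haL : ∀ T : Set (FractionRing (S ⧸ Q)), algebraMap A (FractionRing (S ⧸ Q)) a ∈ IntermediateField.adjoin F₀ T :=
    fun T => (IntermediateField.adjoin F₀ T).algebraMap_mem ⟨_, algebraMap_mem_baseField A Q a⟩
  refine le_antisymm ?_ ?_
  · rw [IntermediateField.adjoin_simple_le_iff, hya]
    exact div_mem (IntermediateField.mem_adjoin_simple_self _ _) (haL _)
  · rw [IntermediateField.adjoin_simple_le_iff]
    have h2 : toFrac A Q y = (α : FractionRing (S ⧸ Q)) * algebraMap A (FractionRing (S ⧸ Q)) a := by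
      rw [hya, div_mul_cancel₀ _ ha0]
    rw [h2]
    exact mul_mem (IntermediateField.mem_adjoin_simple_self _ _) (haL _)

/-- Elements of `S` lying (modulo `Q`) in the field generated by `y`. -/
theorem toFrac_mem_closure_iff [IsNoetherianRing A] (hQ : Q ∈ minimalPrimes S) (y x : S) :
    toFrac A Q x ∈ Subfield.closure (Set.range (algebraMap A (FractionRing (S ⧸ Q))) ∪ {toFrac A Q y}) ↔
      ∀ g ∈ stab (A := A) Q, g y - y ∈ Q → g x - x ∈ Q := by
  constructor
  · intro hx g hg hy
    let φ : FractionRing (S ⧸ Q) →+* FractionRing (S ⧸ Q) := IsFractionRing.map (act_injective g hg)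
    have hφ : ∀ z : S, φ (toFrac A Q z) = toFrac A Q (g z) := fun z =>
      IsLocalization.map_eq _ _
    have h1 : Subfield.closure (Set.range (algebraMap A (FractionRing (S ⧸ Q))) ∪ {toFrac A Q y}) ≤
        φ.eqLocusField (RingHom.id _) := by
      rw [Subfield.closure_le]
      rintro z (⟨a, rfl⟩ | hz)
      · change φ _ = _
        rw [← toFrac_algebraMap, hφ, g.commutes]
        rfl
      · rw [Set.mem_singleton_iff.mp hz]
        change φ _ = _
        rw [hφ]
        exact (toFrac_eq_iff _ _).mpr hy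
    have h2 : φ (toFrac A Q x) = toFrac A Q x := h1 hx
    rw [hφ] at h2
    exact (toFrac_eq_iff _ _).mp h2
  · intro hx
    obtain ⟨D, G, hD, hDG⟩ := exists_frac_of_fixed_of_fixed A Q hQ x y hx
    have hmem : ∀ P : A[X], toFrac A Q (aeval y P) ∈
        Subfield.closure (Set.range (algebraMap A (FractionRing (S ⧸ Q))) ∪ {toFrac A Q y}) := by
      intro P
      rw [← Polynomial.aeval_algHom_apply, Polynomial.aeval_eq_sum_range]
      refine sum_mem fun i _ => ?_
      rw [Algebra.smul_def]
      exact mul_mem (Subfield.subset_closure (Set.mem_union_left _ (Set.mem_range_self _)))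
        (pow_mem (Subfield.subset_closure (Set.mem_union_right _ (Set.mem_singleton _))) _)
    have hD0 : toFrac A Q (aeval y D) ≠ 0 := fun h0 => hD ((toFrac_eq_zero_iff _).mp h0)
    have h1 : toFrac A Q x = toFrac A Q (aeval y G) / toFrac A Q (aeval y D) := by
      rw [← toFrac_eq_iff (A := A), map_mul] at hDG
      rw [eq_div_iff hD0, ← hDG, mul_comm]
    rw [h1]
    exact div_mem (hmem G) (hmem D)

omit [HenselianLocalRing A] [IsLocalRing S] [IsLocalHom (algebraMap A S)] h in
/-- The stabilizer is open. -/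
theorem exists_finset_stab [IsNoetherianRing S] (Q : Ideal S) :
    ∃ s : Finset S, ∀ g : S ≃ₐ[A] S, (∀ x ∈ s, g x = x) → g ∈ stab (A := A) Q := by
  classical
  obtain ⟨s, hs⟩ := (isNoetherianRing_iff_ideal_fg S).mp inferInstance Q
  have h1 : ∀ g : S ≃ₐ[A] S, (∀ x ∈ s, g x = x) → ∀ x ∈ Q, g x ∈ Q := by
    intro g hg x hx
    have h2 : Q ≤ Q.comap (g : S →+* S) := by
      conv_lhs => rw [← hs]
      rw [Ideal.span_le]
      intro z hz
      change g z ∈ Q
      rw [hg z hz, ← hs]
      exact Ideal.subset_span hz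
    exact h2 hx
  refine ⟨s, fun g hg x => ⟨fun hx => ?_, fun hx => h1 g hg x hx⟩⟩
  have h3 := h1 g.symm (fun z hz => by rw [AlgEquiv.symm_apply_eq, hg z hz]) _ hx
  rwa [AlgEquiv.symm_apply_apply] at h3

end Main

end K143.SH
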