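import Groth.Agent.Hensel.K143.SHStage
import Mathlib.LinearAlgebra.LinearIndependent.Lemmas
import Mathlib.FieldTheory.Galois.Basic

/-!
The Galois group `S ≃ₐ[A] S` of the strict henselization `S` of a henselian local ring `A`:
existence of automorphisms, finite orbits, trace elements for subgroups, fixed rings.
-/

set_option autoImplicit false

universe u

namespace K143.SH

open IsLocalRing Polynomial

section Basic

variable {A : Type u} {S : Type u} [CommRing A] [IsLocalRing A] [CommRing S] [IsLocalRing S] [Algebra A S]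
  [IsLocalHom (algebraMap A S)]

omit [IsLocalRing A] [IsLocalHom (algebraMap A S)] in
theorem mem_maximalIdeal_iff_algEquiv (g : S ≃ₐ[A] S) (x : S) :
    g x ∈ maximalIdeal S ↔ x ∈ maximalIdeal S := by
  rw [← not_iff_not, notMem_maximalIdeal, notMem_maximalIdeal]
  exact ⟨fun h => by simpa using h.map g.symm, fun h => h.map g⟩

omit [IsLocalRing A] [IsLocalHom (algebraMap A S)] in
theorem residue_algEquiv_eq_iff (g : S ≃ₐ[A] S) (x y : S) :
    residue S (g x) = residue S (g y) ↔ residue S x = residue S y := by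
  rw [← sub_eq_zero, ← map_sub, ← map_sub, residue_eq_zero_iff, mem_maximalIdeal_iff_algEquiv,
    ← residue_eq_zero_iff, map_sub, sub_eq_zero]

omit [IsLocalRing A] [IsLocalRing S] [IsLocalHom (algebraMap A S)] in
theorem algEquiv_aeval (g : S ≃ₐ[A] S) (θ : S) (p : A[X]) : g (aeval θ p) = aeval (g θ) p :=
  (Polynomial.aeval_algHom_apply (g : S →ₐ[A] S) θ p).symm

theorem IsStage.algEquiv_eq_of_residue {θ : S} {f : A[X]} (h : IsStage A θ f) (g g' : S ≃ₐ[A] S)
    (hr : residue S (g θ) = residue S (g' θ)) : g θ = g' θ := by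
  have h1 : residue S θ = residue S (g.symm (g' θ)) := by
    rw [← residue_algEquiv_eq_iff g]
    simpa using hr
  have h2 := h.eq_of_residue_eq (g.symm (g' θ)) (by
    rw [← algEquiv_aeval, ← algEquiv_aeval, h.root, map_zero, map_zero]) h1
  have := congrArg g h2
  simpa using this

/-- Orbits of stages are finite. -/
theorem IsStage.finite_orbit {θ : S} {f : A[X]} (h : IsStage A θ f) :
    (Set.range fun g : S ≃ₐ[A] S => g θ).Finite := by
  classical
  refine Set.Finite.of_injOn (f := residue S)
    (t := (((f.map (residue A)).aroots (ResidueField S)).toFinset : Set (ResidueField S))) ?_ ?_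
    (Finset.finite_toSet _)
  · rintro _ ⟨g, rfl⟩
    rw [Finset.mem_coe, Multiset.mem_toFinset, Polynomial.mem_aroots]
    refine ⟨(h.monic.map _).ne_zero, ?_⟩
    rw [← residue_aeval, ← algEquiv_aeval, h.root, map_zero, map_zero]
  · rintro _ ⟨g, rfl⟩ _ ⟨g', rfl⟩ hgg
    exact h.algEquiv_eq_of_residue g g' hgg

end Basic

section Strict

variable (A : Type u) {S : Type u} [CommRing A] [IsLocalRing A] [CommRing S] [IsLocalRing S] [Algebra A S]
  [IsLocalHom (algebraMap A S)] [h : Hensel.IsStrictHenselization A S]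

include h in
/-- Existence of automorphisms of the strict henselization. -/
theorem exists_algEquiv (σ : ResidueField S ≃ₐ[ResidueField A] ResidueField S) :
    ∃ g : S ≃ₐ[A] S, ∀ x, residue S (g x) = σ (residue S x) := by
  have hSh := h.henselian
  have hσ : ∀ σ : ResidueField S ≃ₐ[ResidueField A] ResidueField S,
      (σ : ResidueField S →+* ResidueField S).comp (ResidueField.map (algebraMap A S)) =
        ResidueField.map (algebraMap A S) := by
    intro σ
    ext x
    exact σ.commutes x
  obtain ⟨g, ⟨hg1, hg2⟩, -⟩ := h.universal S (algebraMap A S) (σ : ResidueField S →+* ResidueField S) (hσ σ)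
  obtain ⟨g', ⟨hg'1, hg'2⟩, -⟩ := h.universal S (algebraMap A S)
    (σ.symm : ResidueField S →+* ResidueField S) (hσ σ.symm)
  obtain ⟨e, -, he⟩ := h.universal S (algebraMap A S) (RingHom.id _) (by rw [RingHom.id_comp])
  have h1 : g.comp g' = RingHom.id S := by
    rw [he (g.comp g') ⟨by rw [RingHom.comp_assoc, hg'1, hg1], fun x => ?_⟩,
      he (RingHom.id S) ⟨by rw [RingHom.id_comp], fun x => rfl⟩]
    rw [RingHom.comp_apply, hg2, hg'2]
    exact σ.apply_symm_apply _
  have h2 : g'.comp g = RingHom.id S := by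
    rw [he (g'.comp g) ⟨by rw [RingHom.comp_assoc, hg1, hg'1], fun x => ?_⟩,
      he (RingHom.id S) ⟨by rw [RingHom.id_comp], fun x => rfl⟩]
    rw [RingHom.comp_apply, hg'2, hg2]
    exact σ.symm_apply_apply _
  refine ⟨AlgEquiv.ofRingEquiv (f := RingEquiv.ofRingHom g g' h1 h2) (fun a => congr($hg1 a)), fun x => hg2 x⟩

end Strict

section Trace

variable {A : Type u} {S : Type u} [CommRing A] [IsLocalRing A] [CommRing S] [IsLocalRing S] [Algebra A S]
  [IsLocalHom (algebraMap A S)]

/-- Trace elements for subgroups of the Galois group. -/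
theorem IsStage.exists_trace {θ : S} {f : A[X]} (h : IsStage A θ f) (N : Subgroup (S ≃ₐ[A] S)) :
    ∃ (ι : Type u) (_ : Fintype ι) (n : ι → S ≃ₐ[A] S) (c : S), (∀ i, n i ∈ N) ∧
      (∑ i, n i c = 1) ∧
      ∀ q : A[X], ∀ g ∈ N, g (∑ i, n i (c * aeval θ q)) = ∑ i, n i (c * aeval θ q) := by
  classical
  let O : Set S := Set.range fun n : N => (n : S ≃ₐ[A] S) θ
  have hO : O.Finite := h.finite_orbit.subset (by
    rintro _ ⟨n, rfl⟩
    exact ⟨n, rfl⟩)
  have : Fintype O := hO.fintype
  have hex : ∀ i : O, ∃ n : N, (n : S ≃ₐ[A] S) θ = i := fun i => i.2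
  choose n hn using hex
  -- sums over the orbit
  let P : A[X] → S := fun q => ∑ i : O, aeval (i : S) q
  have hP : ∀ q, P q = ∑ i : O, (n i : S ≃ₐ[A] S) (aeval θ q) := by
    intro q
    refine Finset.sum_congr rfl fun i _ => ?_
    rw [algEquiv_aeval, hn]
  have hPinv : ∀ q, ∀ g ∈ N, g (P q) = P q := by
    intro q g hg
    have hact : ∀ i : O, g i ∈ O := by
      rintro ⟨_, ⟨n, rfl⟩⟩
      exact ⟨⟨g, hg⟩ * n, rfl⟩
    have hinj : Function.Injective (fun i : O => (⟨g i, hact i⟩ : O)) := by
      intro i j hij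
      have := congrArg Subtype.val hij
      exact Subtype.ext (g.injective this)
    have hbij := Finite.injective_iff_bijective.mp hinj
    rw [map_sum]
    refine Eq.trans ?_ (Function.Bijective.sum_comp hbij (fun i : O => aeval (i : S) q))
    refine Finset.sum_congr rfl fun i _ => ?_
    rw [algEquiv_aeval]
  -- some sum is a unit
  have hunit : ∃ q : A[X], IsUnit (P q) := by
    by_contra hcon
    push Not at hcon
    have h0 : ∀ q : A[X], ∑ i : O, residue S (aeval (i : S) q) = 0 := by
      intro q
      rw [← map_sum, residue_eq_zero_iff]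
      exact (mem_maximalIdeal _).mpr (hcon q)
    let χ : O → (A[X] →* ResidueField S) := fun i =>
      ((residue S).comp (aeval (i : S) : A[X] →ₐ[A] S).toRingHom : A[X] →+* ResidueField S)
    have hχ : Function.Injective χ := by
      intro i j hij
      have h1 : residue S (aeval (i : S) (X : A[X])) = residue S (aeval (j : S) (X : A[X])) :=
        congrArg (fun t : A[X] →* ResidueField S => t X) hij
      rw [aeval_X, aeval_X, ← hn i, ← hn j] at h1
      have h2 := h.algEquiv_eq_of_residue _ _ h1
      rw [hn, hn] at h2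
      exact Subtype.ext h2
    have hli := (linearIndependent_monoidHom (A[X]) (ResidueField S)).comp χ hχ
    rw [Fintype.linearIndependent_iff] at hli
    have h1 := hli (fun _ => 1) (by
      funext q
      rw [Finset.sum_apply]
      simp only [Function.comp_apply, Pi.smul_apply, one_smul, Pi.zero_apply]
      exact h0 q)
    exact one_ne_zero (h1 ⟨θ, ⟨1, rfl⟩⟩)
  obtain ⟨q₀, u, hu⟩ := hunit
  have huinv : ∀ g ∈ N, g (↑u⁻¹ : S) = ↑u⁻¹ := by
    intro g hg
    have h1 : g (u : S) = u := by rw [hu]; exact hPinv q₀ g hg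
    have h2 : g (u : S) * g (↑u⁻¹ : S) = 1 := by rw [← map_mul, Units.mul_inv, map_one]
    rw [h1, mul_comm] at h2
    exact (Units.eq_inv_of_mul_eq_one_right h2)
  have key : ∀ q, ∑ i : O, (n i : S ≃ₐ[A] S) (↑u⁻¹ * aeval θ q₀ * aeval θ q) = ↑u⁻¹ * P (q₀ * q) := by
    intro q
    rw [hP, Finset.mul_sum]
    refine Finset.sum_congr rfl fun i _ => ?_
    rw [map_mul, map_mul, huinv _ (n i).2, map_mul (aeval θ), map_mul, mul_assoc]
  refine ⟨O, inferInstance, fun i => n i, ↑u⁻¹ * aeval θ q₀, fun i => (n i).2, ?_, ?_⟩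
  · have := key 1
    simp only [map_one, mul_one] at this
    rw [this, ← hu, Units.inv_mul]
  · intro q g hg
    rw [key, map_mul, huinv g hg, hPinv _ g hg]

end Trace

end K143.SH
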