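import Groth.Agent.Hensel.K143.SHFrac
import Mathlib.FieldTheory.Normal.Basic
import Mathlib.FieldTheory.Galois.Infinite

/-!
`K = Frac (S/Q)` is Galois over the field generated by `A`, with group the stabilizer of `Q`.
-/

set_option autoImplicit false

universe u

namespace K143.SH

open IsLocalRing Polynomial

section Main

variable (A : Type u) {S : Type u} [CommRing A] [HenselianLocalRing A] [CommRing S] [IsLocalRing S] [Algebra A S]
  [IsLocalHom (algebraMap A S)] [h : Hensel.IsStrictHenselization A S]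

variable (Q : Ideal S) [Q.IsPrime]

variable {A Q} in
/-- The endomorphism of the fraction field induced by an element of the stabilizer. -/
noncomputable def fracMap (g : S ≃ₐ[A] S) (hg : g ∈ stab Q) : FractionRing (S ⧸ Q) →+* FractionRing (S ⧸ Q) :=
  IsFractionRing.map (act_injective g hg)

variable {A Q} in
omit [HenselianLocalRing A] [IsLocalRing S] [IsLocalHom (algebraMap A S)] h in
theorem fracMap_toFrac (g : S ≃ₐ[A] S) (hg : g ∈ stab Q) (x : S) :
    fracMap g hg (toFrac A Q x) = toFrac A Q (g x) := by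
  have h1 : fracMap g hg (algebraMap (S ⧸ Q) (FractionRing (S ⧸ Q)) (Ideal.Quotient.mk Q x)) =
      algebraMap (S ⧸ Q) (FractionRing (S ⧸ Q)) (act g hg (Ideal.Quotient.mk Q x)) := by
    unfold fracMap IsFractionRing.map
    exact IsLocalization.map_eq _ _
  exact h1

variable {A Q} in
omit [HenselianLocalRing A] [IsLocalRing S] [IsLocalHom (algebraMap A S)] h in
theorem fracMap_algebraMap (g : S ≃ₐ[A] S) (hg : g ∈ stab Q) (a : A) :
    fracMap g hg (algebraMap A _ a) = algebraMap A _ a := by
  rw [← toFrac_algebraMap, fracMap_toFrac, g.commutes]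

/-- An element of `K` fixed by the stabilizer lies in the base field. -/
theorem mem_baseField_of_fixed [IsNoetherianRing A] (hQ : Q ∈ minimalPrimes S) (z : FractionRing (S ⧸ Q))
    (hz : ∀ g (hg : g ∈ stab (A := A) Q), fracMap g hg z = z) : z ∈ baseField A Q := by
  obtain ⟨x, a, ha, rfl⟩ := exists_toFrac_div_algebraMap A Q z
  have ha0 : algebraMap A (FractionRing (S ⧸ Q)) a ≠ 0 := fun h0 => by
    rw [← toFrac_algebraMap] at h0
    exact ha ((toFrac_eq_zero_iff _).mp h0)
  obtain ⟨b, c, hc, hbc⟩ := exists_frac_of_fixed A Q hQ x (fun g hg => by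
    have h1 := hz g hg
    rw [map_div₀, fracMap_algebraMap, fracMap_toFrac, div_left_inj' ha0, toFrac_eq_iff] at h1
    exact h1)
  rw [← toFrac_eq_iff (A := A), map_mul, toFrac_algebraMap, toFrac_algebraMap] at hbc
  have hc0 : algebraMap A (FractionRing (S ⧸ Q)) c ≠ 0 := fun h0 => by
    rw [← toFrac_algebraMap] at h0
    exact hc ((toFrac_eq_zero_iff _).mp h0)
  have h2 : toFrac A Q x = algebraMap A _ b / algebraMap A _ c := by
    rw [eq_div_iff hc0, ← hbc, mul_comm]
  rw [h2]
  exact div_mem (div_mem (algebraMap_mem_baseField A Q _) (algebraMap_mem_baseField A Q _))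
    (algebraMap_mem_baseField A Q _)

/-- The orbit of an element in the fraction field. -/
def orb (x : S) : Set (FractionRing (S ⧸ Q)) :=
  Set.range fun g : stab (A := A) Q => toFrac A Q ((g : S ≃ₐ[A] S) x)

omit [Q.IsPrime] in
theorem orb_finite (x : S) : (orb A Q x).Finite := by
  refine ((finite_orbit A x).image (toFrac A Q)).subset ?_
  rintro _ ⟨n, rfl⟩
  exact ⟨_, ⟨n, rfl⟩, rfl⟩

/-- The orbit polynomial has coefficients in the base field. -/
theorem exists_orbit_poly [IsNoetherianRing A] (hQ : Q ∈ minimalPrimes S) (x : S) :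
    ∃ P : (baseField A Q)[X], P.map (algebraMap (baseField A Q) (FractionRing (S ⧸ Q))) =
      ∏ i ∈ (orb_finite A Q x).toFinset, (X - C i) := by
  classical
  set O := (orb_finite A Q x).toFinset with hO
  have hmem : ∀ i, i ∈ O ↔ ∃ g : stab (A := A) Q, toFrac A Q ((g : S ≃ₐ[A] S) x) = i := by
    intro i
    exact (orb_finite A Q x).mem_toFinset
  have h1 : ∀ g (hg : g ∈ stab (A := A) Q), (∏ i ∈ O, (X - C i)).map (fracMap g hg) = ∏ i ∈ O, (X - C i) := by
    intro g hg
    have hinj : Function.Injective (fracMap g hg) := RingHom.injective _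
    have himg : O.image (fracMap g hg) = O := by
      refine Finset.eq_of_subset_of_card_le ?_ ?_
      · intro y hy
        obtain ⟨i, hi, rfl⟩ := Finset.mem_image.mp hy
        obtain ⟨g', rfl⟩ := (hmem i).mp hi
        rw [fracMap_toFrac, hmem]
        exact ⟨⟨g, hg⟩ * g', rfl⟩
      · rw [Finset.card_image_of_injective _ hinj]
    conv_rhs => rw [← himg]
    rw [Finset.prod_image (fun _ _ _ _ h => hinj h), Polynomial.map_prod]
    refine Finset.prod_congr rfl fun i _ => ?_
    simp
  have h2 : ∀ n, (∏ i ∈ O, (X - C i)).coeff n ∈ baseField A Q := by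
    intro n
    refine mem_baseField_of_fixed A Q hQ _ fun g hg => ?_
    rw [← Polynomial.coeff_map, h1 g hg]
  obtain ⟨P, hP⟩ := (Polynomial.mem_map_range (algebraMap (baseField A Q) (FractionRing (S ⧸ Q)))
    (p := ∏ i ∈ O, (X - C i))).mpr (fun n => ⟨⟨_, h2 n⟩, rfl⟩)
  exact ⟨P, hP⟩

theorem isGalois_frac [IsNoetherianRing A] (hQ : Q ∈ minimalPrimes S) :
    IsGalois (baseField A Q) (FractionRing (S ⧸ Q)) := by
  classical
  have hsep := isSeparable_frac A Q
  have h1 : ∀ x : S, ((minpoly (baseField A Q) (toFrac A Q x)).map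
      (algebraMap (baseField A Q) (FractionRing (S ⧸ Q)))).Splits := by
    intro x
    obtain ⟨P, hP⟩ := exists_orbit_poly A Q hQ x
    have h2 : aeval (toFrac A Q x) P = 0 := by
      rw [Polynomial.aeval_def, ← Polynomial.eval_map, hP, Polynomial.eval_prod]
      refine Finset.prod_eq_zero (i := toFrac A Q x) ?_ (by simp)
      rw [Set.Finite.mem_toFinset]
      exact ⟨1, rfl⟩
    have h3 := Polynomial.map_dvd (algebraMap (baseField A Q) (FractionRing (S ⧸ Q))) (minpoly.dvd _ _ h2)
    rw [hP] at h3
    refine Splits.of_dvd ?_ ?_ h3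
    · exact Splits.prod fun i _ => Splits.X_sub_C _
    · exact Finset.prod_ne_zero_iff.mpr fun i _ => X_sub_C_ne_zero _
  have hn : Normal (baseField A Q) (FractionRing (S ⧸ Q)) := by
    refine Normal.mk (splits' := fun z => ?_)
    refine IntermediateField.splits_of_mem_adjoin (F := baseField A Q) (K := FractionRing (S ⧸ Q))
      (S := Set.range (toFrac A Q)) ?_ ?_
    · rintro _ ⟨x, rfl⟩
      exact ⟨Algebra.IsSeparable.isIntegral _ _, h1 x⟩
    · obtain ⟨x, y, -, rfl⟩ := exists_toFrac_div A Q z
      exact div_mem (IntermediateField.subset_adjoin _ _ ⟨x, rfl⟩) (IntermediateField.subset_adjoin _ _ ⟨y, rfl⟩)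
  exact IsGalois.mk

variable {A Q} in
/-- automorphisms over the base field are `A`-linear -/
theorem algEquiv_algebraMap (σ : FractionRing (S ⧸ Q) ≃ₐ[baseField A Q] FractionRing (S ⧸ Q)) (a : A) :
    σ (algebraMap A _ a) = algebraMap A _ a :=
  σ.commutes ⟨_, algebraMap_mem_baseField A Q a⟩

theorem algEquiv_mem_orb [IsNoetherianRing A] (hQ : Q ∈ minimalPrimes S)
    (σ : FractionRing (S ⧸ Q) ≃ₐ[baseField A Q] FractionRing (S ⧸ Q)) (x : S) :
    ∃ g ∈ stab (A := A) Q, toFrac A Q (g x) = σ (toFrac A Q x) := by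
  obtain ⟨P, hP⟩ := exists_orbit_poly A Q hQ x
  have h2 : aeval (toFrac A Q x) P = 0 := by
    rw [Polynomial.aeval_def, ← Polynomial.eval_map, hP, Polynomial.eval_prod]
    refine Finset.prod_eq_zero (i := toFrac A Q x) ?_ (by simp)
    rw [Set.Finite.mem_toFinset]
    exact ⟨1, rfl⟩
  have h3 : aeval (σ (toFrac A Q x)) P = 0 := by
    rw [Polynomial.aeval_algEquiv, AlgHom.comp_apply, h2, map_zero]
  rw [Polynomial.aeval_def, ← Polynomial.eval_map, hP, Polynomial.eval_prod, Finset.prod_eq_zero_iff] at h3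
  obtain ⟨i, hi, h4⟩ := h3
  rw [Set.Finite.mem_toFinset] at hi
  obtain ⟨g, rfl⟩ := hi
  refine ⟨g, g.2, ?_⟩
  simp only [Polynomial.eval_sub, Polynomial.eval_X, Polynomial.eval_C, sub_eq_zero] at h4
  exact h4.symm

/-- Every automorphism of `K` over the base field is induced by an element of the stabilizer of `Q`. -/
theorem exists_of_algEquiv [IsNoetherianRing A] (hQ : Q ∈ minimalPrimes S)
    (σ : FractionRing (S ⧸ Q) ≃ₐ[baseField A Q] FractionRing (S ⧸ Q)) :
    ∃ g ∈ stab (A := A) Q, ∀ x, σ (toFrac A Q x) = toFrac A Q (g x) := by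
  classical
  have hQm : Q ≤ maximalIdeal S := le_maximalIdeal (Ideal.IsPrime.ne_top inferInstance)
  have hSc : IsSepClosure (ResidueField A) (ResidueField S) := h.isSepClosure
  choose G hG1 hG2 using algEquiv_mem_orb A Q hQ σ
  have hres : ∀ u v : S, toFrac A Q u = toFrac A Q v → residue S u = residue S v := by
    intro u v huv
    rw [toFrac_eq_iff] at huv
    rw [← sub_eq_zero, ← map_sub, residue_eq_zero_iff]
    exact hQm huv
  let ρ : S →+* ResidueField S :=
    { toFun := fun x => residue S (G x x)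
      map_one' := by
        rw [← map_one (residue S)]
        exact hres _ _ (by rw [hG2, map_one, map_one])
      map_mul' := fun x y => by
        change residue S (G (x * y) (x * y)) = residue S (G x x) * residue S (G y y)
        rw [← map_mul]
        exact hres _ _ (by rw [hG2, map_mul, map_mul, map_mul, hG2, hG2])
      map_zero' := by
        rw [← map_zero (residue S)]
        exact hres _ _ (by rw [hG2, map_zero, map_zero])
      map_add' := fun x y => by
        change residue S (G (x + y) (x + y)) = residue S (G x x) + residue S (G y y)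
        rw [← map_add]
        exact hres _ _ (by rw [hG2, map_add, map_add, map_add, hG2, hG2]) }
  have hρ : ∀ x, ρ x = residue S (G x x) := fun x => rfl
  have hρA : ∀ a : A, ρ (algebraMap A S a) = residue S (algebraMap A S a) := by
    intro a
    rw [hρ, AlgEquiv.commutes]
  have hρ0 : ∀ x, ρ x = 0 ↔ x ∈ maximalIdeal S := by
    intro x
    rw [hρ, residue_eq_zero_iff, mem_maximalIdeal_iff_algEquiv]
  let τ₀ : ResidueField S →+* ResidueField S :=
    Ideal.Quotient.lift (maximalIdeal S) ρ (fun x hx => (hρ0 x).mpr hx)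
  have hτ₀ : ∀ x, τ₀ (residue S x) = ρ x := fun x => rfl
  let τ : ResidueField S →ₐ[ResidueField A] ResidueField S :=
    { τ₀ with
      commutes' := fun y => by
        obtain ⟨a, rfl⟩ := residue_surjective y
        have h1 : algebraMap (ResidueField A) (ResidueField S) (residue A a) =
            residue S (algebraMap A S a) := rfl
        rw [h1]
        exact hρA a }
  have hbij : Function.Bijective τ := Algebra.IsAlgebraic.algHom_bijective τ
  obtain ⟨g, hg⟩ := exists_algEquiv A (AlgEquiv.ofBijective τ hbij)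
  have hg' : ∀ x, residue S (g x) = residue S (G x x) := fun x => hg x
  let σA : FractionRing (S ⧸ Q) →ₐ[A] FractionRing (S ⧸ Q) :=
    { (σ : FractionRing (S ⧸ Q) →+* FractionRing (S ⧸ Q)) with
      commutes' := fun a => algEquiv_algebraMap σ a }
  have hσA : ∀ z, σA z = σ z := fun z => rfl
  have key : ∀ x, σ (toFrac A Q x) = toFrac A Q (g x) := by
    intro x
    obtain ⟨θ, f, hθ, hs⟩ := exists_stage_finset A {x}
    obtain ⟨p, rfl⟩ := hs x (Finset.mem_singleton_self _)
    have h1 : G θ θ = g θ := hθ.algEquiv_eq_of_residue _ _ (hg' θ).symm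
    rw [← Polynomial.aeval_algHom_apply, ← hσA, ← Polynomial.aeval_algHom_apply, hσA, ← hG2, h1,
      Polynomial.aeval_algHom_apply, ← algEquiv_aeval]
  refine ⟨g, fun x => ?_, key⟩
  rw [← toFrac_eq_zero_iff (A := A), ← key, map_eq_zero, toFrac_eq_zero_iff]

/-- Elements of a subfield `L` of `K` are those fixed by the elements of the stabilizer fixing `L`. -/
theorem mem_of_fixed [IsNoetherianRing A] (hQ : Q ∈ minimalPrimes S)
    (L : IntermediateField (baseField A Q) (FractionRing (S ⧸ Q))) (z : FractionRing (S ⧸ Q))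
    (hz : ∀ g (hg : g ∈ stab (A := A) Q), (∀ w ∈ L, fracMap g hg w = w) → fracMap g hg z = z) : z ∈ L := by
  have hgal := isGalois_frac A Q hQ
  rw [← InfiniteGalois.fixedField_fixingSubgroup L, IntermediateField.mem_fixedField_iff]
  intro σ hσ
  obtain ⟨g, hg, hgσ⟩ := exists_of_algEquiv A Q hQ σ
  have h1 : ∀ w, σ w = fracMap g hg w := by
    intro w
    obtain ⟨x, y, -, rfl⟩ := exists_toFrac_div A Q w
    rw [map_div₀, map_div₀, hgσ, hgσ, fracMap_toFrac, fracMap_toFrac]
  rw [h1]
  refine hz g hg fun w hw => ?_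
  rw [← h1]
  exact (IntermediateField.mem_fixingSubgroup_iff _ _).mp hσ w hw

end Main

end K143.SH
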