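import Groth.Agent.Hensel.K143.SHTot
import Groth.Agent.S1964

/-!
The integral closure `D'` of a subring `D` of the strict henselization `S` in its total ring of fractions,
its maximal ideals and their residue fields: the separable closure of the residue field of `D` in them.
-/

set_option autoImplicit false

universe u

namespace K143.SH

open IsLocalRing Polynomial

section Main

variable (A D : Type u) {S : Type u} [CommRing A] [HenselianLocalRing A] [CommRing D] [CommRing S] [IsLocalRing S]
  [Algebra A S] [IsLocalHom (algebraMap A S)] [h : Hensel.IsStrictHenselization A S] [Algebra A D] [Algebra D S]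
  [IsScalarTower A D S]

variable (Q : Ideal S) [Q.IsPrime]

/-- the integral closure of `A` in the fraction field of `S/Q` -/
noncomputable abbrev intV : Subalgebra A (FractionRing (S ⧸ Q)) := integralClosure A (FractionRing (S ⧸ Q))

instance henselianLocalRing_intV : HenselianLocalRing (intV A Q) := by
  obtain ⟨h1, -⟩ := Groth.Agent.S1964.result A (intV A Q)
  exact h1

/-- The map from `S`. -/
noncomputable def toInt : S →+* intV A Q :=
  have := isIntegral_strict A S
  ((toFrac A Q).codRestrict (intV A Q)
    (fun x => (Algebra.IsIntegral.isIntegral (R := A) x).map (toFrac A Q)) : S →ₐ[A] intV A Q)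

omit [Q.IsPrime] in
theorem toInt_coe (x : S) : (toInt A Q x : FractionRing (S ⧸ Q)) = toFrac A Q x := rfl

omit [Q.IsPrime] in
theorem toInt_algebraMap (a : A) : toInt A Q (algebraMap A S a) = algebraMap A (intV A Q) a :=
  Subtype.ext (toFrac_algebraMap A Q a)

instance isLocalHom_toInt : IsLocalHom (toInt A Q) := by
  let f : S ⧸ Q →+* intV A Q := Ideal.Quotient.lift Q (toInt A Q) (fun x hx =>
    Subtype.ext ((toFrac_eq_zero_iff (A := A) x).mpr hx))
  have hf : ∀ x, f (Ideal.Quotient.mk Q x) = toInt A Q x := fun x => rfl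
  have hinj : Function.Injective f := by
    rw [injective_iff_map_eq_zero]
    intro x hx
    obtain ⟨x, rfl⟩ := Ideal.Quotient.mk_surjective x
    rw [hf] at hx
    have h1 : toFrac A Q x = 0 := congrArg Subtype.val hx
    rw [Ideal.Quotient.eq_zero_iff_mem]
    exact (toFrac_eq_zero_iff x).mp h1
  have hint : f.IsIntegral := by
    have h1 : (algebraMap A (intV A Q)).IsIntegral :=
      algebraMap_isIntegral_iff.mpr (integralClosure.AlgebraIsIntegral)
    refine RingHom.IsIntegral.tower_top (algebraMap A (S ⧸ Q)) f ?_
    have h2 : f.comp (algebraMap A (S ⧸ Q)) = algebraMap A (intV A Q) := by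
      ext a
      exact congrArg Subtype.val (toInt_algebraMap A Q a)
    rw [h2]
    exact h1
  have hloc : IsLocalHom f := hint.isLocalHom hinj
  constructor
  intro x hx
  rw [← hf] at hx
  have h1 := isUnit_of_map_unit f _ hx
  obtain ⟨y, hy⟩ := h1.exists_right_inv
  obtain ⟨y, rfl⟩ := Ideal.Quotient.mk_surjective y
  rw [← map_mul, ← map_one (Ideal.Quotient.mk Q), Ideal.Quotient.eq] at hy
  have hQm : Q ≤ maximalIdeal S := le_maximalIdeal (Ideal.IsPrime.ne_top inferInstance)
  have h2 : IsUnit (x * y) := by
    by_contra hn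
    have h3 : x * y ∈ maximalIdeal S := (mem_maximalIdeal _).mpr hn
    have h4 := (maximalIdeal S).sub_mem h3 (hQm hy)
    rw [sub_sub_cancel] at h4
    exact (notMem_maximalIdeal.mpr isUnit_one) h4
  exact isUnit_of_mul_isUnit_left h2

/-- The map `D' → V`. -/
noncomputable def totInt (hinj : Function.Injective (algebraMap D S)) (hQ : Q ∈ minimalPrimes S) :
    integralClosure D (FractionRing D) →+* intV A Q :=
  have := isIntegral_sub A D S hinj
  RingHom.codRestrict ((totFrac A D Q hinj hQ : FractionRing D →+* FractionRing (S ⧸ Q)).comp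
    (algebraMap (integralClosure D (FractionRing D)) (FractionRing D))) (intV A Q)
    (fun x => (isIntegral_trans (R := A) (x : FractionRing D) x.2).map (totFrac A D Q hinj hQ))

theorem totInt_coe (hinj : Function.Injective (algebraMap D S)) (hQ : Q ∈ minimalPrimes S)
    (x : integralClosure D (FractionRing D)) :
    (totInt A D Q hinj hQ x : FractionRing (S ⧸ Q)) = totFrac A D Q hinj hQ x := rfl

theorem totInt_algebraMap (hinj : Function.Injective (algebraMap D S)) (hQ : Q ∈ minimalPrimes S) (d : D) :
    totInt A D Q hinj hQ (algebraMap D _ d) = toInt A Q (algebraMap D S d) :=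
  Subtype.ext (totFrac_algebraMap A D Q hinj hQ d)

theorem isIntegral_totInt (hinj : Function.Injective (algebraMap D S)) (hQ : Q ∈ minimalPrimes S) :
    (totInt A D Q hinj hQ).IsIntegral := by
  have h1 : (algebraMap A (intV A Q)).IsIntegral :=
    algebraMap_isIntegral_iff.mpr (integralClosure.AlgebraIsIntegral)
  refine RingHom.IsIntegral.tower_top ((algebraMap D (integralClosure D (FractionRing D))).comp (algebraMap A D))
    _ ?_
  have h2 : (totInt A D Q hinj hQ).comp ((algebraMap D (integralClosure D (FractionRing D))).comp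
      (algebraMap A D)) = algebraMap A (intV A Q) := by
    ext a
    rw [RingHom.comp_apply, RingHom.comp_apply, totInt_algebraMap, ← IsScalarTower.algebraMap_apply,
      toInt_algebraMap]
  rw [h2]
  exact h1

/-- The maximal ideal of `D'` attached to `Q`. -/
noncomputable def maxOf (hinj : Function.Injective (algebraMap D S)) (hQ : Q ∈ minimalPrimes S) :
    Ideal (integralClosure D (FractionRing D)) :=
  (maximalIdeal (intV A Q)).comap (totInt A D Q hinj hQ)

theorem maxOf_isMaximal (hinj : Function.Injective (algebraMap D S)) (hQ : Q ∈ minimalPrimes S) :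
    (maxOf A D Q hinj hQ).IsMaximal :=
  Ideal.isMaximal_comap_of_isIntegral_of_isMaximal' _ (isIntegral_totInt A D Q hinj hQ) _

omit [Q.IsPrime] in
/-- Every maximal ideal of `D'` is attached to some `Q`. -/
theorem exists_maxOf_eq [IsNoetherianRing A] [IsReduced S] (hinj : Function.Injective (algebraMap D S))
    (M : Ideal (integralClosure D (FractionRing D))) [hM : M.IsMaximal] :
    ∃ (Q : Ideal S) (_ : Q.IsPrime) (hQ : Q ∈ minimalPrimes S), maxOf A D Q hinj hQ = M := by
  classical
  have hSN : IsNoetherianRing S := (Groth.Agent.S0540.result A S).mp inferInstance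
  have hfS : Finite (minimalPrimes S) := (minimalPrimes.finite_of_isNoetherianRing S).to_subtype
  cases nonempty_fintype (minimalPrimes S)
  have hp : ∀ q : minimalPrimes S, q.1.IsPrime := fun q => q.2.1.1
  let I : minimalPrimes S → Ideal (integralClosure D (FractionRing D)) := fun q =>
    RingHom.ker (totInt A D q.1 hinj q.2)
  have h0 : Finset.univ.inf I ≤ M := by
    have h1 : Finset.univ.inf I = ⊥ := by
      rw [eq_bot_iff]
      intro x hx
      rw [Ideal.mem_bot]
      refine Subtype.ext (eq_zero_of_totFrac A D hinj _ fun Q hQp hQ => ?_)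
      have h2 : x ∈ I ⟨Q, hQ⟩ := (Finset.inf_le (Finset.mem_univ _) : Finset.univ.inf I ≤ I ⟨Q, hQ⟩) hx
      exact congrArg Subtype.val ((RingHom.mem_ker).mp h2)
    rw [h1]
    exact bot_le
  obtain ⟨⟨Q, hQ⟩, -, hle⟩ := (Ideal.IsPrime.inf_le' hM.isPrime).1 h0
  have hQp : Q.IsPrime := hQ.1.1
  refine ⟨Q, hQp, hQ, ?_⟩
  let _ : Algebra (integralClosure D (FractionRing D)) (intV A Q) := (totInt A D Q hinj hQ).toAlgebra
  have : Algebra.IsIntegral (integralClosure D (FractionRing D)) (intV A Q) :=
    algebraMap_isIntegral_iff.mp (isIntegral_totInt A D Q hinj hQ)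
  obtain ⟨N, hN, hNM⟩ := Ideal.exists_ideal_over_maximal_of_isIntegral (S := intV A Q) M hle
  rw [eq_maximalIdeal hN] at hNM
  exact hNM

section Res

variable (hinj : Function.Injective (algebraMap D S)) (hQ : Q ∈ minimalPrimes S)
  (M : Ideal (integralClosure D (FractionRing D))) [M.IsPrime] (hM : maxOf A D Q hinj hQ = M)

/-- The embedding of the residue field of `M` in the one of `V`. -/
noncomputable def resMap : M.ResidueField →+* ResidueField (intV A Q) :=
  Ideal.ResidueField.lift M ((residue (intV A Q)).comp (totInt A D Q hinj hQ))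
    (fun x hx => by
      rw [← hM] at hx
      exact (residue_eq_zero_iff _).mpr hx)
    (fun x hx => isUnit_iff_ne_zero.mpr (fun h0 => hx (by
      rw [← hM]
      exact (residue_eq_zero_iff _).mp h0)))

theorem resMap_algebraMap (x : integralClosure D (FractionRing D)) :
    resMap A D Q hinj hQ M hM (algebraMap _ M.ResidueField x) = residue _ (totInt A D Q hinj hQ x) :=
  Ideal.ResidueField.lift_algebraMap _ _ _ _ _

/-- The map `D → κ(M)`. -/
noncomputable abbrev subRes : D →+* M.ResidueField :=
  (algebraMap (integralClosure D (FractionRing D)) M.ResidueField).comp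
    (algebraMap D (integralClosure D (FractionRing D)))

/-- The subfield generated by `D`. -/
noncomputable abbrev subK : Subfield M.ResidueField :=
  Subfield.closure (Set.range (subRes D M))

theorem resMap_sub (d : D) :
    resMap A D Q hinj hQ M hM (subRes D M d) = residue _ (toInt A Q (algebraMap D S d)) := by
  rw [RingHom.comp_apply, resMap_algebraMap, totInt_algebraMap]

include A Q hinj hQ hM in
theorem mem_subK_iff (x : M.ResidueField) : x ∈ subK D M ↔ ∃ d : D, subRes D M d = x := by
  constructor
  · intro hx
    rw [Subfield.mem_closure_iff] at hx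
    obtain ⟨y, hy, z, hz, rfl⟩ := hx
    have h3 : Subring.closure (Set.range (subRes D M)) = (subRes D M).range := by
      refine le_antisymm (Subring.closure_le.mpr ?_) ?_
      · rintro _ ⟨d, rfl⟩
        exact ⟨d, rfl⟩
      · rintro _ ⟨d, rfl⟩
        exact Subring.subset_closure ⟨d, rfl⟩
    rw [h3] at hy hz
    obtain ⟨a, rfl⟩ := hy
    obtain ⟨b, rfl⟩ := hz
    by_cases hb : subRes D M b = 0
    · refine ⟨0, ?_⟩
      rw [hb, div_zero, map_zero]
    · have h4 : resMap A D Q hinj hQ M hM (subRes D M b) ≠ 0 := (_root_.map_ne_zero _).mpr hb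
      rw [resMap_sub, residue_ne_zero_iff_isUnit] at h4
      have h6 := isUnit_of_map_unit (toInt A Q) _ h4
      have := isLocalHom_sub A D hinj
      obtain ⟨u, rfl⟩ := isUnit_of_map_unit (algebraMap D S) _ h6
      refine ⟨a * (↑u⁻¹ : D), ?_⟩
      rw [eq_div_iff hb, ← map_mul, mul_assoc, Units.inv_mul, mul_one]
  · rintro ⟨d, rfl⟩
    exact Subfield.subset_closure ⟨d, rfl⟩

include A hM in
/-- Separable elements of the residue field of `M` come from stages. -/
theorem exists_stage_of_isSeparable (x : M.ResidueField) (hx : IsSeparable (subK D M) x) :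
    ∃ (θ : S) (f : A[X]), IsStage A θ f ∧ resMap A D Q hinj hQ M hM x = residue _ (toInt A Q θ) := by
  have hSc : IsSepClosure (ResidueField A) (ResidueField S) := h.isSepClosure
  have hSc' : IsSepClosed (ResidueField S) := hSc.sep_closed
  let j : ResidueField S →+* ResidueField (intV A Q) := ResidueField.map (toInt A Q)
  have hj : ∀ z, j (residue S z) = residue _ (toInt A Q z) := fun z => rfl
  have hjinj : Function.Injective j := j.injective
  let e : ResidueField S ≃+* j.range := RingEquiv.ofBijective j.rangeRestrict
    ⟨fun a b hab => hjinj (congrArg Subtype.val hab), j.rangeRestrict_surjective⟩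
  have he : ∀ c, (e c : ResidueField (intV A Q)) = j c := fun c => rfl
  let r := resMap A D Q hinj hQ M hM
  have hr : ∀ c : subK D M, r c ∈ j.range := by
    intro c
    obtain ⟨d, hd⟩ := (mem_subK_iff A D Q hinj hQ M hM (c : M.ResidueField)).mp c.2
    rw [← hd]
    exact ⟨residue S (algebraMap D S d), by rw [hj]; exact (resMap_sub A D Q hinj hQ M hM d).symm⟩
  let l : subK D M →+* ResidueField S :=
    (e.symm : j.range →+* ResidueField S).comp ((r.comp (subK D M).subtype).codRestrict j.range hr)
  have hl : ∀ c : subK D M, j (l c) = r c := by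
    intro c
    rw [← he]
    change ((e (e.symm _) : j.range) : ResidueField (intV A Q)) = _
    rw [e.apply_symm_apply]
    rfl
  have hl' : j.comp l = r.comp (algebraMap (subK D M) M.ResidueField) := RingHom.ext hl
  have hsplit : ((minpoly (subK D M) x).map l).Splits :=
    IsSepClosed.splits_of_separable _ (Separable.map hx)
  have hroot : (((minpoly (subK D M) x).map l).map j).IsRoot (r x) := by
    rw [IsRoot.def, Polynomial.map_map, hl', ← Polynomial.map_map, Polynomial.eval_map_apply,
      Polynomial.eval_map_algebraMap, minpoly.aeval, map_zero]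
  have hne : (minpoly (subK D M) x).map l ≠ 0 := by
    have h1 : minpoly (subK D M) x ≠ 0 := by
      intro h0
      rw [IsSeparable, h0] at hx
      exact not_separable_zero hx
    exact (Polynomial.map_ne_zero_iff (RingHom.injective _)).mpr h1
  obtain ⟨c, hc⟩ := hsplit.mem_range_of_isRoot hne hroot
  obtain ⟨θ, f, hθ, hθc⟩ := exists_stage A c
  refine ⟨θ, f, hθ, ?_⟩
  rw [← hj, hθc, hc]

/-- `totInt` as an `A`-algebra map. -/
noncomputable def totIntₐ : integralClosure D (FractionRing D) →ₐ[A] intV A Q :=
  { totInt A D Q hinj hQ with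
    commutes' := fun a => by
      have h1 : algebraMap A (integralClosure D (FractionRing D)) a = algebraMap D _ (algebraMap A D a) := rfl
      have h2 : toInt A Q (algebraMap D S (algebraMap A D a)) = toInt A Q (algebraMap A S a) := by
        rw [← IsScalarTower.algebraMap_apply]
      rw [h1]
      exact ((totInt_algebraMap A D Q hinj hQ _).trans h2).trans (toInt_algebraMap A Q a) }

/-- A stage whose residue comes from `D'` comes itself from `D'`. -/
theorem IsStage.exists_totInt_eq {θ : S} {f : A[X]} (hθ : IsStage A θ f)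
    (x : integralClosure D (FractionRing D))
    (hx : residue _ (totInt A D Q hinj hQ x) = residue _ (toInt A Q θ)) :
    ∃ x' : integralClosure D (FractionRing D), totInt A D Q hinj hQ x' = toInt A Q θ := by
  let C : Subalgebra A (intV A Q) := (totIntₐ A D Q hinj hQ).range
  have hC : Algebra.IsIntegral A C := by
    refine Algebra.IsIntegral.of_injective C.val Subtype.val_injective
  have hCh : HenselianLocalRing C := by
    obtain ⟨h1, -⟩ := Groth.Agent.S1964.result A C
    exact h1
  have hVint : Algebra.IsIntegral A (intV A Q) := integralClosure.AlgebraIsIntegral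
  have hCint : Algebra.IsIntegral C (intV A Q) := Algebra.IsIntegral.tower_top A
  have hCinj : Function.Injective (algebraMap C (intV A Q)) := Subtype.val_injective
  have hloc : IsLocalHom (algebraMap C (intV A Q)) :=
    (algebraMap_isIntegral_iff.mpr hCint).isLocalHom hCinj
  obtain ⟨⟨_, ⟨x', rfl⟩⟩, -, hx'⟩ := hθ.exists_lift (R := C) (algebraMap C (intV A Q)) (toInt A Q)
    (RingHom.ext fun a => (toInt_algebraMap A Q a).symm) ⟨_, ⟨x, rfl⟩⟩ hx
  exact ⟨x', hx'⟩

include A hM in
/-- Separable elements of the residue field of `M` come from stages fixed by the automorphisms fixing `D`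
modulo `Q`. -/
theorem exists_fixed_stage_of_isSeparable (hMm : M.IsMaximal) (x : M.ResidueField)
    (hx : IsSeparable (subK D M) x) :
    ∃ (θ : S) (f : A[X]), IsStage A θ f ∧ resMap A D Q hinj hQ M hM x = residue _ (toInt A Q θ) ∧
      ∀ g ∈ stab (A := A) Q, (∀ d : D, g (algebraMap D S d) - algebraMap D S d ∈ Q) → g θ = θ := by
  obtain ⟨θ, f, hθ, hr⟩ := exists_stage_of_isSeparable A D Q hinj hQ M hM x hx
  refine ⟨θ, f, hθ, hr, fun g hg hgD => ?_⟩
  obtain ⟨y, rfl⟩ := Ideal.algebraMap_residueField_surjective M x
  rw [resMap_algebraMap] at hr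
  obtain ⟨x', hx'⟩ := hθ.exists_totInt_eq A D Q hinj hQ y hr
  have h1 : totFrac A D Q hinj hQ (x' : FractionRing D) = toFrac A Q θ := congrArg Subtype.val hx'
  have h2 := fixed_of_totFrac A D Q hinj hQ θ x' h1 g hg hgD
  have hQm : Q ≤ maximalIdeal S := le_maximalIdeal (Ideal.IsPrime.ne_top inferInstance)
  refine hθ.algEquiv_eq_of_residue g 1 ?_
  rw [AlgEquiv.one_apply, ← sub_eq_zero, ← map_sub, residue_eq_zero_iff]
  exact hQm h2

include A hM in
/-- Elements fixed by the automorphisms fixing `D` modulo `Q` give separable elements of the residue field. -/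
theorem exists_isSeparable_of_fixed [IsNoetherianRing A] [IsReduced S] (z : S)
    (hz : ∀ g ∈ stab (A := A) Q, (∀ d : D, g (algebraMap D S d) - algebraMap D S d ∈ Q) → g z - z ∈ Q) :
    ∃ x : M.ResidueField, IsSeparable (subK D M) x ∧
      resMap A D Q hinj hQ M hM x = residue _ (toInt A Q z) := by
  obtain ⟨x₁, hx₁, hx₁z⟩ := exists_totFrac_of_fixed A D Q hinj hQ z hz
  have hx₂ : IsIntegral D x₁ := hx₁.tower_top
  let y : integralClosure D (FractionRing D) := ⟨x₁, hx₂⟩
  have hy : totInt A D Q hinj hQ y = toInt A Q z := Subtype.ext hx₁z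
  have hr : resMap A D Q hinj hQ M hM (algebraMap _ M.ResidueField y) = residue _ (toInt A Q z) := by
    rw [resMap_algebraMap, hy]
  refine ⟨algebraMap _ M.ResidueField y, ?_, hr⟩
  obtain ⟨θ, f, hθ, hθz⟩ := exists_stage A (residue S z)
  let α : A →+* subK D M := ((subRes D M).comp (algebraMap A D)).codRestrict (subK D M)
    (fun a => Subfield.subset_closure ⟨_, rfl⟩)
  have hα : (resMap A D Q hinj hQ M hM).comp ((algebraMap (subK D M) M.ResidueField).comp α) =
      ((residue _).comp (toInt A Q)).comp (algebraMap A S) := by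
    ext a
    change resMap A D Q hinj hQ M hM (subRes D M (algebraMap A D a)) = _
    rw [resMap_sub, ← IsScalarTower.algebraMap_apply]
    rfl
  have hroot : aeval (algebraMap _ M.ResidueField y) (f.map α) = 0 := by
    refine (resMap A D Q hinj hQ M hM).injective ?_
    rw [map_zero, Polynomial.aeval_def, Polynomial.eval₂_map, Polynomial.hom_eval₂, hα, hr]
    have h1 : residue _ (toInt A Q z) = ((residue _).comp (toInt A Q)) z := rfl
    rw [h1, ← Polynomial.hom_eval₂]
    have h2 : eval₂ (algebraMap A S) z f ∈ maximalIdeal S := by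
      rw [← Polynomial.aeval_def, ← residue_eq_zero_iff, residue_aeval, ← hθz, ← residue_aeval, hθ.root, map_zero]
    exact (residue_eq_zero_iff _).mpr (map_nonunit (toInt A Q) _ h2)
  exact (hθ.separable.map).of_dvd (minpoly.dvd _ _ hroot)

end Res

end Main

end K143.SH
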