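import Groth.Agent.Hensel.K143.SHCorr

/-!
Open subgroups `N` of the Galois group of a strict henselization: the fixed ring is `A[θ]` for a stage `θ`.
-/

set_option autoImplicit false

universe u

namespace K143.SH

open IsLocalRing Polynomial

section Main

variable (A : Type u) {S : Type u} [CommRing A] [HenselianLocalRing A] [CommRing S] [IsLocalRing S] [Algebra A S]
  [IsLocalHom (algebraMap A S)] [h : Hensel.IsStrictHenselization A S]

/-- The residue field of the fixed ring of a subgroup `N`. -/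
def fixedField (N : Subgroup (S ≃ₐ[A] S)) : IntermediateField (ResidueField A) (ResidueField S) where
  carrier := {y | ∃ x : S, (∀ g ∈ N, g x = x) ∧ residue S x = y}
  mul_mem' := by
    rintro _ _ ⟨x, hx, rfl⟩ ⟨y, hy, rfl⟩
    exact ⟨x * y, fun g hg => by rw [map_mul, hx g hg, hy g hg], map_mul _ _ _⟩
  add_mem' := by
    rintro _ _ ⟨x, hx, rfl⟩ ⟨y, hy, rfl⟩
    exact ⟨x + y, fun g hg => by rw [map_add, hx g hg, hy g hg], map_add _ _ _⟩
  algebraMap_mem' := by
    intro r
    obtain ⟨a, rfl⟩ := residue_surjective r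
    exact ⟨algebraMap A S a, fun g _ => g.commutes a, rfl⟩
  inv_mem' := by
    rintro _ ⟨x, hx, rfl⟩
    by_cases h0 : residue S x = 0
    · exact ⟨0, fun g _ => map_zero g, by rw [h0, inv_zero, map_zero]⟩
    · rw [← ne_eq, residue_ne_zero_iff_isUnit] at h0
      obtain ⟨u, rfl⟩ := h0
      refine ⟨(↑u⁻¹ : S), fun g hg => ?_, ?_⟩
      · have h1 := hx g hg
        have h2 : g (u : S) * g (↑u⁻¹ : S) = 1 := by rw [← map_mul, Units.mul_inv, map_one]
        rw [h1, mul_comm] at h2
        exact (Units.eq_inv_of_mul_eq_one_right h2)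
      · refine eq_inv_of_mul_eq_one_left ?_
        rw [← map_mul, Units.inv_mul, map_one]

omit h in
theorem mem_fixedField (N : Subgroup (S ≃ₐ[A] S)) (y : ResidueField S) :
    y ∈ fixedField A N ↔ ∃ x : S, (∀ g ∈ N, g x = x) ∧ residue S x = y := Iff.rfl

theorem exists_stage_fixed [IsNoetherianRing A] (N : Subgroup (S ≃ₐ[A] S)) (s : Finset S)
    (hs : ∀ g : S ≃ₐ[A] S, (∀ x ∈ s, g x = x) → g ∈ N) :
    ∃ (θ : S) (f : A[X]), IsStage A θ f ∧ (∀ g ∈ N, g θ = θ) ∧
      ∀ x : S, (∀ g ∈ N, g x = x) → ∃ p : A[X], aeval θ p = x := by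
  classical
  have hSc : IsSepClosure (ResidueField A) (ResidueField S) := h.isSepClosure
  obtain ⟨θ₃, f₃, hθ₃, hs₃⟩ := exists_stage_finset A s
  have hN : ∀ g : S ≃ₐ[A] S, g θ₃ = θ₃ → g ∈ N := by
    intro g hg
    refine hs g fun x hx => ?_
    obtain ⟨p, rfl⟩ := hs₃ x hx
    rw [algEquiv_aeval, hg]
  -- the fixed field is contained in `k(θ₃)`
  have hle : fixedField A N ≤ IntermediateField.adjoin (ResidueField A) {residue S θ₃} := by
    rintro _ ⟨x, hx, rfl⟩
    rw [← InfiniteGalois.fixedField_fixingSubgroup (IntermediateField.adjoin (ResidueField A) {residue S θ₃}),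
      IntermediateField.mem_fixedField_iff]
    intro σ hσ
    obtain ⟨g, hg⟩ := exists_algEquiv A σ
    have h1 : residue S (g θ₃) = residue S θ₃ := by
      rw [hg]
      exact (IntermediateField.mem_fixingSubgroup_iff _ _).mp hσ _
        (IntermediateField.mem_adjoin_simple_self _ _)
    have h2 : g θ₃ = θ₃ := hθ₃.algEquiv_eq_of_residue g 1 h1
    rw [← hg, hx g (hN g h2)]
  have hfin : FiniteDimensional (ResidueField A) (IntermediateField.adjoin (ResidueField A) {residue S θ₃}) :=
    IntermediateField.adjoin.finiteDimensional hθ₃.isIntegral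
  have hfin2 : FiniteDimensional (ResidueField A) (fixedField A N) :=
    FiniteDimensional.of_injective (IntermediateField.inclusion hle).toLinearMap
      (IntermediateField.inclusion hle).injective
  have hsep : Algebra.IsSeparable (ResidueField A) (fixedField A N) :=
    Algebra.isSeparable_tower_bot_of_isSeparable (ResidueField A) (fixedField A N) (ResidueField S)
  obtain ⟨⟨_, ⟨x₀, hx₀, rfl⟩⟩, hα⟩ := Field.exists_primitive_element (ResidueField A) (fixedField A N)
  obtain ⟨θ, f, hθ, hθr⟩ := exists_stage A (residue S x₀)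
  have hθfix : ∀ g ∈ N, g θ = θ := by
    intro g hg
    have h1 : residue S (g θ) = residue S ((1 : S ≃ₐ[A] S) θ) := by
      rw [AlgEquiv.one_apply, hθr]
      conv_rhs => rw [← hx₀ g hg]
      rw [residue_algEquiv_eq_iff, hθr]
    exact hθ.algEquiv_eq_of_residue g 1 h1
  refine ⟨θ, f, hθ, hθfix, fun x hx => ?_⟩
  refine exists_aeval_of_fixed A N θ (fun x hx => ?_) hθfix x hx
  let y : fixedField A N := ⟨residue S x, ⟨x, hx, rfl⟩⟩
  have hy : y ∈ IntermediateField.adjoin (ResidueField A)
      ({(⟨residue S x₀, ⟨x₀, hx₀, rfl⟩⟩ : fixedField A N)} : Set (fixedField A N)) := by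
    rw [hα]; trivial
  rw [← IntermediateField.mem_toSubalgebra, IntermediateField.adjoin_simple_toSubalgebra_of_isAlgebraic
    (Algebra.IsAlgebraic.isAlgebraic _), Algebra.adjoin_singleton_eq_range_aeval] at hy
  obtain ⟨p, hp⟩ := hy
  obtain ⟨q, rfl⟩ := Polynomial.map_surjective (residue A) residue_surjective p
  refine ⟨q, ?_⟩
  have h1 := congrArg (algebraMap (fixedField A N) (ResidueField S)) hp
  change algebraMap (fixedField A N) (ResidueField S) (aeval _ _) = _ at h1
  rw [← Polynomial.aeval_algebraMap_apply] at h1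
  rw [residue_aeval, hθr]
  exact h1.symm

end Main

end K143.SH
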