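import Groth.Agent.Hensel.K143.SHDesc

/-!
The subgroup `resStab A D` of automorphisms of the strict henselization acting trivially on the residues of a
subring `D`, and its fixed ring.
-/

set_option autoImplicit false

universe u

namespace K143.SH

open IsLocalRing Polynomial

section Basic

variable (A D : Type u) {S : Type u} [CommRing A] [CommRing D] [CommRing S] [IsLocalRing S] [Algebra A S]
  [Algebra D S]

variable (S) in
/-- automorphisms acting trivially on the residues of `D` -/
def resStab : Subgroup (S ≃ₐ[A] S) where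
  carrier := {g | ∀ y : D, residue S (g (algebraMap D S y)) = residue S (algebraMap D S y)}
  one_mem' y := rfl
  mul_mem' {g g'} hg hg' y := by
    have h1 := hg' y
    rw [← residue_algEquiv_eq_iff g, ← AlgEquiv.mul_apply] at h1
    rw [h1, hg]
  inv_mem' {g} hg y := by
    have h1 := hg y
    rw [← residue_algEquiv_eq_iff g⁻¹, ← AlgEquiv.mul_apply, inv_mul_cancel, AlgEquiv.one_apply] at h1
    exact h1.symm

variable {A D} in
theorem mem_resStab {g : S ≃ₐ[A] S} :
    g ∈ resStab A D S ↔ ∀ y : D, residue S (g (algebraMap D S y)) = residue S (algebraMap D S y) := Iff.rfl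

/-- the fixed algebra of a subgroup -/
def fixedAlg (N : Subgroup (S ≃ₐ[A] S)) : Subalgebra A S where
  carrier := {x | ∀ g ∈ N, g x = x}
  mul_mem' {x y} hx hy g hg := by rw [map_mul, hx g hg, hy g hg]
  add_mem' {x y} hx hy g hg := by rw [map_add, hx g hg, hy g hg]
  algebraMap_mem' a g _ := g.commutes a

omit [IsLocalRing S] in
theorem mem_fixedAlg {N : Subgroup (S ≃ₐ[A] S)} {x : S} : x ∈ fixedAlg A N ↔ ∀ g ∈ N, g x = x := Iff.rfl

end Basic

section Stage

variable (A D : Type u) {S : Type u} [CommRing A] [IsLocalRing A] [CommRing D] [CommRing S] [IsLocalRing S]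
  [Algebra A S] [IsLocalHom (algebraMap A S)] [Algebra D S]

/-- Stages whose residue comes from `D` are fixed by `resStab A D`. -/
theorem IsStage.fixed_of_residue {θ : S} {f : A[X]} (hθ : IsStage A θ f) (d : D)
    (hd : residue S θ = residue S (algebraMap D S d)) (g : S ≃ₐ[A] S) (hg : g ∈ resStab A D S) : g θ = θ := by
  refine hθ.algEquiv_eq_of_residue g 1 ?_
  rw [AlgEquiv.one_apply, hd, ← hg d, residue_algEquiv_eq_iff, hd]

end Stage

section Main

variable (A D : Type u) {S : Type u} [CommRing A] [HenselianLocalRing A] [CommRing D] [CommRing S] [IsLocalRing S]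
  [Algebra A S] [IsLocalHom (algebraMap A S)] [h : Hensel.IsStrictHenselization A S] [Algebra A D] [Algebra D S]
  [IsScalarTower A D S]

variable (S) in
include h in
omit [Algebra A D] [IsScalarTower A D S] in
theorem isIntegral_over [Algebra A D] [IsScalarTower A D S] : Algebra.IsIntegral D S := by
  have := isIntegral_strict A S
  exact Algebra.IsIntegral.tower_top A

variable (S) in
include h in
theorem isIntegral_sub (hinj : Function.Injective (algebraMap D S)) : Algebra.IsIntegral A D := by
  have := isIntegral_strict A S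
  exact Algebra.IsIntegral.of_injective (IsScalarTower.toAlgHom A D S) hinj

include A h in
theorem isLocalHom_sub (hinj : Function.Injective (algebraMap D S)) : IsLocalHom (algebraMap D S) := by
  have := isIntegral_over A D S
  exact RingHom.IsIntegral.isLocalHom (algebraMap_isIntegral_iff.mpr this) hinj

include A h in
theorem isLocalRing_sub (hinj : Function.Injective (algebraMap D S)) : IsLocalRing D := by
  have := isLocalHom_sub A D hinj
  exact RingHom.domain_isLocalRing (algebraMap D S)

include h in
theorem henselianLocalRing_sub (hinj : Function.Injective (algebraMap D S)) : HenselianLocalRing D := by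
  have := isLocalRing_sub A D hinj
  have := isIntegral_sub A D S hinj
  exact henselianLocalRing_of_integral A D

include h in
/-- Stages whose residue comes from `D` lie in `D`. -/
theorem IsStage.exists_algebraMap_eq {θ : S} {f : A[X]} (hθ : IsStage A θ f)
    (hinj : Function.Injective (algebraMap D S)) (d : D)
    (hd : residue S θ = residue S (algebraMap D S d)) : ∃ d' : D, algebraMap D S d' = θ := by
  have := isLocalHom_sub A D hinj
  have := henselianLocalRing_sub A D hinj
  obtain ⟨r', -, hr'⟩ := hθ.exists_lift (algebraMap D S) (RingHom.id S)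
    (by rw [RingHom.id_comp, ← IsScalarTower.algebraMap_eq]) d hd.symm
  exact ⟨r', hr'⟩

/-- The residue field of `D` inside the residue field of `S`. -/
def resField (hinj : Function.Injective (algebraMap D S)) : IntermediateField (ResidueField A) (ResidueField S) where
  carrier := {y | ∃ d : D, residue S (algebraMap D S d) = y}
  mul_mem' := by
    rintro _ _ ⟨x, rfl⟩ ⟨y, rfl⟩
    exact ⟨x * y, by rw [map_mul, map_mul]⟩
  add_mem' := by
    rintro _ _ ⟨x, rfl⟩ ⟨y, rfl⟩
    exact ⟨x + y, by rw [map_add, map_add]⟩
  algebraMap_mem' := by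
    intro r
    obtain ⟨a, rfl⟩ := residue_surjective r
    refine ⟨algebraMap A D a, ?_⟩
    rw [← IsScalarTower.algebraMap_apply]
    rfl
  inv_mem' := by
    rintro _ ⟨x, rfl⟩
    by_cases h0 : residue S (algebraMap D S x) = 0
    · exact ⟨0, by rw [h0, inv_zero, map_zero, map_zero]⟩
    · have := isLocalHom_sub A D hinj
      rw [← ne_eq, residue_ne_zero_iff_isUnit] at h0
      obtain ⟨u, rfl⟩ := isUnit_of_map_unit (algebraMap D S) x h0
      refine ⟨(↑u⁻¹ : D), ?_⟩
      refine eq_inv_of_mul_eq_one_left ?_
      rw [← map_mul, ← map_mul, Units.inv_mul, map_one, map_one]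

/-- The residues of elements fixed by `resStab A D` come from `D`. -/
theorem exists_residue_of_fixed (hinj : Function.Injective (algebraMap D S)) (x : S)
    (hx : ∀ g ∈ resStab A D S, g x = x) : ∃ d : D, residue S (algebraMap D S d) = residue S x := by
  have hSc : IsSepClosure (ResidueField A) (ResidueField S) := h.isSepClosure
  change residue S x ∈ resField A D hinj
  rw [← InfiniteGalois.fixedField_fixingSubgroup (resField A D hinj), IntermediateField.mem_fixedField_iff]
  intro σ hσ
  obtain ⟨g, hg⟩ := exists_algEquiv A σ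
  rw [← hg, hx g]
  intro y
  rw [hg]
  exact (IntermediateField.mem_fixingSubgroup_iff _ _).mp hσ _ ⟨y, rfl⟩

include h in
theorem exists_stage_of_residue (x : S) : ∃ (θ : S) (f : A[X]), IsStage A θ f ∧ residue S θ = residue S x :=
  exists_stage A (residue S x)

/-- Elements fixed by a subgroup lie in `A[θ]` for a fixed stage `θ`. -/
theorem exists_stage_aeval_of_fixed [IsNoetherianRing A] (N : Subgroup (S ≃ₐ[A] S)) (x : S)
    (hx : ∀ g ∈ N, g x = x) :
    ∃ (θ : S) (f : A[X]) (p : A[X]), IsStage A θ f ∧ (∀ g ∈ N, g θ = θ) ∧ aeval θ p = x := by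
  let N' : Subgroup (S ≃ₐ[A] S) :=
    { carrier := {g | g x = x}
      one_mem' := rfl
      mul_mem' := by
        intro a b (ha : a x = x) (hb : b x = x)
        change a (b x) = x
        rw [hb, ha]
      inv_mem' := by
        intro a (ha : a x = x)
        change a.symm x = x
        rw [AlgEquiv.symm_apply_eq, ha] }
  obtain ⟨θ, f, hθ, h1, h2⟩ := exists_stage_fixed A N' {x} (fun g hg => hg x (Finset.mem_singleton_self _))
  obtain ⟨p, hp⟩ := h2 x (fun g hg => hg)
  exact ⟨θ, f, p, hθ, fun g hg => h1 g (hx g hg), hp⟩

/-- Elements fixed by `resStab A D` lie in `D`. -/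
theorem exists_algebraMap_eq_of_fixed [IsNoetherianRing A] (hinj : Function.Injective (algebraMap D S)) (x : S)
    (hx : ∀ g ∈ resStab A D S, g x = x) : ∃ d : D, algebraMap D S d = x := by
  obtain ⟨θ, f, p, hθ, h1, rfl⟩ := exists_stage_aeval_of_fixed A (resStab A D S) x hx
  obtain ⟨d, hd⟩ := exists_residue_of_fixed A D hinj θ h1
  obtain ⟨d', rfl⟩ := hθ.exists_algebraMap_eq A D hinj d hd.symm
  exact ⟨aeval d' p, (Polynomial.aeval_algebraMap_apply _ _ _).symm⟩

end Main

end K143.SH
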