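import Groth.Agent.Hensel.Exist
import Groth.Agent.Hensel.EtaleNbhd
import Groth.Agent.Hensel.FiniteEtaleLift
import Groth.Agent.Hensel.K143.EssEt
import Groth.Agent.S0539
import Groth.Agent.S0505
import Mathlib.FieldTheory.PrimitiveElement
import Mathlib.FieldTheory.Separable
import Mathlib.RingTheory.Filtration

/-!
Strict henselizations `S` of a henselian local ring `A`, in terms of simple roots ("stages") `θ ∈ S`:
every finite subset of `S` lies in `A[θ]` for a stage `θ`, where `A[θ]` is finite étale local.
-/

set_option autoImplicit false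

universe u

namespace K143.SH

open IsLocalRing Polynomial

/-- Simple roots in a local ring are determined by their residue. -/
theorem root_unique {T : Type*} [CommRing T] [IsLocalRing T] (f : T[X]) (x y : T)
    (hx : f.eval x = 0) (hy : f.eval y = 0) (hu : IsUnit (f.derivative.eval x))
    (h : residue T x = residue T y) : x = y := by
  obtain ⟨k, hk⟩ := Polynomial.binomExpansion f x (y - x)
  rw [add_sub_cancel, hy, hx, zero_add] at hk
  have h1 : (f.derivative.eval x + k * (y - x)) * (y - x) = 0 := by rw [hk]; ring
  have h2 : y - x ∈ maximalIdeal T := by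
    rw [← residue_eq_zero_iff, map_sub, h, sub_self]
  have h3 : IsUnit (f.derivative.eval x + k * (y - x)) := by
    rw [← notMem_maximalIdeal]
    intro h4
    have h5 : f.derivative.eval x ∈ maximalIdeal T := by
      have := (maximalIdeal T).sub_mem h4 ((maximalIdeal T).mul_mem_left k h2)
      simpa using this
    exact (notMem_maximalIdeal.mpr hu) h5
  exact (sub_eq_zero.mp ((h3.mul_right_eq_zero).mp h1)).symm

variable (A : Type u) {S : Type u} [CommRing A] [IsLocalRing A] [CommRing S] [IsLocalRing S] [Algebra A S]
  [IsLocalHom (algebraMap A S)]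

/-- `θ` is a root of the monic polynomial `f`, which reduces to the minimal polynomial of the residue
of `θ`, and this polynomial is separable. -/
structure IsStage (θ : S) (f : A[X]) : Prop where
  monic : f.Monic
  root : aeval θ f = 0
  map_eq : f.map (residue A) = minpoly (ResidueField A) (residue S θ)
  sep : (f.map (residue A)).Separable

variable {A}

theorem residue_aeval (θ : S) (p : A[X]) :
    residue S (aeval θ p) = aeval (residue S θ) (p.map (residue A)) := by
  have h1 : (residue S).comp (algebraMap A S) = (algebraMap (ResidueField A) (ResidueField S)).comp (residue A) := rfl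
  rw [aeval_def, aeval_def, Polynomial.eval₂_map, Polynomial.hom_eval₂, h1]

namespace IsStage

variable {θ : S} {f : A[X]} (h : IsStage A θ f)
include h

theorem eval_root : (f.map (algebraMap A S)).eval θ = 0 := by
  rw [Polynomial.eval_map_algebraMap]; exact h.root

theorem isUnit_derivative : IsUnit (aeval θ (derivative f)) := by
  rw [← notMem_maximalIdeal, ← residue_eq_zero_iff, residue_aeval, ← Polynomial.derivative_map]
  have h1 : aeval (residue S θ) (f.map (residue A)) = 0 := by
    rw [← residue_aeval, h.root, map_zero]
  exact h.sep.aeval_derivative_ne_zero h1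

theorem isUnit_eval_derivative :
    IsUnit ((f.map (algebraMap A S)).derivative.eval θ) := by
  rw [Polynomial.derivative_map, Polynomial.eval_map_algebraMap]
  exact h.isUnit_derivative

theorem isIntegral : IsIntegral (ResidueField A) (residue S θ) :=
  ⟨f.map (residue A), h.monic.map _, by
    change aeval (residue S θ) (f.map (residue A)) = 0
    rw [← residue_aeval, h.root, map_zero]⟩

theorem irreducible : Irreducible (f.map (residue A)) := by
  rw [h.map_eq]; exact minpoly.irreducible h.isIntegral

/-- uniqueness -/
theorem eq_of_residue_eq (y : S) (hy : aeval y f = 0) (hr : residue S θ = residue S y) : θ = y :=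
  root_unique (f.map (algebraMap A S)) θ y h.eval_root
    (by rw [Polynomial.eval_map_algebraMap]; exact hy) h.isUnit_eval_derivative hr

/-- The étale algebra attached to a stage. -/
noncomputable def hom : AdjoinRoot f →ₐ[A] S :=
  AdjoinRoot.liftAlgHom f (Algebra.ofId A S) θ h.root

theorem hom_mk (p : A[X]) : h.hom (AdjoinRoot.mk f p) = aeval θ p := rfl

theorem separable : f.Separable := by
  refine Groth.Agent.Hensel.FiniteEtaleLift.isCoprime_of_isCoprime_residue f (derivative f) h.monic ?_
  rw [← Polynomial.derivative_map]
  exact h.sep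

theorem etale : Algebra.Etale A (AdjoinRoot f) :=
  Groth.Agent.Hensel.FiniteEtaleLift.etale_adjoinRoot f h.monic h.separable

theorem finite : Module.Finite A (AdjoinRoot f) := h.monic.finite_adjoinRoot

theorem free : Module.Free A (AdjoinRoot f) := h.monic.free_adjoinRoot

theorem finrank : Module.finrank A (AdjoinRoot f) = f.natDegree := by
  rw [(AdjoinRoot.powerBasis' h.monic).finrank, AdjoinRoot.powerBasis'_dim]

/-- the map to the field generated by the residue of `θ` -/
theorem mem_map_of_aeval_eq_zero (p : A[X]) (hp : residue S (aeval θ p) = 0) :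
    AdjoinRoot.mk f p ∈ (maximalIdeal A).map (algebraMap A (AdjoinRoot f)) := by
  rw [residue_aeval] at hp
  obtain ⟨q, hq⟩ := minpoly.dvd _ _ hp
  obtain ⟨r, hr⟩ := Polynomial.map_surjective (residue A) residue_surjective q
  have h1 : (p - f * r).map (residue A) = 0 := by
    rw [Polynomial.map_sub, Polynomial.map_mul, hr, h.map_eq, hq, sub_self]
  have h2 : AdjoinRoot.mk f p = AdjoinRoot.mk f (p - f * r) := by
    rw [map_sub, map_mul, AdjoinRoot.mk_self, zero_mul, sub_zero]
  rw [h2]
  have h3 : p - f * r ∈ (maximalIdeal A).map (C : A →+* A[X]) := by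
    rw [Ideal.mem_map_C_iff]
    intro n
    have := congrArg (fun t => t.coeff n) h1
    simp only [Polynomial.coeff_map, Polynomial.coeff_zero] at this
    exact (residue_eq_zero_iff _).mp this
  have h4 := Ideal.mem_map_of_mem (AdjoinRoot.mk f) h3
  rw [Ideal.map_map] at h4
  exact h4

theorem isLocalRing : IsLocalRing (AdjoinRoot f) := by
  have := h.finite
  have : Fact (Irreducible (f.map (residue A))) := ⟨h.irreducible⟩
  let g : AdjoinRoot f →+* AdjoinRoot (f.map (residue A)) :=
    AdjoinRoot.lift ((AdjoinRoot.of _).comp (residue A)) (AdjoinRoot.root (f.map (residue A))) (by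
      rw [← Polynomial.eval₂_map]
      exact AdjoinRoot.eval₂_root _)
  have hg : ∀ p : A[X], g (AdjoinRoot.mk f p) = AdjoinRoot.mk (f.map (residue A)) (p.map (residue A)) := by
    intro p
    rw [AdjoinRoot.lift_mk, ← Polynomial.eval₂_map]
    have := AdjoinRoot.aeval_eq (f := f.map (residue A)) (p.map (residue A))
    exact this
  refine K143.LocalField.isLocalRing A (AdjoinRoot f) g ?_ ?_
  · intro x
    obtain ⟨q, rfl⟩ := AdjoinRoot.mk_surjective x
    obtain ⟨p, rfl⟩ := Polynomial.map_surjective (residue A) residue_surjective q
    exact ⟨AdjoinRoot.mk f p, hg p⟩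
  · intro x hx
    obtain ⟨p, rfl⟩ := AdjoinRoot.mk_surjective x
    rw [hg, AdjoinRoot.mk_eq_zero] at hx
    refine h.mem_map_of_aeval_eq_zero p ?_
    rw [residue_aeval]
    obtain ⟨q, hq⟩ := hx
    have h1 : aeval (residue S θ) (f.map (residue A)) = 0 := by
      rw [← residue_aeval, h.root, map_zero]
    rw [hq, map_mul, h1, zero_mul]

theorem isLocalHom_hom : IsLocalHom h.hom.toRingHom := by
  have h0 := h.isLocalRing
  have h1 := h.finite
  constructor
  intro x hx
  obtain ⟨p, rfl⟩ := AdjoinRoot.mk_surjective x
  by_contra hn
  have h2 : AdjoinRoot.mk f p ∈ maximalIdeal (AdjoinRoot f) := hn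
  -- the maximal ideal is extended
  have h3 : maximalIdeal (AdjoinRoot f) ≤ (maximalIdeal A).map (algebraMap A (AdjoinRoot f)) := by
    have h4 : ((maximalIdeal S).comap h.hom.toRingHom).IsPrime := Ideal.IsPrime.comap _
    have h5 : ((maximalIdeal S).comap h.hom.toRingHom) ≤ (maximalIdeal A).map (algebraMap A (AdjoinRoot f)) := by
      intro y hy
      obtain ⟨r, rfl⟩ := AdjoinRoot.mk_surjective y
      refine h.mem_map_of_aeval_eq_zero r ?_
      exact (residue_eq_zero_iff _).mpr hy
    have h6 : ((maximalIdeal S).comap h.hom.toRingHom).IsMaximal := by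
      apply Ideal.isMaximal_of_isIntegral_of_isMaximal_comap (R := A)
      have h7 : ((maximalIdeal S).comap h.hom.toRingHom).comap (algebraMap A (AdjoinRoot f)) =
          maximalIdeal A := by
        rw [Ideal.comap_comap]
        have h8 : h.hom.toRingHom.comp (algebraMap A (AdjoinRoot f)) = algebraMap A S := h.hom.comp_algebraMap
        rw [h8]
        exact IsLocalRing.maximalIdeal_comap _
      rw [h7]
      infer_instance
    rw [← IsLocalRing.eq_maximalIdeal h6]
    exact h5
  have h7 := Ideal.mem_map_of_mem h.hom.toRingHom (h3 h2)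
  rw [Ideal.map_map] at h7
  have h8 : h.hom.toRingHom.comp (algebraMap A (AdjoinRoot f)) = algebraMap A S := h.hom.comp_algebraMap
  rw [h8] at h7
  exact (IsLocalRing.map_maximalIdeal_le (algebraMap A S) h7 : _) hx

end IsStage

end K143.SH
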