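import Groth.Agent.Hensel.K143.SHNorm
import Groth.Agent.Hensel.K143.SHExt

/-!
Subalgebras `D` of the strict henselization `S` whose residue field is separably closed in the residue fields of
the normalization of `D`.
-/

set_option autoImplicit false

universe u

namespace K143.SH

open IsLocalRing Polynomial

section Main

variable (A D : Type u) {S : Type u} [CommRing A] [HenselianLocalRing A] [CommRing D] [CommRing S] [IsLocalRing S]
  [Algebra A S] [IsLocalHom (algebraMap A S)] [h : Hensel.IsStrictHenselization A S] [Algebra A D] [Algebra D S]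
  [IsScalarTower A D S]

/-- The subgroup of the automorphisms stabilizing `Q` and fixing `D` modulo `Q`. -/
def quotStab (Q : Ideal S) : Subgroup (S ≃ₐ[A] S) where
  carrier := {g | g ∈ stab (A := A) Q ∧ ∀ d : D, g (algebraMap D S d) - algebraMap D S d ∈ Q}
  one_mem' := ⟨one_mem _, fun d => by simp⟩
  mul_mem' := by
    rintro a b ⟨ha, ha'⟩ ⟨hb, hb'⟩
    refine ⟨mul_mem ha hb, fun d => ?_⟩
    have h1 : a (b (algebraMap D S d)) - a (algebraMap D S d) ∈ Q := by
      rw [← map_sub]
      exact (ha _).mpr (hb' d)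
    have h2 := Q.add_mem h1 (ha' d)
    rw [sub_add_sub_cancel] at h2
    exact h2
  inv_mem' := by
    rintro a ⟨ha, ha'⟩
    refine ⟨inv_mem ha, fun d => ?_⟩
    rw [← ha, map_sub, ← AlgEquiv.mul_apply, mul_inv_cancel, AlgEquiv.one_apply, ← neg_sub]
    exact Q.neg_mem (ha' d)

omit [HenselianLocalRing A] [IsLocalRing S] [IsLocalHom (algebraMap A S)] h [Algebra A D] [IsScalarTower A D S] in
theorem mem_quotStab {Q : Ideal S} {g : S ≃ₐ[A] S} :
    g ∈ quotStab A D Q ↔ g ∈ stab (A := A) Q ∧ ∀ d : D, g (algebraMap D S d) - algebraMap D S d ∈ Q := Iff.rfl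

include h in
/-- If `Q` is extended from the unramified algebra `D`, automorphisms trivial on residues of `D` stabilize `Q`. -/
theorem resStab_le_quotStab_of_extended [IsNoetherianRing A] [Algebra.FormallyUnramified A D] (Q : Ideal S)
    (hext : Q = Ideal.map (algebraMap D S) (Q.comap (algebraMap D S))) :
    resStab A D S ≤ quotStab A D Q := by
  have hSN : IsNoetherianRing S := (Groth.Agent.S0540.result A S).mp inferInstance
  have h1 : ∀ g ∈ resStab A D S, ∀ z ∈ Q, g z ∈ Q := by
    intro g hg z hz
    have h2 : Q ≤ Q.comap (g : S →+* S) := by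
      conv_lhs => rw [hext]
      rw [Ideal.map_le_iff_le_comap]
      intro y hy
      change g (algebraMap D S y) ∈ Q
      rw [algEquiv_algebraMap_eq A g hg y]
      exact hy
    exact h2 hz
  intro g hg
  refine ⟨fun z => ⟨fun hz => ?_, h1 g hg z⟩, fun d => ?_⟩
  · have h3 := h1 g⁻¹ (inv_mem hg) _ hz
    rwa [← AlgEquiv.mul_apply, inv_mul_cancel, AlgEquiv.one_apply] at h3
  · rw [algEquiv_algebraMap_eq A g hg d, sub_self]
    exact Q.zero_mem

theorem residue_injective_toInt (Q : Ideal S) [Q.IsPrime] (z z' : S)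
    (hz : residue _ (toInt A Q z) = residue _ (toInt A Q z')) : residue S z = residue S z' := by
  have h1 : ResidueField.map (toInt A Q) (residue S z) = ResidueField.map (toInt A Q) (residue S z') := hz
  exact (ResidueField.map (toInt A Q)).injective h1

/-- If the residue field of `D` is separably closed in the residue field of the maximal ideal attached to `Q`,
the elements fixed by `quotStab A D Q` have residues in `D`. -/
theorem exists_residue_of_fixed_of_bot [IsNoetherianRing A] [IsReduced S]
    (hinj : Function.Injective (algebraMap D S)) (Q : Ideal S) [Q.IsPrime] (hQ : Q ∈ minimalPrimes S)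
    (M : Ideal (integralClosure D (FractionRing D))) [M.IsPrime] (hM : maxOf A D Q hinj hQ = M)
    (hbot : ∀ x : M.ResidueField, IsSeparable (subK D M) x → x ∈ subK D M) (z : S)
    (hz : ∀ g ∈ quotStab A D Q, g z = z) : ∃ d : D, residue S (algebraMap D S d) = residue S z := by
  obtain ⟨x, hx, hxz⟩ := exists_isSeparable_of_fixed A D Q hinj hQ M hM z (fun g hg hgD => by
    rw [hz g ⟨hg, hgD⟩, sub_self]
    exact Q.zero_mem)
  obtain ⟨d, rfl⟩ := (mem_subK_iff A D Q hinj hQ M hM x).mp (hbot x hx)
  rw [resMap_sub] at hxz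
  exact ⟨d, residue_injective_toInt A Q _ _ hxz⟩

/-- Elements fixed by `quotStab A D Q` are fixed by `resStab A D S` if their residues come from `D`. -/
theorem fixed_of_fixed_quotStab [IsNoetherianRing A] (Q : Ideal S)
    (hres : ∀ z : S, (∀ g ∈ quotStab A D Q, g z = z) → ∃ d : D, residue S (algebraMap D S d) = residue S z)
    (z : S) (hz : ∀ g ∈ quotStab A D Q, g z = z) (g : S ≃ₐ[A] S) (hg : g ∈ resStab A D S) : g z = z := by
  obtain ⟨θ, f, p, hθ, hθfix, rfl⟩ := exists_stage_aeval_of_fixed A (quotStab A D Q) z hz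
  obtain ⟨d, hd⟩ := hres θ hθfix
  rw [algEquiv_aeval, hθ.fixed_of_residue A D d hd.symm g hg]

theorem resStab_le_stab [IsNoetherianRing A] (Q : Ideal S) (hQ : Q ∈ minimalPrimes S)
    (hres : ∀ z : S, (∀ g ∈ quotStab A D Q, g z = z) → ∃ d : D, residue S (algebraMap D S d) = residue S z) :
    resStab A D S ≤ stab (A := A) Q := by
  have hSN : IsNoetherianRing S := (Groth.Agent.S0540.result A S).mp inferInstance
  obtain ⟨t, ht, htfix, htsep⟩ := exists_separating_fixed A Q hQ
  intro g hg
  by_contra hgs
  have h1 := htsep g hgs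
  rw [fixed_of_fixed_quotStab A D Q hres t (fun g hg => htfix g hg.1) g hg] at h1
  exact ht h1

theorem algEquiv_algebraMap_eq_of_res [IsNoetherianRing A] [IsReduced S]
    (hres : ∀ Q ∈ minimalPrimes S, ∀ z : S, (∀ g ∈ quotStab A D Q, g z = z) →
      ∃ d : D, residue S (algebraMap D S d) = residue S z)
    (d : D) (g : S ≃ₐ[A] S) (hg : g ∈ resStab A D S) : g (algebraMap D S d) = algebraMap D S d := by
  have h2 : g (algebraMap D S d) - algebraMap D S d ∈ nilradical S := by
    rw [nilradical, ← Ideal.sInf_minimalPrimes, Ideal.mem_sInf]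
    intro Q hQ
    obtain ⟨y, hy, hyd⟩ := exists_fixed_sub_mem A (quotStab A D Q) Q (algebraMap D S d) (fun g hg => hg.2 d)
    have h3 := fixed_of_fixed_quotStab A D Q (hres Q hQ) y hy g hg
    have h4 : g (algebraMap D S d) - algebraMap D S d =
        (y - algebraMap D S d) - g (y - algebraMap D S d) := by
      rw [map_sub, h3]; ring
    rw [h4]
    exact Q.sub_mem hyd ((resStab_le_stab A D Q hQ (hres Q hQ) hg _).mpr hyd)
  rw [nilradical_eq_zero, Ideal.zero_eq_bot, Ideal.mem_bot, sub_eq_zero] at h2
  exact h2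

end Main

end K143.SH
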