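import Groth.Agent.Hensel.K143.SHFix
import Groth.Agent.S0540
import Mathlib.RingTheory.Ideal.MinimalPrime.Noetherian

/-!
The stabilizer of a minimal prime `Q` of the strict henselization `S` of a henselian Noetherian local ring `A`;
elements of `S/Q` fixed by it are fractions of elements of `A`.
-/

set_option autoImplicit false

universe u

namespace K143.SH

open IsLocalRing Polynomial

section Stab

variable {A : Type u} {S : Type u} [CommRing A] [CommRing S] [Algebra A S]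

/-- The stabilizer of an ideal. -/
def stab (Q : Ideal S) : Subgroup (S ≃ₐ[A] S) where
  carrier := {g | ∀ x, g x ∈ Q ↔ x ∈ Q}
  one_mem' x := Iff.rfl
  mul_mem' {g g'} hg hg' x := (hg (g' x)).trans (hg' x)
  inv_mem' {g} hg x := by
    have := hg (g⁻¹ x)
    rw [AlgEquiv.aut_inv] at this ⊢
    rw [AlgEquiv.apply_symm_apply] at this
    exact this.symm

theorem mem_stab {Q : Ideal S} {g : S ≃ₐ[A] S} : g ∈ stab Q ↔ ∀ x, g x ∈ Q ↔ x ∈ Q := Iff.rfl

/-- the conjugate of an ideal -/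
def conj (g : S ≃ₐ[A] S) (Q : Ideal S) : Ideal S := Q.comap (g : S →+* S)

theorem mem_conj {g : S ≃ₐ[A] S} {Q : Ideal S} {x : S} : x ∈ conj g Q ↔ g x ∈ Q := Iff.rfl

theorem mem_stab_iff_conj {Q : Ideal S} {g : S ≃ₐ[A] S} : g ∈ stab Q ↔ conj g Q = Q := by
  constructor
  · intro h
    ext x
    exact h x
  · intro h x
    change x ∈ conj g Q ↔ x ∈ Q
    rw [h]

theorem conj_mul (g g' : S ≃ₐ[A] S) (Q : Ideal S) : conj (g * g') Q = conj g' (conj g Q) := rfl

theorem conj_mem_minimalPrimes (g : S ≃ₐ[A] S) {Q : Ideal S} (hQ : Q ∈ minimalPrimes S) :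
    conj g Q ∈ minimalPrimes S := by
  have hQp : Q.IsPrime := hQ.1.1
  refine ⟨⟨Ideal.comap_isPrime _ _, bot_le⟩, ?_⟩
  rintro P ⟨hP, -⟩ hle
  have h1 : conj g.symm P ≤ Q := by
    intro x hx
    have := hle hx
    rw [mem_conj] at this
    simpa using this
  have h2 : Q ≤ conj g.symm P := hQ.2 ⟨Ideal.comap_isPrime _ _, bot_le⟩ h1
  intro x hx
  have := h2 hx
  rw [mem_conj] at this
  simpa using this

theorem conj_eq_iff (g g' : S ≃ₐ[A] S) (Q : Ideal S) : conj g⁻¹ Q = conj g'⁻¹ Q ↔ g⁻¹ * g' ∈ stab Q := by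
  rw [mem_stab_iff_conj, conj_mul]
  constructor
  · intro h
    rw [h, ← conj_mul]
    simp only [inv_mul_cancel]
    rfl
  · intro h
    calc conj g⁻¹ Q = conj (g' * g'⁻¹) (conj g⁻¹ Q) := by rw [mul_inv_cancel]; rfl
      _ = conj g'⁻¹ (conj g' (conj g⁻¹ Q)) := conj_mul _ _ _
      _ = conj g'⁻¹ Q := by rw [h]

theorem finite_quot_stab [IsNoetherianRing S] (Q : Ideal S) (hQ : Q ∈ minimalPrimes S) :
    Finite ((S ≃ₐ[A] S) ⧸ (stab (A := A) Q)) := by
  have hfin : Finite (minimalPrimes S) := (minimalPrimes.finite_of_isNoetherianRing S).to_subtype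
  refine Finite.of_injective (β := minimalPrimes S)
    (Quotient.lift (fun g : S ≃ₐ[A] S => (⟨conj g⁻¹ Q, conj_mem_minimalPrimes _ hQ⟩ : minimalPrimes S)) ?_) ?_
  · intro g g' hgg
    rw [← Quotient.eq_iff_equiv] at hgg
    have : g⁻¹ * g' ∈ stab Q := QuotientGroup.eq.mp hgg
    exact Subtype.ext ((conj_eq_iff g g' Q).mpr this)
  · intro a b
    induction a using Quotient.inductionOn with | _ g
    induction b using Quotient.inductionOn with | _ g'
    intro hab
    have h1 := congrArg Subtype.val hab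
    exact QuotientGroup.eq.mpr ((conj_eq_iff g g' Q).mp h1)

theorem exists_separating [IsNoetherianRing S] (Q : Ideal S) (hQ : Q ∈ minimalPrimes S) :
    ∃ t : S, t ∉ Q ∧ ∀ g : S ≃ₐ[A] S, g ∉ stab Q → g t ∈ Q := by
  classical
  have hQp : Q.IsPrime := hQ.1.1
  have hfin : (minimalPrimes S).Finite := minimalPrimes.finite_of_isNoetherianRing S
  have h1 : ¬ ((hfin.toFinset.erase Q).inf id ≤ Q) := by
    intro hle
    obtain ⟨P, hP, hPQ⟩ := (Ideal.IsPrime.inf_le' hQp).1 hle
    obtain ⟨hne, hP⟩ := Finset.mem_erase.1 hP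
    have hP' := hfin.mem_toFinset.1 hP
    exact hne (le_antisymm hPQ (hQ.2 ⟨hP'.1.1, bot_le⟩ hPQ))
  obtain ⟨t, ht, htQ⟩ := SetLike.not_le_iff_exists.mp h1
  refine ⟨t, htQ, fun g hg => ?_⟩
  have h2 : (hfin.toFinset.erase Q).inf id ≤ conj g Q :=
    Finset.inf_le (f := id) (Finset.mem_erase.2 ⟨fun h => hg (mem_stab_iff_conj.mpr h),
      hfin.mem_toFinset.2 (conj_mem_minimalPrimes g hQ)⟩)
  exact h2 ht

end Stab

section Main

variable (A : Type u) {S : Type u} [CommRing A] [HenselianLocalRing A] [CommRing S] [IsLocalRing S] [Algebra A S]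
  [IsLocalHom (algebraMap A S)] [h : Hensel.IsStrictHenselization A S]

include h in
theorem finite_orbit (x : S) : (Set.range fun g : S ≃ₐ[A] S => g x).Finite := by
  obtain ⟨θ, f, hθ, hs⟩ := exists_stage_finset A {x}
  obtain ⟨p, rfl⟩ := hs x (Finset.mem_singleton_self _)
  refine (hθ.finite_orbit.image (fun y => aeval y p)).subset ?_
  rintro _ ⟨g, rfl⟩
  exact ⟨g θ, ⟨g, rfl⟩, (algEquiv_aeval g θ p).symm⟩

/-- A separating element fixed by the stabilizer. -/
theorem exists_separating_fixed [IsNoetherianRing S] (Q : Ideal S) (hQ : Q ∈ minimalPrimes S) :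
    ∃ t : S, t ∉ Q ∧ (∀ g ∈ stab (A := A) Q, g t = t) ∧ ∀ g : S ≃ₐ[A] S, g ∉ stab Q → g t ∈ Q := by
  classical
  have hQp : Q.IsPrime := hQ.1.1
  obtain ⟨t₀, ht₀, ht₀'⟩ := exists_separating (A := A) Q hQ
  let O : Set S := Set.range fun g : stab (A := A) Q => (g : S ≃ₐ[A] S) t₀
  have hO : O.Finite := (finite_orbit A t₀).subset (by
    rintro _ ⟨n, rfl⟩
    exact ⟨n, rfl⟩)
  have : Fintype O := hO.fintype
  refine ⟨∏ i : O, (i : S), ?_, ?_, ?_⟩
  · intro hmem
    obtain ⟨⟨_, ⟨g, rfl⟩⟩, -, hg⟩ := (hQp.prod_mem_iff).mp hmem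
    exact ht₀ ((g.2 t₀).mp hg)
  · intro g hg
    have hact : ∀ i : O, g i ∈ O := by
      rintro ⟨_, ⟨n, rfl⟩⟩
      exact ⟨⟨g, hg⟩ * n, rfl⟩
    have hinj : Function.Injective (fun i : O => (⟨g i, hact i⟩ : O)) := by
      intro i j hij
      have := congrArg Subtype.val hij
      exact Subtype.ext (g.injective this)
    have hbij := Finite.injective_iff_bijective.mp hinj
    rw [map_prod]
    exact Function.Bijective.prod_comp hbij (fun i : O => (i : S))
  · intro g hg
    rw [map_prod]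
    have h1 := ht₀' g hg
    exact Ideal.mem_of_dvd _ (Finset.dvd_prod_of_mem (fun i : O => g (i : S)) (Finset.mem_univ (⟨t₀, ⟨1, rfl⟩⟩ : O))) h1

/-- Elements fixed by the stabilizer modulo `Q` are fractions of elements of `A` modulo `Q`. -/
theorem exists_frac_of_fixed [IsNoetherianRing A] (Q : Ideal S) (hQ : Q ∈ minimalPrimes S) (x : S)
    (hx : ∀ g ∈ stab (A := A) Q, g x - x ∈ Q) :
    ∃ a b : A, algebraMap A S b ∉ Q ∧ algebraMap A S b * x - algebraMap A S a ∈ Q := by
  classical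
  have hSN : IsNoetherianRing S := (Groth.Agent.S0540.result A S).mp inferInstance
  have hQp : Q.IsPrime := hQ.1.1
  have hfq := finite_quot_stab (A := A) Q hQ
  cases nonempty_fintype ((S ≃ₐ[A] S) ⧸ (stab (A := A) Q))
  obtain ⟨y, hy, hyx⟩ := exists_fixed_sub_mem A (stab Q) Q x hx
  obtain ⟨t, ht, htfix, htsep⟩ := exists_separating_fixed A Q hQ
  have key : ∀ z : S, (∀ g ∈ stab (A := A) Q, g z = z) → (∀ g : S ≃ₐ[A] S, g ∉ stab Q → g z ∈ Q) →
      ∃ a : A, algebraMap A S a - z ∈ Q := by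
    intro z hz hz'
    let F : (S ≃ₐ[A] S) ⧸ (stab (A := A) Q) → S := Quotient.lift (fun g : S ≃ₐ[A] S => g z) (by
      intro g g' hgg
      rw [← Quotient.eq_iff_equiv] at hgg
      have h1 : g⁻¹ * g' ∈ stab Q := QuotientGroup.eq.mp hgg
      have h2 := hz _ h1
      have h3 := congrArg g h2
      rw [AlgEquiv.mul_apply, ← AlgEquiv.mul_apply g g⁻¹, mul_inv_cancel, AlgEquiv.one_apply] at h3
      exact h3.symm)
    have hF : ∀ g : S ≃ₐ[A] S, F (QuotientGroup.mk g) = g z := fun g => rfl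
    obtain ⟨a, ha⟩ := mem_range_of_fixed A (∑ c, F c) (fun g => by
      rw [map_sum]
      refine Eq.trans ?_ (Equiv.sum_comp (MulAction.toPerm g) F)
      refine Finset.sum_congr rfl fun c _ => ?_
      induction c using Quotient.inductionOn with | _ g'
      rfl)
    refine ⟨a, ?_⟩
    rw [ha, ← Finset.add_sum_erase _ _ (Finset.mem_univ (QuotientGroup.mk 1)), hF, AlgEquiv.one_apply,
      add_sub_cancel_left]
    refine Q.sum_mem fun c hc => ?_
    obtain ⟨hne, -⟩ := Finset.mem_erase.mp hc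
    induction c using Quotient.inductionOn with | _ g
    refine hz' g fun hg => hne ?_
    refine (QuotientGroup.eq.mpr ?_)
    rw [mul_one]
    exact inv_mem hg
  obtain ⟨a, ha⟩ := key (t * y) (fun g hg => by rw [map_mul, htfix g hg, hy g hg])
    (fun g hg => by rw [map_mul]; exact Q.mul_mem_right _ (htsep g hg))
  obtain ⟨b, hb⟩ := key t htfix htsep
  refine ⟨a, b, ?_, ?_⟩
  · intro hmem
    apply ht
    have := Q.sub_mem hmem hb
    simpa using this
  · have h1 : algebraMap A S b * x - algebraMap A S a =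
        (algebraMap A S b - t) * x - t * (y - x) - (algebraMap A S a - t * y) := by ring
    rw [h1]
    exact Q.sub_mem (Q.sub_mem (Q.mul_mem_right _ hb) (Q.mul_mem_left _ hyx)) ha

end Main

end K143.SH
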