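import Groth.Agent.Hensel.K143.SHRoot

/-!
Stages in the strict henselization `S` of a henselian local ring `A`: existence, faithful flatness, and
every finite subset of `S` lies in `A[θ]` for a stage `θ`.
-/

set_option autoImplicit false

universe u

namespace K143.SH

open IsLocalRing Polynomial

variable {A : Type u} {S : Type u} [CommRing A] [IsLocalRing A] [CommRing S] [IsLocalRing S] [Algebra A S]
  [IsLocalHom (algebraMap A S)]

/-- For a stage, `A[X]/(f) → S` is faithfully flat. -/
theorem IsStage.faithfullyFlat {θ : S} {f : A[X]} (h : IsStage A θ f) [Module.Flat A S] :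
    @Module.FaithfullyFlat (AdjoinRoot f) S _ _ h.hom.toRingHom.toAlgebra.toModule := by
  have := h.etale
  have := h.isLocalRing
  have h1 : h.hom.toRingHom.Flat := Groth.Agent.Hensel.EtaleNbhd.flat_of_etale A h.hom
  have h2 := h.isLocalHom_hom
  algebraize [h.hom.toRingHom]
  exact Groth.Agent.Hensel.EtaleNbhd.faithfullyFlat

theorem IsStage.injective {θ : S} {f : A[X]} (h : IsStage A θ f) [Module.Flat A S] :
    Function.Injective h.hom := by
  have h1 := h.faithfullyFlat
  algebraize [h.hom.toRingHom]
  exact FaithfulSMul.algebraMap_injective (AdjoinRoot f) S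

theorem IsStage.mem_map_of_aeval_mem {θ : S} {f : A[X]} (h : IsStage A θ f) [Module.Flat A S]
    (I : Ideal A) (p : A[X]) (hp : aeval θ p ∈ I.map (algebraMap A S)) :
    AdjoinRoot.mk f p ∈ I.map (algebraMap A (AdjoinRoot f)) := by
  have h1 := h.faithfullyFlat
  algebraize [h.hom.toRingHom]
  have h2 := Ideal.comap_map_eq_self_of_faithfullyFlat (B := S) (I.map (algebraMap A (AdjoinRoot f)))
  rw [← h2, Ideal.mem_comap, Ideal.map_map]
  have h8 : (algebraMap (AdjoinRoot f) S).comp (algebraMap A (AdjoinRoot f)) = algebraMap A S :=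
    h.hom.comp_algebraMap
  rw [h8]
  exact hp

/-- Every separable element of the residue field of a henselian ring lifts to a stage. -/
theorem exists_stage' (hS : HenselianLocalRing S) (x : ResidueField S)
    (hx : IsSeparable (ResidueField A) x) : ∃ (θ : S) (f : A[X]), IsStage A θ f ∧ residue S θ = x := by
  have hint : IsIntegral (ResidueField A) x := hx.isIntegral
  obtain ⟨f, hf1, hf2, hf3⟩ := Polynomial.lifts_and_natDegree_eq_and_monic
    (f := residue A) (p := minpoly (ResidueField A) x) (by
      rw [Polynomial.lifts_iff_coeff_lifts]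
      intro n
      exact residue_surjective _) (minpoly.monic hint)
  have h1 := ((HenselianLocalRing.TFAE S).out 0 1 :).mp hS (f.map (algebraMap A S)) (hf3.map _) x
  have h2 : ∀ p : A[X], aeval x (p.map (algebraMap A S)) = aeval x (p.map (residue A)) := by
    intro p
    rw [aeval_def, aeval_def, Polynomial.eval₂_map, Polynomial.eval₂_map]
    rfl
  obtain ⟨θ, hθ1, hθ2⟩ := h1 (by rw [h2, hf1]; exact minpoly.aeval _ _) (by
    rw [Polynomial.derivative_map, h2, ← Polynomial.derivative_map, hf1]
    exact Polynomial.Separable.aeval_derivative_ne_zero hx (minpoly.aeval _ _))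
  refine ⟨θ, f, ⟨hf3, ?_, ?_, ?_⟩, hθ2⟩
  · rw [← Polynomial.eval_map_algebraMap]; exact hθ1
  · rw [hf1, hθ2]
  · rw [hf1]; exact hx

variable (A) in
/-- Every element of the residue field of the strict henselization lifts to a stage. -/
theorem exists_stage [h : Hensel.IsStrictHenselization A S] (x : ResidueField S) :
    ∃ (θ : S) (f : A[X]), IsStage A θ f ∧ residue S θ = x := by
  have := h.henselian
  have := h.isSepClosure
  exact exists_stage' h.henselian x (Algebra.IsSeparable.isSeparable (ResidueField A) x)

theorem IsStage.isSeparable {θ : S} {f : A[X]} (h : IsStage A θ f) :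
    IsSeparable (ResidueField A) (residue S θ) := by
  have := h.sep
  rw [h.map_eq] at this
  exact this

end K143.SH

namespace K143.SH

open IsLocalRing Polynomial

variable (A : Type u) {S : Type u} [CommRing A] [HenselianLocalRing A] [CommRing S] [IsLocalRing S] [Algebra A S]
  [IsLocalHom (algebraMap A S)] [h : Hensel.IsStrictHenselization A S]

/-- Every finite subset of the strict henselization lies in a stage. -/
theorem exists_stage_finset (s : Finset S) :
    ∃ (θ : S) (f : A[X]), IsStage A θ f ∧ ∀ x ∈ s, ∃ p : A[X], aeval θ p = x := by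
  have hSh := h.henselian
  have hsepc := h.isSepClosure
  have hff : Module.FaithfullyFlat A S := Groth.Agent.S0539.result A S
  have hcov := (Groth.Agent.Hensel.Exist.isHull_of_isStrictHenselization A S).exists_etale_finset
  obtain ⟨C, _, _, _, χ, hχ⟩ := hcov s
  let q : Ideal C := (maximalIdeal S).comap χ.toRingHom
  have hq : q.IsPrime := Ideal.IsPrime.comap _
  let E := Localization.AtPrime q
  let ψ : E →ₐ[A] S := IsLocalization.liftAlgHom (M := q.primeCompl) (f := χ) (by
    rintro ⟨y, hy⟩
    by_contra hc
    exact hy ((mem_maximalIdeal _).mpr hc))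
  have hψ : ∀ a : C, ψ (algebraMap C E a) = χ a := fun a => by simp [ψ]
  have hqA : q.comap (algebraMap A C) = maximalIdeal A := by
    rw [Ideal.comap_comap]
    have h8 : χ.toRingHom.comp (algebraMap A C) = algebraMap A S := χ.comp_algebraMap
    rw [h8]
    exact IsLocalRing.maximalIdeal_comap _
  have hE : EGA4loc.IsEssentiallyEtale A E := ⟨C, _, _, q, _, inferInstance, hqA, ⟨AlgEquiv.refl⟩⟩
  -- local homs
  have hψloc : IsLocalHom ψ.toRingHom := by
    constructor
    intro x hx
    obtain ⟨c, t, rfl⟩ := IsLocalization.exists_mk'_eq q.primeCompl x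
    rw [IsLocalization.AtPrime.isUnit_mk'_iff (S := E) q]
    intro hc
    have h1 : ψ (algebraMap C E c) ∈ maximalIdeal S := by rw [hψ]; exact hc
    have h2 : (IsLocalization.mk' E c t) * algebraMap C E t = algebraMap C E c :=
      IsLocalization.mk'_spec E c t
    rw [← h2, map_mul] at h1
    have h3 : IsUnit (ψ (algebraMap C E t)) := (IsLocalization.map_units E t).map ψ
    exact (notMem_maximalIdeal.mpr (IsUnit.mul hx h3)) h1
  have hloc : IsLocalHom (algebraMap A E) := by
    constructor
    intro a ha
    have h1 : IsUnit (ψ (algebraMap A E a)) := ha.map ψ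
    rw [ψ.commutes] at h1
    exact isUnit_of_map_unit (algebraMap A S) a h1
  have hfin : Module.Finite A E := K143.EssEt.module_finite A E hE
  have hunr := Groth.Agent.UnramB.EssEtale.formallyUnramified_of hE
  have hEm : (maximalIdeal A).map (algebraMap A E) = maximalIdeal E :=
    Algebra.FormallyUnramified.map_maximalIdeal
  have hEh : HenselianLocalRing E := Groth.Agent.S0505.result A E
  have hfinres : Module.Finite (ResidueField A) (ResidueField E) := inferInstance
  have hsepres : Algebra.IsSeparable (ResidueField A) (ResidueField E) := inferInstance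
  obtain ⟨α, hα⟩ := Field.exists_primitive_element (ResidueField A) (ResidueField E)
  obtain ⟨θ', f, hθ', hθ'α⟩ := exists_stage' hEh α (Algebra.IsSeparable.isSeparable (ResidueField A) α)
  -- residue field map
  let ρ : ResidueField E →+* ResidueField S := ResidueField.map ψ.toRingHom
  have hρ : ∀ x : E, ρ (residue E x) = residue S (ψ x) := fun x => rfl
  have hρA : ∀ a : ResidueField A, ρ (algebraMap _ _ a) = algebraMap _ _ a := by
    intro a
    obtain ⟨a, rfl⟩ := residue_surjective a
    have h1 : algebraMap (ResidueField A) (ResidueField E) (residue A a) = residue E (algebraMap A E a) := rfl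
    have h2 : algebraMap (ResidueField A) (ResidueField S) (residue A a) = residue S (algebraMap A S a) := rfl
    rw [h1, h2, hρ, ψ.commutes]
  let ρA : ResidueField E →ₐ[ResidueField A] ResidueField S := { ρ with commutes' := hρA }
  have hst : IsStage A (ψ θ') f := by
    refine ⟨hθ'.monic, ?_, ?_, hθ'.sep⟩
    · rw [Polynomial.aeval_algHom_apply, hθ'.root, map_zero]
    · rw [hθ'.map_eq, ← hρ]
      exact (minpoly.algHom_eq ρA ρA.toRingHom.injective (residue E θ')).symm
  -- `E = A[θ']`
  have hgen : ∀ x : E, ∃ p : A[X], aeval θ' p = x := by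
    have htop : (Algebra.adjoin A {θ'}).toSubmodule ⊔ (maximalIdeal A) • (⊤ : Submodule A E) = ⊤ := by
      rw [eq_top_iff]
      intro x _
      have h1 : residue E x ∈ IntermediateField.adjoin (ResidueField A) {α} := by
        rw [hα]; trivial
      rw [← IntermediateField.mem_toSubalgebra,
        IntermediateField.adjoin_simple_toSubalgebra_of_isAlgebraic
          (Algebra.IsAlgebraic.isAlgebraic α), Algebra.adjoin_singleton_eq_range_aeval] at h1
      obtain ⟨q, hq⟩ := h1
      obtain ⟨p, rfl⟩ := Polynomial.map_surjective (residue A) residue_surjective q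
      have h2 : residue E (aeval θ' p) = residue E x := by
        rw [residue_aeval, hθ'α]; exact hq
      have h3 : x - aeval θ' p ∈ maximalIdeal E := by
        rw [← residue_eq_zero_iff, map_sub, h2, sub_self]
      rw [← hEm] at h3
      have h4 : x = aeval θ' p + (x - aeval θ' p) := by ring
      rw [h4]
      refine Submodule.add_mem_sup ?_ ?_
      · rw [Subalgebra.mem_toSubmodule, Algebra.adjoin_singleton_eq_range_aeval]
        exact ⟨p, rfl⟩
      · rw [Ideal.smul_top_eq_map]
        exact h3
    have h5 := Submodule.le_of_le_smul_of_le_jacobson_bot (R := A) (M := E)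
      (N := (Algebra.adjoin A {θ'}).toSubmodule) (N' := ⊤) (I := maximalIdeal A)
      Module.Finite.fg_top (by rw [IsLocalRing.jacobson_eq_maximalIdeal _ bot_ne_top]) htop.ge
    intro x
    have h6 : x ∈ (Algebra.adjoin A {θ'}).toSubmodule := h5 trivial
    rw [Subalgebra.mem_toSubmodule, Algebra.adjoin_singleton_eq_range_aeval] at h6
    exact h6
  refine ⟨ψ θ', f, hst, fun x hx => ?_⟩
  obtain ⟨c, hc⟩ := hχ hx
  obtain ⟨p, hp⟩ := hgen (algebraMap C E c)
  refine ⟨p, ?_⟩
  rw [Polynomial.aeval_algHom_apply, hp, hψ]
  exact hc

end K143.SH
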