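import Groth.Agent.Hensel.K143.SHRes
import Groth.Agent.S2747
import Mathlib.RingTheory.Ideal.GoingDown

/-!
The total ring of fractions of a subring `D` of the strict henselization `S` of a henselian Noetherian reduced
local ring: its maps to the fraction fields of `S/Q`, `Q` a minimal prime of `S`.
-/

set_option autoImplicit false

universe u

namespace K143.SH

open IsLocalRing Polynomial

section Flat

variable {A S : Type u} [CommRing A] [CommRing S] [Algebra A S]

/-- Minimal primes contract to minimal primes along flat maps. -/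
theorem comap_mem_minimalPrimes_of_flat [Module.Flat A S] (Q : Ideal S) (hQ : Q ∈ minimalPrimes S) :
    Q.comap (algebraMap A S) ∈ minimalPrimes A := by
  have hQp : Q.IsPrime := hQ.1.1
  refine ⟨⟨inferInstance, bot_le⟩, ?_⟩
  rintro p ⟨hp, -⟩ hle
  have : Q.LiesOver (Q.comap (algebraMap A S)) := ⟨rfl⟩
  obtain ⟨P, hPQ, hP, hPp⟩ := Ideal.exists_ideal_le_liesOver_of_le (q := Q.comap (algebraMap A S)) Q hle
  have h1 : Q = P := le_antisymm (hQ.2 ⟨hP, bot_le⟩ hPQ) hPQ
  subst h1
  rw [Q.over_def p]

end Flat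

section Main

variable (A D : Type u) {S : Type u} [CommRing A] [HenselianLocalRing A] [CommRing D] [CommRing S] [IsLocalRing S]
  [Algebra A S] [IsLocalHom (algebraMap A S)] [h : Hensel.IsStrictHenselization A S] [Algebra A D] [Algebra D S]
  [IsScalarTower A D S]

include A h in
/-- Minimal primes of `S` contract to minimal primes of `D`. -/
theorem comap_mem_minimalPrimes (hinj : Function.Injective (algebraMap D S)) (Q : Ideal S)
    (hQ : Q ∈ minimalPrimes S) : Q.comap (algebraMap D S) ∈ minimalPrimes D := by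
  have hQp : Q.IsPrime := hQ.1.1
  have hff : Module.FaithfullyFlat A S := Groth.Agent.S0539.result A S
  have hint := isIntegral_sub A D S hinj
  obtain ⟨P, hP, hPQ⟩ := Ideal.exists_minimalPrimes_le (I := ⊥) (J := Q.comap (algebraMap D S)) bot_le
  have hPp : P.IsPrime := hP.1.1
  have h1 : P = Q.comap (algebraMap D S) := by
    by_contra hne
    have hlt : P < Q.comap (algebraMap D S) := lt_of_le_of_ne hPQ hne
    have h2 := Ideal.IsIntegral.comap_lt_comap (R := A) hlt
    have h3 := (comap_mem_minimalPrimes_of_flat (A := A) Q hQ).2 ⟨Ideal.comap_isPrime (algebraMap A D) P, bot_le⟩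
      (by
        refine (Ideal.comap_mono hPQ).trans ?_
        rw [Ideal.comap_comap, ← IsScalarTower.algebraMap_eq])
    refine not_lt_of_ge h3 ?_
    rw [Ideal.comap_comap, ← IsScalarTower.algebraMap_eq] at h2
    exact h2
  rw [← h1]
  exact hP

variable (Q : Ideal S) [Q.IsPrime]

/-- The structure map of `D` to the fraction field of `S/Q`. -/
noncomputable def subFrac : D →ₐ[A] FractionRing (S ⧸ Q) :=
  (toFrac A Q).comp (IsScalarTower.toAlgHom A D S)

omit [HenselianLocalRing A] [IsLocalRing S] [IsLocalHom (algebraMap A S)] h [Q.IsPrime] in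
theorem subFrac_apply (d : D) : subFrac A D Q d = toFrac A Q (algebraMap D S d) := rfl

include h in
theorem isUnit_subFrac (hinj : Function.Injective (algebraMap D S))
    (hQ : Q ∈ minimalPrimes S) (d : nonZeroDivisors D) : IsUnit (subFrac A D Q d) := by
  rw [isUnit_iff_ne_zero, subFrac_apply, ne_eq, toFrac_eq_zero_iff]
  intro hd
  have h1 := Ideal.disjoint_nonZeroDivisors_of_mem_minimalPrimes (comap_mem_minimalPrimes A D hinj Q hQ)
  exact Set.disjoint_left.mp h1 hd d.2

/-- The map from the total ring of fractions of `D` to the fraction field of `S/Q`. -/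
noncomputable def totFrac (hinj : Function.Injective (algebraMap D S)) (hQ : Q ∈ minimalPrimes S) :
    FractionRing D →ₐ[A] FractionRing (S ⧸ Q) :=
  IsLocalization.liftAlgHom (M := nonZeroDivisors D) (f := subFrac A D Q) (isUnit_subFrac A D Q hinj hQ)

theorem totFrac_algebraMap (hinj : Function.Injective (algebraMap D S)) (hQ : Q ∈ minimalPrimes S) (d : D) :
    totFrac A D Q hinj hQ (algebraMap D (FractionRing D) d) = toFrac A Q (algebraMap D S d) :=
  IsLocalization.lift_eq _ _

omit [Q.IsPrime] in
/-- Elements of the total ring of fractions of `D` killed by all maps are zero. -/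
theorem eq_zero_of_totFrac [IsReduced S] (hinj : Function.Injective (algebraMap D S)) (x : FractionRing D)
    (hx : ∀ (Q : Ideal S) (_ : Q.IsPrime) (hQ : Q ∈ minimalPrimes S), totFrac A D Q hinj hQ x = 0) : x = 0 := by
  obtain ⟨a, b, rfl⟩ := IsLocalization.exists_mk'_eq (nonZeroDivisors D) x
  have h1 : algebraMap D S a = 0 := by
    have h2 : algebraMap D S a ∈ nilradical S := by
      rw [nilradical, ← Ideal.sInf_minimalPrimes, Ideal.mem_sInf]
      intro Q hQ
      have hQp : Q.IsPrime := hQ.1.1
      have h3 := hx Q hQp hQ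
      have h4 : totFrac A D Q hinj hQ (algebraMap D (FractionRing D) a) = 0 := by
        rw [← IsLocalization.mk'_spec (FractionRing D) a b, map_mul, h3, zero_mul]
      rw [totFrac_algebraMap, toFrac_eq_zero_iff] at h4
      exact h4
    rw [nilradical_eq_zero, Ideal.zero_eq_bot, Ideal.mem_bot] at h2
    exact h2
  have h2 : a = 0 := hinj (by rw [h1, map_zero])
  rw [h2, IsLocalization.mk'_zero]

/-- Elements of `S` in the image of the total ring of fractions of `D` are fixed by automorphisms fixing `D`. -/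
theorem fixed_of_totFrac (hinj : Function.Injective (algebraMap D S)) (hQ : Q ∈ minimalPrimes S) (z : S)
    (x : FractionRing D) (hx : totFrac A D Q hinj hQ x = toFrac A Q z) (g : S ≃ₐ[A] S) (hg : g ∈ stab Q)
    (hgD : ∀ d : D, g (algebraMap D S d) - algebraMap D S d ∈ Q) : g z - z ∈ Q := by
  obtain ⟨a, b, rfl⟩ := IsLocalization.exists_mk'_eq (nonZeroDivisors D) x
  have h1 : toFrac A Q (algebraMap D S a) = toFrac A Q z * toFrac A Q (algebraMap D S b) := by
    rw [← hx, ← totFrac_algebraMap A D Q hinj hQ, ← totFrac_algebraMap A D Q hinj hQ, ← map_mul,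
      IsLocalization.mk'_spec]
  have h2 := congrArg (fracMap g hg) h1
  rw [map_mul, fracMap_toFrac, fracMap_toFrac, fracMap_toFrac] at h2
  have h3 : ∀ d : D, toFrac A Q (g (algebraMap D S d)) = toFrac A Q (algebraMap D S d) := fun d =>
    (toFrac_eq_iff _ _).mpr (hgD d)
  rw [h3, h3, h1] at h2
  have h4 : toFrac A Q (algebraMap D S b) ≠ 0 := (isUnit_subFrac A D Q hinj hQ b).ne_zero
  have h5 := mul_right_cancel₀ h4 h2
  exact (toFrac_eq_iff _ _).mp h5.symm

/-- Elements of the subfield generated by `D` are fractions. -/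
theorem exists_frac_of_mem_adjoin (w : FractionRing (S ⧸ Q))
    (hw : w ∈ IntermediateField.adjoin (baseField A Q) (Set.range (subFrac A D Q))) :
    ∃ a b : D, algebraMap D S b ∉ Q ∧ w = toFrac A Q (algebraMap D S a) / toFrac A Q (algebraMap D S b) := by
  have h0 : baseField A Q ≤ Subfield.closure (Set.range (subFrac A D Q)) := by
    refine Subfield.closure_le.mpr ?_
    rintro _ ⟨c, rfl⟩
    exact Subfield.subset_closure ⟨algebraMap A D c, (subFrac A D Q).commutes c⟩
  have h2 : w ∈ Subfield.closure (Set.range (subFrac A D Q)) := by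
    refine IntermediateField.adjoin_induction (F := baseField A Q) (E := FractionRing (S ⧸ Q))
      (s := Set.range (subFrac A D Q)) (p := fun w _ => w ∈ Subfield.closure (Set.range (subFrac A D Q)))
      ?_ ?_ ?_ ?_ ?_ hw
    · intro x hx
      exact Subfield.subset_closure hx
    · intro x
      exact h0 x.2
    · intro x y _ _ hx hy
      exact add_mem hx hy
    · intro x _ hx
      exact inv_mem hx
    · intro x y _ _ hx hy
      exact mul_mem hx hy
  rw [Subfield.mem_closure_iff] at h2
  have h3 : Subring.closure (Set.range (subFrac A D Q)) =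
      (subFrac A D Q : D →+* FractionRing (S ⧸ Q)).range := by
    refine le_antisymm (Subring.closure_le.mpr ?_) ?_
    · rintro _ ⟨d, rfl⟩
      exact ⟨d, rfl⟩
    · rintro _ ⟨d, rfl⟩
      exact Subring.subset_closure ⟨d, rfl⟩
  rw [h3] at h2
  obtain ⟨_, ⟨a, rfl⟩, _, ⟨b, rfl⟩, rfl⟩ := h2
  by_cases hb : algebraMap D S b ∈ Q
  · refine ⟨0, 1, ?_, ?_⟩
    · rw [map_one]
      exact fun h0 => (Ideal.IsPrime.ne_top inferInstance) ((Ideal.eq_top_iff_one _).mpr h0)
    · have h4 : subFrac A D Q b = 0 := (toFrac_eq_zero_iff (A := A) (Q := Q) (algebraMap D S b)).mpr hb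
      change subFrac A D Q a / subFrac A D Q b = _
      rw [h4, map_zero, map_zero, zero_div, div_zero]
  · exact ⟨a, b, hb, rfl⟩

theorem totFrac_eq_zero_iff (hinj : Function.Injective (algebraMap D S)) (hQ : Q ∈ minimalPrimes S)
    (a : D) (b : nonZeroDivisors D) :
    totFrac A D Q hinj hQ (IsLocalization.mk' (FractionRing D) a b) = 0 ↔ a ∈ Q.comap (algebraMap D S) := by
  have h1 : totFrac A D Q hinj hQ (IsLocalization.mk' (FractionRing D) a b) * toFrac A Q (algebraMap D S b) =
      toFrac A Q (algebraMap D S a) := by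
    rw [← totFrac_algebraMap A D Q hinj hQ, ← totFrac_algebraMap A D Q hinj hQ, ← map_mul,
      IsLocalization.mk'_spec]
  have h4 : toFrac A Q (algebraMap D S b) ≠ 0 := (isUnit_subFrac A D Q hinj hQ b).ne_zero
  rw [Ideal.mem_comap, ← toFrac_eq_zero_iff (A := A), ← h1, mul_eq_zero, or_iff_left h4]

theorem totFrac_eq_zero_congr (hinj : Function.Injective (algebraMap D S)) (hQ : Q ∈ minimalPrimes S)
    (Q' : Ideal S) [Q'.IsPrime] (hQ' : Q' ∈ minimalPrimes S)
    (hQQ : Q'.comap (algebraMap D S) = Q.comap (algebraMap D S)) (x : FractionRing D)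
    (hx : totFrac A D Q hinj hQ x = 0) : totFrac A D Q' hinj hQ' x = 0 := by
  obtain ⟨a, b, rfl⟩ := IsLocalization.exists_mk'_eq (nonZeroDivisors D) x
  rw [totFrac_eq_zero_iff] at hx ⊢
  rwa [hQQ]

/-- Elements of `S` fixed (modulo `Q`) by the automorphisms fixing `D` modulo `Q` come from the total ring of
fractions of `D`, and even from its integral closure. -/
theorem exists_totFrac_of_fixed [IsNoetherianRing A] [IsReduced S] (hinj : Function.Injective (algebraMap D S))
    (hQ : Q ∈ minimalPrimes S) (z : S)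
    (hz : ∀ g ∈ stab (A := A) Q, (∀ d : D, g (algebraMap D S d) - algebraMap D S d ∈ Q) → g z - z ∈ Q) :
    ∃ x : FractionRing D, IsIntegral A x ∧ totFrac A D Q hinj hQ x = toFrac A Q z := by
  classical
  have hSN : IsNoetherianRing S := (Groth.Agent.S0540.result A S).mp inferInstance
  have hintS := isIntegral_strict A S
  -- `z` is a fraction of elements of `D`
  have hzL : toFrac A Q z ∈ IntermediateField.adjoin (baseField A Q) (Set.range (subFrac A D Q)) := by
    refine mem_of_fixed A Q hQ _ _ fun g hg hgL => ?_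
    rw [fracMap_toFrac, toFrac_eq_iff]
    refine hz g hg fun d => ?_
    rw [← toFrac_eq_iff (A := A), ← fracMap_toFrac g hg]
    exact hgL _ (IntermediateField.subset_adjoin _ _ ⟨d, rfl⟩)
  obtain ⟨a, b, hb, hab⟩ := exists_frac_of_mem_adjoin A D Q _ hzL
  -- minimal primes of `D`
  set P := Q.comap (algebraMap D S) with hP
  have hPm : P ∈ minimalPrimes D := comap_mem_minimalPrimes A D hinj Q hQ
  have hPp : P.IsPrime := hPm.1.1
  have hfin : (minimalPrimes D).Finite := by
    have hfS : (minimalPrimes S).Finite := minimalPrimes.finite_of_isNoetherianRing S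
    refine (hfS.image (Ideal.comap (algebraMap D S))).subset ?_
    intro p hp
    obtain ⟨p', hp', hpp⟩ := Ideal.exists_comap_eq_of_mem_minimalPrimes_of_injective hinj p hp
    obtain ⟨Q', hQ', hle⟩ := Ideal.exists_minimalPrimes_le (I := ⊥) (J := p') bot_le
    have hQ'm := comap_mem_minimalPrimes A D hinj Q' hQ'
    have hQ'p : Q'.IsPrime := hQ'.1.1
    refine ⟨Q', hQ', le_antisymm ?_ ?_⟩
    · rw [← hpp]; exact Ideal.comap_mono hle
    · exact hp.2 ⟨hQ'm.1.1, bot_le⟩ (by rw [← hpp]; exact Ideal.comap_mono hle)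
  -- an element `t` outside `P` in all other minimal primes
  obtain ⟨t, ht, htP⟩ : ∃ t ∈ (hfin.toFinset.erase P).inf id, t ∉ P := by
    rw [← SetLike.not_le_iff_exists]
    intro hle
    obtain ⟨p, hp, hpP⟩ := (Ideal.IsPrime.inf_le' hPp).1 hle
    obtain ⟨hne, hp⟩ := Finset.mem_erase.1 hp
    have hp' := hfin.mem_toFinset.1 hp
    exact hne (le_antisymm hpP (hPm.2 ⟨hp'.1.1, bot_le⟩ hpP))
  have ht' : ∀ p ∈ minimalPrimes D, p ≠ P → t ∈ p := by
    intro p hp hne
    have h2 : (hfin.toFinset.erase P).inf id ≤ p :=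
      Finset.inf_le (f := id) (Finset.mem_erase.2 ⟨hne, hfin.mem_toFinset.2 hp⟩)
    exact h2 ht
  -- an element `u` in `P` outside all other minimal primes
  obtain ⟨u, huP, hu⟩ : ∃ u ∈ P, ∀ p ∈ minimalPrimes D, p ≠ P → u ∉ p := by
    by_contra hcon
    push Not at hcon
    have h1 : (P : Set D) ⊆ ⋃ i ∈ ((hfin.toFinset.erase P : Finset (Ideal D)) : Set (Ideal D)),
        ((id i : Ideal D) : Set D) := by
      intro u hu
      obtain ⟨p, hp, hne, hup⟩ := hcon u hu
      exact Set.mem_biUnion (Finset.mem_coe.mpr (Finset.mem_erase.mpr ⟨hne, hfin.mem_toFinset.mpr hp⟩)) hup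
    obtain ⟨p, hp, hle⟩ := (Ideal.subset_union_prime (s := hfin.toFinset.erase P) (f := id) P P
      (fun i hi _ _ => (hfin.mem_toFinset.mp (Finset.mem_erase.mp hi).2).1.1)).mp h1
    obtain ⟨hne, hp⟩ := Finset.mem_erase.1 hp
    have hp' := hfin.mem_toFinset.1 hp
    exact hne (le_antisymm (hp'.2 ⟨hPp, bot_le⟩ hle) hle)
  -- the denominator
  have hmin : ∀ (Q' : Ideal S), Q' ∈ minimalPrimes S → algebraMap D S (t * b + u) ∉ Q' := by
    intro Q' hQ'
    have hQ'm := comap_mem_minimalPrimes A D hinj Q' hQ'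
    have hQ'p : (Q'.comap (algebraMap D S)).IsPrime := hQ'm.1.1
    change t * b + u ∉ Q'.comap (algebraMap D S)
    by_cases hPP : Q'.comap (algebraMap D S) = P
    · rw [hPP]
      intro hmem
      have h1 : t * b ∈ P := by
        have := P.sub_mem hmem huP
        simpa using this
      rcases hPp.mem_or_mem h1 with h2 | h2
      · exact htP h2
      · exact hb h2
    · intro hmem
      have h1 : u ∈ Q'.comap (algebraMap D S) := by
        have := (Q'.comap (algebraMap D S)).sub_mem hmem (Ideal.mul_mem_right b _ (ht' _ hQ'm hPP))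
        simpa using this
      exact hu _ hQ'm hPP h1
  have hnzd : t * b + u ∈ nonZeroDivisors D := by
    rw [mem_nonZeroDivisors_iff_right]
    intro y hy
    have h1 : algebraMap D S y ∈ nilradical S := by
      rw [nilradical, ← Ideal.sInf_minimalPrimes, Ideal.mem_sInf]
      intro Q' hQ'
      have hQ'p : Q'.IsPrime := hQ'.1.1
      have h2 : algebraMap D S y * algebraMap D S (t * b + u) ∈ Q' := by
        rw [← map_mul, hy, map_zero]; exact Q'.zero_mem
      exact (hQ'p.mem_or_mem h2).resolve_right (hmin Q' hQ')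
    rw [nilradical_eq_zero, Ideal.zero_eq_bot, Ideal.mem_bot] at h1
    exact hinj (by rw [h1, map_zero])
  let x : FractionRing D := IsLocalization.mk' (FractionRing D) (t * a) ⟨t * b + u, hnzd⟩
  have hxQ : totFrac A D Q hinj hQ x = toFrac A Q z := by
    have h1 : totFrac A D Q hinj hQ x * toFrac A Q (algebraMap D S (t * b + u)) =
        toFrac A Q (algebraMap D S (t * a)) := by
      rw [← totFrac_algebraMap A D Q hinj hQ, ← totFrac_algebraMap A D Q hinj hQ, ← map_mul]
      congr 1
      exact IsLocalization.mk'_spec _ _ _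
    have h2 : toFrac A Q (algebraMap D S u) = 0 := (toFrac_eq_zero_iff _).mpr huP
    have h3 : toFrac A Q (algebraMap D S t) ≠ 0 := fun h0 => htP ((toFrac_eq_zero_iff (algebraMap D S t)).mp h0)
    have h4 : toFrac A Q (algebraMap D S b) ≠ 0 := fun h0 => hb ((toFrac_eq_zero_iff _).mp h0)
    rw [map_add, map_add, h2, add_zero, map_mul, map_mul, map_mul, map_mul] at h1
    rw [hab, eq_div_iff h4]
    refine mul_left_cancel₀ h3 ?_
    rw [← h1]
    ring
  refine ⟨x, ?_, hxQ⟩
  obtain ⟨p, hpm, hp⟩ := Algebra.IsIntegral.isIntegral (R := A) z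
  refine ⟨X * p, monic_X.mul hpm, ?_⟩
  rw [← Polynomial.aeval_def]
  refine eq_zero_of_totFrac A D hinj _ fun Q' _ hQ' => ?_
  have hQ'm := comap_mem_minimalPrimes A D hinj Q' hQ'
  by_cases hPP : Q'.comap (algebraMap D S) = P
  · refine totFrac_eq_zero_congr A D Q hinj hQ Q' hQ' hPP _ ?_
    rw [← Polynomial.aeval_algHom_apply, hxQ, Polynomial.aeval_algHom_apply, map_mul]
    have h1 : aeval z p = 0 := hp
    rw [h1, mul_zero, map_zero]
  · have h1 : totFrac A D Q' hinj hQ' x = 0 := by
      rw [totFrac_eq_zero_iff]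
      exact Ideal.mul_mem_right a _ (ht' _ hQ'm hPP)
    rw [← Polynomial.aeval_algHom_apply, h1, map_mul, aeval_X, zero_mul]

end Main

end K143.SH
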